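import Groth.Agent.L16.Exist.Systems
import Groth.Agent.L16.Rees.FormalFunctions

/-!
The theorem on formal functions in terms of global sections, and change of the base ring of reductions.
-/

set_option autoImplicit false
set_option linter.style.haveILetI false
set_option backward.isDefEq.respectTransparency false
set_option backward.isDefEq.respectTransparency.types false

universe u

open CategoryTheory CategoryTheory.Limits AlgebraicGeometry TopologicalSpace Opposite

noncomputable section

namespace Groth.L16.Exist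

open Groth.L18.Frame (rs ro rs_rs rs_smul)
open Formal (smulMod smulFamily modPow modPowπ modPowTrans modPowπ_trans toHHmodPow)
open Formal2 (modPowLE modPowπ_modPowLE)
open AffineBC (scal)
open HomSh (h0Equiv h0Equiv_map)

variable {C : Type u} [CommRing C] {W : Scheme.{u}} [W.Over (Spec (CommRingCat.of C))]
  (I : Ideal C) {F : W.Modules}

theorem h0Equiv_smul (a : C) (x : Coh.HH W F 0) :
    h0Equiv F (a • x) = scal C W ⊤ a • h0Equiv F x := by
  have h : h0Equiv F (CohLinear.hmap (smulMod C F a) 0 x) = (smulMod C F a).app ⊤ (h0Equiv F x) :=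
    h0Equiv_map (smulMod C F a) x
  rw [Rees.hmap_smulMod] at h
  rw [h, HomSh.smulMod_app]

theorem h0Equiv_toHHmodPow (n : ℕ) (x : Coh.HH W F 0) :
    h0Equiv _ (toHHmodPow I F 0 n x) = (modPowπ I (n + 1) F).app ⊤ (h0Equiv F x) :=
  h0Equiv_map _ x

variable [IsNoetherianRing C] [IsProper (W ↘ Spec (CommRingCat.of C))]

/-- Sections killed by a reduction are divisible. -/
theorem sect_ker_le (hF : Coh.IsCoh F) :
    ∃ c : ℕ, ∀ n, c ≤ n → ∀ z : Γ(F, ⊤), (modPowπ I (n + 1) F).app ⊤ z = 0 →
      z ∈ I.map (scal C W ⊤) ^ (n - c) • (⊤ : Submodule Γ(W, ⊤) Γ(F, ⊤)) := by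
  obtain ⟨c, hc⟩ := Rees.exists_ker_le I hF 0
  refine ⟨c, fun n hn z hz => ?_⟩
  obtain ⟨x, rfl⟩ := (h0Equiv F).surjective z
  have h := hc n hn x ((h0Equiv _).injective (by rw [h0Equiv_toHHmodPow, hz, map_zero]))
  clear hz
  refine Submodule.smul_induction_on h (fun a ha y _ => ?_) (fun a b ha hb => ?_)
  · rw [h0Equiv_smul, ← Ideal.map_pow]
    exact Submodule.smul_mem_smul (Ideal.mem_map_of_mem _ ha) trivial
  · rw [map_add]; exact add_mem ha hb

/-- Sections of a reduction which lift far enough lift to sections. -/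
theorem sect_range (hF : Coh.IsCoh F) :
    ∃ c : ℕ, ∀ (n k : ℕ) (h : n ≤ k), n + c ≤ k → ∀ y : Γ(modPow I (k + 1) F, ⊤),
      ∃ z : Γ(F, ⊤), (modPowπ I (n + 1) F).app ⊤ z = (modPowLE I (Nat.succ_le_succ h) F).app ⊤ y := by
  obtain ⟨c, hc⟩ := Rees.exists_range_eq I hF 0
  refine ⟨c, fun n k h hk y => ?_⟩
  obtain ⟨y, rfl⟩ := (h0Equiv _).surjective y
  obtain ⟨z, hz⟩ := hc n k h hk y
  exact ⟨h0Equiv F z, by rw [← h0Equiv_toHHmodPow, hz]; exact h0Equiv_map _ y⟩

/-- Compatible families of sections of the reductions are sections, over a complete base. -/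
theorem sect_exists [IsAdicComplete I C] (hF : Coh.IsCoh F) (y : ∀ n, Γ(modPow I (n + 1) F, ⊤))
    (hy : ∀ n, (modPowTrans I (n + 1) F).app ⊤ (y (n + 1)) = y n) :
    ∃! z : Γ(F, ⊤), ∀ n, (modPowπ I (n + 1) F).app ⊤ z = y n := by
  have hb := Rees.toHHlim_bijective I hF 0
  let w : ∀ n, Formal.HHmodPow I F 0 n := fun n => (h0Equiv _).symm (y n)
  have hw : w ∈ Formal.HHlim I F 0 := fun n => (h0Equiv _).injective (by
    show h0Equiv _ (CategoryTheory.Sheaf.H.map _ 0 _) = _
    rw [h0Equiv_map, AddEquiv.apply_symm_apply, AddEquiv.apply_symm_apply]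
    exact hy n)
  obtain ⟨x, hx⟩ := hb.2 ⟨w, hw⟩
  refine ⟨h0Equiv F x, fun n => ?_, fun z hz => ?_⟩
  · rw [← h0Equiv_toHHmodPow, show toHHmodPow I F 0 n x = w n from congrFun (congrArg Subtype.val hx) n]
    exact AddEquiv.apply_symm_apply _ _
  · obtain ⟨x', rfl⟩ := (h0Equiv F).surjective z
    refine congrArg _ (hb.1 ((Subtype.ext (funext fun n => ?_)).trans hx.symm))
    refine (h0Equiv _).injective ?_
    show h0Equiv _ (toHHmodPow I F 0 n x') = h0Equiv _ ((h0Equiv _).symm (y n))
    rw [h0Equiv_toHHmodPow, hz, AddEquiv.apply_symm_apply]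

/-- Global sections are finite over the base. -/
theorem sect_finite (hF : Coh.IsCoh F) :
    letI := Module.compHom Γ(F, ⊤) (scal C W ⊤); Module.Finite C Γ(F, ⊤) := by
  letI := Module.compHom Γ(F, ⊤) (scal C W ⊤)
  haveI := ProperFinite.finite_HH C hF 0
  exact Module.Finite.equiv { h0Equiv F with map_smul' := fun a x => h0Equiv_smul a x }

section ChangeBase

variable {A : Type u} [CommRing A] {X : Scheme.{u}} [X.Over (Spec (CommRingCat.of A))]
  [X.Over (Spec (CommRingCat.of C))]

omit [IsNoetherianRing C] in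
/-- Reductions for compatible bases agree. -/
theorem exists_modPow_changeBase (J : Ideal A) (φ : A →+* C)
    (hφ : ∀ a (U : X.Opens), scal C X U (φ a) = scal A X U a) (N : X.Modules) (m : ℕ) :
    ∃ e : modPow J m N ≅ modPow (J.map φ) m N, modPowπ J m N ≫ e.hom = modPowπ (J.map φ) m N := by
  haveI := Existence.epi_modPowπ J m N
  haveI := Existence.epi_modPowπ (J.map φ) m N
  have hsm : ∀ a, smulMod C N (φ a) = smulMod A N a := fun a =>
    AffineBC.hom_ext_affine _ _ fun U _ x => by rw [HomSh.smulMod_app, HomSh.smulMod_app, hφ]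
  obtain ⟨r, hr⟩ := Existence.modPow_desc J (modPowπ (J.map φ) m N) fun a ha => by
    rw [← hsm]
    exact Rees.smulMod_modPowπ _ N (by rw [← Ideal.map_pow]; exact Ideal.mem_map_of_mem φ ha)
  obtain ⟨s, hs⟩ := Existence.modPow_desc (J.map φ) (modPowπ J m N) fun b hb => by
    refine AffineBC.hom_ext_affine _ _ fun U _ x => ?_
    show (modPowπ J m N).app U ((smulMod C N b).app U x) = 0
    rw [HomSh.smulMod_app]
    rw [← Ideal.map_pow] at hb
    induction hb using Submodule.span_induction generalizing x with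
    | mem b hb =>
      obtain ⟨a, ha, rfl⟩ := hb
      rw [← HomSh.smulMod_app, hsm]
      exact ConcreteCategory.congr_hom
        (congrArg (fun t => Scheme.Modules.Hom.app t U) (Rees.smulMod_modPowπ J N ha)) x
    | zero => rw [map_zero, zero_smul, map_zero]
    | add b c _ _ h h' => rw [map_add, add_smul, map_add, h, h', add_zero]
    | smul b c _ h => rw [smul_eq_mul, map_mul, mul_comm, mul_smul, h]
  exact ⟨⟨r, s, by rw [← cancel_epi (modPowπ J m N), reassoc_of% hr, hs, Category.comp_id],
    by rw [← cancel_epi (modPowπ (J.map φ) m N), reassoc_of% hs, hr, Category.comp_id]⟩, hr⟩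

end ChangeBase

end Groth.L16.Exist
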