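import Groth.Agent.L16.Exist.AdicVanish
import Groth.Agent.L16.Exist.FormalSect
import Groth.Agent.L18.AmpleGG
import Groth.Agent.L19.ConormalAffine

/-!
Uniform global generation of the twists of a coherent system of modules on an adic system of schemes.
-/

set_option autoImplicit false
set_option linter.style.haveILetI false
set_option backward.isDefEq.respectTransparency false
set_option backward.isDefEq.respectTransparency.types false

universe u

open CategoryTheory CategoryTheory.Limits AlgebraicGeometry TopologicalSpace Opposite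

noncomputable section

namespace Groth.L16.Exist.Adic

open Formal (smulMod)
open Groth.L00.Tensor (tensorLeftF tensorMap tensorIso tensorPowIso tensorComm)
open AffineBC (scal)

/-- The direct image of a globally generated module along a closed immersion is globally generated. -/
theorem isGloballyGenerated_push {Z X : Scheme.{u}} (f : Z ⟶ X) [IsClosedImmersion f] {N : Z.Modules}
    (h : Curv2.IsGloballyGenerated N) : Curv2.IsGloballyGenerated ((Coh.push f).obj N) := by
  obtain ⟨ι, pN, hp⟩ := h
  refine Groth.L18.Ample.isGloballyGenerated_of_kills _ fun G g hg => ?_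
  haveI := hp
  haveI : PreservesColimitsOfSize.{u, u} (Coh.push f) := Groth.L17.ClosedPush.preservesColimits_push f
  let P := Scheme.Modules.pullback f
  let ε : Coh.structureModule X ⟶ (Coh.push f).obj (Coh.structureModule Z) :=
    (Scheme.Modules.pullbackPushforwardAdjunction f).unit.app _ ≫
      (Coh.push f).map (Groth.L29.LocFree.pullbackUnitIso f).hom
  haveI := Groth.L19.Conormal.isQCoh_structureModule X
  haveI : Epi ((Scheme.Modules.pullbackPushforwardAdjunction f).unit.app (Coh.structureModule X)) :=
    ⟨fun u v huv => AffineBC.hom_ext_affine _ _ fun U hU m => by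
      obtain ⟨y, rfl⟩ := (ηU_spec f (Coh.structureModule X) ⟨U, hU⟩).1 m
      exact ConcreteCategory.congr_hom (congrArg (fun t => Scheme.Modules.Hom.app t U) huv) y⟩
  haveI : Epi ε := epi_comp' ‹_› inferInstance
  let p' : (∐ fun _ : ι => Coh.structureModule Z) ⟶ N := pN
  haveI : Epi p' := hp
  have key : (Coh.push f).map p' ≫ g = 0 := by
    rw [← cancel_epi (sigmaComparison (Coh.push f) fun _ : ι => Coh.structureModule Z), comp_zero]
    apply Sigma.hom_ext
    intro x
    rw [comp_zero, ι_comp_sigmaComparison_assoc, ← cancel_epi ε, comp_zero, ← sub_zero (ε ≫ _)]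
    refine Groth.L16.eq_zero_of_app_top_eq_zero _ ?_
    rw [sub_zero]
    exact hg _
  exact (cancel_epi ((Coh.push f).map p')).1 (key.trans comp_zero.symm)

/-- Global sections lift when the first cohomology of the kernel vanishes. -/
theorem surjective_app_top {X : Scheme.{u}} {T : ShortComplex X.Modules} (hT : T.ShortExact)
    (h : Subsingleton (Coh.HH X T.X₁ 1)) : Function.Surjective (T.g.app ⊤) := fun s => by
  obtain ⟨y, hy⟩ := (CohLinear.exact_hmap_delta hT 0 ((HomSh.h0Equiv T.X₃).symm s)).1 (h.elim _ _)
  refine ⟨HomSh.h0Equiv T.X₂ y, (HomSh.h0Equiv_map T.g y).symm.trans ?_⟩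
  refine (congrArg (HomSh.h0Equiv T.X₃) hy).trans ?_
  exact AddEquiv.apply_symm_apply _ _

variable {A : Type u} [CommRing A] [IsNoetherianRing A] {J : Ideal A} {Xs : ℕ → Scheme.{u}}
  [∀ k, (Xs k).Over (Spec (CommRingCat.of A))]
  {p : (k : ℕ) → (Xs k ⟶ Spec (CommRingCat.of (A ⧸ J ^ (k + 1))))} {i : (k : ℕ) → (Xs k ⟶ Xs (k + 1))}
  (S : IsSys J Xs p i) (F : (k : ℕ) → (Xs k).Modules) (hF : ∀ k, Coh.IsCoh (F k))
  (ψ : ∀ k, (Scheme.Modules.pullback (i k)).obj (F (k + 1)) ≅ F k)

include S hF ψ in
/-- Uniform global generation of the twists of a coherent system by an ample invertible system. -/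
theorem exists_uniform_gg [IsProper (Xs 0 ↘ Spec (CommRingCat.of A))]
    (L : (k : ℕ) → (Xs k).Modules) (hL : ∀ k, PicF.IsInvertible (L k))
    (φ : ∀ k, (Scheme.Modules.pullback (i k)).obj (L (k + 1)) ≅ L k) (ha : CohB1.IsAmple (L 0)) :
    ∃ N : ℕ, ∀ n : ℕ, N ≤ n → ∀ k : ℕ,
      Curv2.IsGloballyGenerated (CohB1.tensorMod (CohB1.tensorPow (L k) n) (F k)) := by
  obtain ⟨n₀, hv⟩ := exists_uniform_vanishing_sys S F hF ψ L hL φ ha
  obtain ⟨n₁, hg₀⟩ := Groth.L18.Ample.exists_forall_isGloballyGenerated ha (F 0) (hF 0)
  haveI : IsLocallyNoetherian (Xs 0) := LocallyOfFiniteType.isLocallyNoetherian (Xs 0 ↘ Spec (CommRingCat.of A))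
  haveI := isLocallyNoetherian S
  refine ⟨max n₀ n₁, fun n hn k => ?_⟩
  let O : ∀ k, (Xs k).Modules := fun k => CohB1.tensorPow (L k) n
  have hinv : ∀ k, PicF.IsInvertible (O k) := fun k => Groth.L18.Ample.isInvertible_tensorPow (hL k) n
  have hM : ∀ k, Coh.IsCoh (CohB1.tensorMod (O k) (F k)) := fun k =>
    have hP := ProperFinite.isCoh_of_isInvertible (hinv k)
    haveI : Coh.IsQCoh (O k) := hP.1
    haveI : Coh.IsQCoh (F k) := (hF k).1
    ⟨Groth.L00.Tensor.isQCoh_tensorMod _ _, Groth.L00.Tensor.isFT_tensorMod _ _ hP.2 (hF k).2⟩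
  induction k with
  | zero =>
    exact Groth.L18.Ample.isGloballyGenerated_of_iso (tensorComm _ _) (hg₀ n ((le_max_right _ _).trans hn))
  | succ k ih =>
    haveI := isClosedImmersion_i S k
    haveI := epi_c S F hF k
    let T₀ := tensorLeftF (O (k + 1))
    let ι₀ := kernel.ι (c (i := i) F k)
    obtain ⟨z, hT⟩ := shortExact_tensor (Existence.isFinLocFree_of_isInvertible (hinv (k + 1)))
      (show (ShortComplex.mk ι₀ (c (i := i) F k) (kernel.condition _)).ShortExact from
        { exact := ShortComplex.exact_kernel _, epi_g := inferInstance })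
    let d := T₀.map (c (i := i) F k)
    have hlift : Function.Surjective (d.app ⊤) :=
      surjective_app_top hT (hv n ((le_max_left _ _).trans hn) k 1 Nat.one_pos).2
    have hQ : Curv2.IsGloballyGenerated
        (T₀.obj ((Coh.push (i k)).obj ((Scheme.Modules.pullback (i k)).obj (F (k + 1))))) :=
      Groth.L18.Ample.isGloballyGenerated_of_iso
        ((Groth.L17.ProjFormula.projIso (i k) (O (k + 1)) (Existence.isFinLocFree_of_isInvertible (hinv _))).app _
          ≪≫ (Coh.push (i k)).mapIso (tensorIso (Groth.L18.Ample.pullPow _ _ n ≪≫ tensorPowIso (φ k) n) (ψ k))).symm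
        (isGloballyGenerated_push (i k) ih)
    -- the kernel lies in the multiples of `J ^ (k + 1)`
    have hP0 : (Scheme.Modules.pullback (i k)).map ι₀ = 0 := by
      let adj := Scheme.Modules.pullbackPushforwardAdjunction (i k)
      apply (adj.homEquiv _ _).injective
      rw [adj.homEquiv_unit, adj.homEquiv_unit]
      haveI : (Scheme.Modules.pushforward (i k)).Additive := adj.right_adjoint_additive
      rw [Functor.map_zero, comp_zero]
      exact (adj.unit.naturality ι₀).symm.trans (kernel.condition _)
    have hkc : T₀.map ι₀ ≫ c (i := i) (fun k => CohB1.tensorMod (O k) (F k)) k = 0 := by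
      let P := Scheme.Modules.pullback (i k)
      let adj := Scheme.Modules.pullbackPushforwardAdjunction (i k)
      have h1 : P.map (T₀.map ι₀) = 0 := by
        rw [← cancel_epi (Groth.L29.DC.PullTensor.pullTensor (i k) (O (k + 1)) (Kn (i := i) F k)).hom, comp_zero]
        refine (Groth.L29.DC.PullTensor.pullTensor_natural (i k) (𝟙 (O (k + 1))) ι₀).symm.trans ?_
        rw [show P.map ι₀ = 0 from hP0, P.map_id]
        show (tensorLeftF (P.obj (O (k + 1)))).map 0 ≫ _ = 0
        haveI := Groth.L17.Duality.hasSheafHom (P.obj (O (k + 1)))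
        haveI := (Groth.L17.Duality.dualAdj (P.obj (O (k + 1))) (Existence.isFinLocFree_of_isInvertible
          (Groth.L18.Ample.isInvertible_pullback (i k) (hinv (k + 1))))).isRightAdjoint
        haveI : (tensorLeftF (P.obj (O (k + 1)))).IsRightAdjoint :=
          Functor.isRightAdjoint_of_iso (Groth.L00.Tensor.tensorFlipIso _)
        haveI : (tensorLeftF (P.obj (O (k + 1)))).PreservesZeroMorphisms :=
          Functor.preservesZeroMorphisms_of_isRightAdjoint _
        rw [Functor.map_zero, zero_comp]
      haveI : (Scheme.Modules.pushforward (i k)).Additive := adj.right_adjoint_additive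
      refine (adj.unit.naturality (T₀.map ι₀)).trans ?_
      show adj.unit.app _ ≫ (Scheme.Modules.pushforward (i k)).map (P.map (T₀.map ι₀)) = 0
      rw [h1, Functor.map_zero, comp_zero]
    have hmem : ∀ (U : (Xs (k + 1)).affineOpens) z, (T₀.map ι₀).app U.1 z ∈
        (J ^ (k + 1)).map (scal A (Xs (k + 1)) U.1) •
          (⊤ : Submodule Γ(Xs (k + 1), U.1) Γ(CohB1.tensorMod (O (k + 1)) (F (k + 1)), U.1)) := fun U z =>
      (sect_c S (fun k => CohB1.tensorMod (O k) (F k)) hM k U).2 _
        (ConcreteCategory.congr_hom (congrArg (fun t => Scheme.Modules.Hom.app t U.1) hkc) z)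
    refine Groth.L18.Ample.isGloballyGenerated_of_kills _ fun G g hg => ?_
    have hfac : ∀ g' : CohB1.tensorMod (O (k + 1)) (F (k + 1)) ⟶ G, Groth.L18.Ample.KillsGlobal g' →
        T₀.map ι₀ ≫ g' = 0 → g' = 0 := fun g' hk h0 => by
      haveI := hT.epi_g
      obtain ⟨h, hh⟩ := CokernelCofork.IsColimit.desc' hT.gIsCokernel g' h0
      have h1 : h = 0 := by
        refine Groth.L18.Ample.eq_zero_of_killsGlobal hQ h fun t => ?_
        obtain ⟨y, rfl⟩ := hlift t
        exact (ConcreteCategory.congr_hom (congrArg (fun t => Scheme.Modules.Hom.app t ⊤) hh) y).trans (hk y)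
      rw [← hh, h1, comp_zero]
    have hzero : ∀ a ∈ J ^ (k + 1), smulMod A _ a ≫ g = 0 := fun a ha' => by
      refine hfac _ (fun t => hg _) (AffineBC.hom_ext_affine _ _ fun U hU z => ?_)
      show g.app U ((smulMod A _ a).app U ((T₀.map ι₀).app U z)) = 0
      rw [HomSh.smulMod_app]
      refine Submodule.smul_induction_on (hmem ⟨U, hU⟩ z) ?_ ?_
      · intro b hb x _
        rw [smul_smul]
        have hab : scal A (Xs (k + 1)) U a * b = 0 := by
          induction hb using Submodule.span_induction with
          | mem y hy =>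
            obtain ⟨t, ht, rfl⟩ := hy
            rw [← map_mul]
            refine scal_eq_zero (p (k + 1)) (S.base (k + 1)) ?_ U
            refine Ideal.pow_le_pow_right (show k + 1 + 1 ≤ k + 1 + (k + 1) by omega) ?_
            rw [pow_add]
            exact Ideal.mul_mem_mul ha' ht
          | zero => rw [mul_zero]
          | add y y' _ _ h h' => rw [mul_add, h, h', add_zero]
          | smul d y _ h => rw [smul_eq_mul, mul_left_comm, h, mul_zero]
        rw [hab, zero_smul, map_zero]
      · intro x y hx hy
        rw [smul_add, map_add, hx, hy, add_zero]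
    refine hfac g hg (AffineBC.hom_ext_affine _ _ fun U hU z => ?_)
    show g.app U ((T₀.map ι₀).app U z) = 0
    refine Submodule.smul_induction_on (hmem ⟨U, hU⟩ z) ?_ ?_
    · intro b hb x _
      induction hb using Submodule.span_induction generalizing x with
      | mem y hy =>
        obtain ⟨t, ht, rfl⟩ := hy
        rw [← HomSh.smulMod_app]
        exact ConcreteCategory.congr_hom (congrArg (fun t => Scheme.Modules.Hom.app t U) (hzero t ht)) x
      | zero => rw [zero_smul, map_zero]
      | add y y' _ _ h h' => rw [add_smul, map_add, h x trivial, h' x trivial, add_zero]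
      | smul d y _ h => rw [smul_assoc, Scheme.Modules.Hom.app_smul, h x trivial, smul_zero]
    · intro x y hx hy
      rw [map_add, hx, hy, add_zero]

end Groth.L16.Exist.Adic
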