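import Groth.Agent.L16.Exist.AdicModules

/-!
Uniform vanishing of the twists of a coherent system of modules on an adic system of schemes.
-/

set_option autoImplicit false
set_option linter.style.haveILetI false
set_option backward.isDefEq.respectTransparency false
set_option backward.isDefEq.respectTransparency.types false

universe u

open CategoryTheory CategoryTheory.Limits AlgebraicGeometry TopologicalSpace Opposite

noncomputable section

namespace Groth.L16.Exist.Adic

open Formal (smulMod)
open Groth.L00.Tensor (tensorLeftF tensorRightF tensorFlipIso tensorIso tensorPowIso)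
open AffineBC (scal)

/-- Tensoring with an invertible module preserves short exact sequences. -/
theorem shortExact_tensor {X : Scheme.{u}} {O : X.Modules} (hO : FlatMod.IsFinLocFree O)
    {T : ShortComplex X.Modules} (hT : T.ShortExact) :
    ∃ (z : (tensorLeftF O).map T.f ≫ (tensorLeftF O).map T.g = 0),
      (ShortComplex.mk _ _ z).ShortExact := by
  haveI := Groth.L17.Duality.hasSheafHom O
  haveI : (tensorRightF O).IsRightAdjoint := (Groth.L17.Duality.dualAdj O hO).isRightAdjoint
  haveI : PreservesColimitsOfSize.{u, u} (tensorLeftF O) := preservesColimits_of_natIso (tensorFlipIso O)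
  haveI : (tensorLeftF O).IsRightAdjoint := Functor.isRightAdjoint_of_iso (tensorFlipIso O)
  haveI : PreservesFiniteColimits (tensorLeftF O) := inferInstance
  haveI : PreservesFiniteLimits (tensorLeftF O) := inferInstance
  exact ⟨(T.map (tensorLeftF O)).zero, hT.map_of_exact (tensorLeftF O)⟩

/-- Cohomology of a twist of a direct image along a closed immersion. -/
theorem subsingleton_twist_push {Z X : Scheme.{u}} (f : Z ⟶ X) [IsClosedImmersion f] {O : X.Modules}
    (hO : FlatMod.IsFinLocFree O) {O' : Z.Modules} (e : (Scheme.Modules.pullback f).obj O ≅ O') (K : Z.Modules)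
    (q : ℕ) (h : Subsingleton (Coh.HH Z (CohB1.tensorMod O' K) q)) :
    Subsingleton (Coh.HH X ((tensorLeftF O).obj ((Coh.push f).obj K)) q) := by
  refine ProjSpace.subsingleton_of_iso ((Groth.L17.ProjFormula.projIso f O hO).app K ≪≫
    (Coh.push f).mapIso (tensorIso e (Iso.refl K))) q ?_
  obtain ⟨e'⟩ := Groth.L17.nonempty_HH_push_of_isClosedImmersion f (CohB1.tensorMod O' K) q
  exact @Equiv.subsingleton _ _ e'.symm.toEquiv h

variable {A : Type u} [CommRing A] [IsNoetherianRing A] {J : Ideal A} {Xs : ℕ → Scheme.{u}}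
  [∀ k, (Xs k).Over (Spec (CommRingCat.of A))]
  {p : (k : ℕ) → (Xs k ⟶ Spec (CommRingCat.of (A ⧸ J ^ (k + 1))))} {i : (k : ℕ) → (Xs k ⟶ Xs (k + 1))}
  (S : IsSys J Xs p i) (F : (k : ℕ) → (Xs k).Modules) (hF : ∀ k, Coh.IsCoh (F k))
  (ψ : ∀ k, (Scheme.Modules.pullback (i k)).obj (F (k + 1)) ≅ F k)

include S hF in
theorem killed_Kn (k : ℕ) : ClSub.KilledByIdeal (j i (k + 1)).ker (Kn (i := i) F k) := by
  intro U b hb m
  have hb' := ker_ideal_le (j_cart S (k + 1)) U hb
  let ι' := kernel.ι (c (i := i) F k)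
  apply Acc.app_injective ι' U.1
  rw [Scheme.Modules.Hom.app_smul, map_zero]
  have h0 : (c (i := i) F k).app U.1 (ι'.app U.1 m) = 0 :=
    ConcreteCategory.congr_hom (congrArg (fun t => Scheme.Modules.Hom.app t U.1)
      (kernel.condition (c (i := i) F k))) m
  refine Submodule.smul_induction_on ((sect_c S F hF k U).2 _ h0) ?_ ?_
  · intro d hd x _
    rw [smul_smul]
    have hbd : b * d = 0 := by
      have h1 := Ideal.mul_mem_mul hb' hd
      rw [← Ideal.map_mul, ← pow_add] at h1
      have h2 : (J ^ (0 + 1 + (k + 1))).map (scal A (Xs (k + 1)) U.1) = ⊥ := by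
        rw [eq_bot_iff, Ideal.map_le_iff_le_comap]
        intro t ht
        rw [Ideal.mem_comap, Ideal.mem_bot]
        exact scal_eq_zero (p (k + 1)) (S.base (k + 1))
          (Ideal.pow_le_pow_right (by omega) ht) U.1
      rw [h2] at h1
      exact h1
    rw [hbd, zero_smul]
  · intro x y hx hy
    rw [smul_add, hx, hy, add_zero]

include S hF ψ in
/-- Uniform vanishing of the twists of a coherent system by an ample invertible system. -/
theorem exists_uniform_vanishing_sys [IsProper (Xs 0 ↘ Spec (CommRingCat.of A))]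
    (L : (k : ℕ) → (Xs k).Modules) (hL : ∀ k, PicF.IsInvertible (L k))
    (φ : ∀ k, (Scheme.Modules.pullback (i k)).obj (L (k + 1)) ≅ L k) (ha : CohB1.IsAmple (L 0)) :
    ∃ n₀ : ℕ, ∀ n : ℕ, n₀ ≤ n → ∀ k q : ℕ, 0 < q →
      Subsingleton (Coh.HH (Xs k) (CohB1.tensorMod (CohB1.tensorPow (L k) n) (F k)) q) ∧
      Subsingleton (Coh.HH (Xs (k + 1)) ((tensorLeftF (CohB1.tensorPow (L (k + 1)) n)).obj (Kn (i := i) F k)) q) := by
  haveI : IsLocallyNoetherian (Xs 0) := LocallyOfFiniteType.isLocallyNoetherian (Xs 0 ↘ Spec (CommRingCat.of A))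
  haveI := isLocallyNoetherian S
  obtain ⟨r, a, hJ'⟩ := Submodule.fg_iff_exists_fin_generating_family.1 (IsNoetherian.noetherian J)
  have hJ : J = Ideal.span (Set.range a) := hJ'.symm
  have hKn : ∀ k, Coh.IsCoh (Kn (i := i) F k) := fun k => by
    haveI := isClosedImmersion_i S k
    exact (CohKernel.isCoh_kernel_cokernel (hF (k + 1))
      (CohClosedPush.isCoh_push (i k) (AffineBC.isCoh_pullback (i k) (hF (k + 1)))) _).1
  have hKK : ∀ k, Coh.IsCoh (KK (i := i) F k) := fun k => AffineBC.isCoh_pullback _ (hKn k)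
  obtain ⟨d₀, hd₀⟩ := exists_uniform_vanishing (A := A) (KK (i := i) F) (μ S F ψ hJ) (L := L 0) ha (hF 0) hKK
    (fun k => epi_μ S F hF ψ hJ k) (fun d m n h => exists_shift S F hF ψ hJ d m n h)
  obtain ⟨d₁, hd₁⟩ := Existence.exists_vanishing_of_isAmple (A := A) ha (hF 0)
  refine ⟨max d₀ d₁, fun n hn k q hq => ?_⟩
  have hO : ∀ k, FlatMod.IsFinLocFree (CohB1.tensorPow (L k) n) := fun k =>
    Existence.isFinLocFree_of_isInvertible (Groth.L18.Ample.isInvertible_tensorPow (hL k) n)
  have hker : ∀ k, Subsingleton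
      (Coh.HH (Xs (k + 1)) ((tensorLeftF (CohB1.tensorPow (L (k + 1)) n)).obj (Kn (i := i) F k)) q) := fun k => by
    haveI := isClosedImmersion_j S (k + 1)
    haveI : IsIso (ηU (j i (k + 1)) (Kn (i := i) F k)) := isIso_ηU (j i (k + 1)) (hKn k) (killed_Kn S F hF k)
    refine ProjSpace.subsingleton_of_iso
      ((tensorLeftF (CohB1.tensorPow (L (k + 1)) n)).mapIso (asIso (ηU (j i (k + 1)) (Kn (i := i) F k)))) q ?_
    exact subsingleton_twist_push (j i (k + 1)) (hO (k + 1))
      (Groth.L18.Ample.pullPow _ _ n ≪≫ tensorPowIso (θ L φ (k + 1)) n) _ q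
      (hd₀ n ((le_max_left _ _).trans hn) k q hq)
  refine ⟨?_, hker k⟩
  induction k with
  | zero => exact hd₁ n ((le_max_right _ _).trans hn) q hq
  | succ k ih =>
    haveI := isClosedImmersion_i S k
    haveI := epi_c S F hF k
    let T : ShortComplex (Xs (k + 1)).Modules :=
      ShortComplex.mk (kernel.ι (c (i := i) F k)) (c (i := i) F k) (kernel.condition _)
    obtain ⟨z, hT⟩ := shortExact_tensor (hO (k + 1))
      (show T.ShortExact from { exact := ShortComplex.exact_kernel _, epi_g := inferInstance })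
    have h3 : Subsingleton (Coh.HH (Xs (k + 1)) ((tensorLeftF (CohB1.tensorPow (L (k + 1)) n)).obj T.X₃) q) :=
      subsingleton_twist_push (i k) (hO (k + 1)) (Groth.L18.Ample.pullPow _ _ n ≪≫ tensorPowIso (φ k) n) _ q
        (ProjSpace.subsingleton_of_iso (tensorIso (Iso.refl _) (ψ k)) q ih)
    refine ⟨fun x y => sub_eq_zero.1 ?_⟩
    obtain ⟨w, hw⟩ := (CohLinear.exact_hmap_hmap hT q (x - y)).1 (h3.elim _ _)
    rw [← hw, (hker k).elim w 0]
    exact map_zero _

end Groth.L16.Exist.Adic
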