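import Groth.Agent.L16.Exist.PushPullTorsion
import Groth.Agent.L17.ProperCoh
import Groth.Prelude.Def_Formal2

/-!
The map from a formal module to the completion of the direct image of an algebraisation of its pullback.
-/

set_option autoImplicit false
set_option linter.style.haveILetI false
set_option backward.isDefEq.respectTransparency false
set_option backward.isDefEq.respectTransparency.types false

universe u

open CategoryTheory CategoryTheory.Limits AlgebraicGeometry TopologicalSpace Opposite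
open scoped TensorProduct

noncomputable section

namespace Groth.L16.Exist

open Groth.L18.Frame (rs ro rs_rs rs_smul rs_self pull)
open Formal (smulMod modPow modPowπ modPowTrans modPowπ_trans)
open Formal2 (modPowLE modPowπ_modPowLE)
open AffineBC (scal)
open Existence (tr)

theorem isCoh_pushforward {X Y : Scheme.{u}} (f : X ⟶ Y) [IsProper f] [IsLocallyNoetherian Y] {M : X.Modules}
    (hM : Coh.IsCoh M) : Coh.IsCoh ((Scheme.Modules.pushforward f).obj M) := by
  haveI := Groth.L17.PushQCoh.hasInjectiveResolutions X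
  haveI : (Scheme.Modules.pushforward f).Additive := Groth.L17.PushQCoh.additive_push f
  haveI : (Scheme.Modules.pushforward f).IsRightAdjoint :=
    (Scheme.Modules.pullbackPushforwardAdjunction f).isRightAdjoint
  haveI : PreservesFiniteLimits (Scheme.Modules.pushforward f) := inferInstance
  exact CohSupport.isCoh_of_iso
    ((Scheme.Modules.pushforward f).rightDerivedZeroIsoSelf.app M) (Groth.L17.ProperCoh.isCoh_Rpush f M hM 0)

theorem pr_le_rfl {W X : Scheme.{u}} (h : W ⟶ X) {U : X.Opens} (T : X.Modules) (x : Γ(T, U)) :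
    pr h (le_rfl : h ⁻¹ᵁ U ≤ h ⁻¹ᵁ U) T x = pull h T U x := rs_self _ _ _

variable {A : Type u} [CommRing A] (J : Ideal A) {X Y : Scheme.{u}} [X.Over (Spec (CommRingCat.of A))]
  [Y.Over (Spec (CommRingCat.of A))] (f : X ⟶ Y) [AlgebraicGeometry.IsNoetherian Y]
  [AlgebraicGeometry.IsNoetherian X] [IsProper f]
  (hf : f ≫ (Y ↘ Spec (CommRingCat.of A)) = X ↘ Spec (CommRingCat.of A))
  {U₀ : Y.Opens} (hU₀ : IsIso (f ∣_ U₀))
  {G : ℕᵒᵖ ⥤ Y.Modules} (hG : Formal.IsCohFormal J G) {F : X.Modules} (hF : Coh.IsCoh F)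
  (b : ∀ m, (Scheme.Modules.pullback f).obj (G.obj (op m)) ≅ modPow J (m + 1) F)
  (hb : ∀ n, (Scheme.Modules.pullback f).map (tr G n (n + 1) (Nat.le_succ n)) ≫ (b n).hom =
    (b (n + 1)).hom ≫ modPowTrans J (n + 1) F)

/-- The comparison on sections. -/
abbrev Φ (m : ℕ) (U : Y.Opens) (g : Γ(G.obj (op m), U)) : Γ(modPow J (m + 1) F, f ⁻¹ᵁ U) :=
  (b m).hom.app (f ⁻¹ᵁ U) (pull f (G.obj (op m)) U g)

omit [AlgebraicGeometry.IsNoetherian Y] [AlgebraicGeometry.IsNoetherian X] [IsProper f] in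
theorem Φ_add (m : ℕ) (U : Y.Opens) (g g' : Γ(G.obj (op m), U)) :
    Φ J f b m U (g + g') = Φ J f b m U g + Φ J f b m U g' :=
  (congrArg ((b m).hom.app (f ⁻¹ᵁ U))
    (map_add (((Scheme.Modules.pullbackPushforwardAdjunction f).unit.app (G.obj (op m))).app U).hom g g')).trans
    (map_add _ _ _)

omit [AlgebraicGeometry.IsNoetherian Y] [AlgebraicGeometry.IsNoetherian X] [IsProper f] in
theorem Φ_smul (m : ℕ) (U : Y.Opens) (r : Γ(Y, U)) (g : Γ(G.obj (op m), U)) :
    Φ J f b m U (r • g) = f.app U r • Φ J f b m U g :=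
  (congrArg ((b m).hom.app (f ⁻¹ᵁ U)) (Groth.L18.Frame.pull_smul f _ r g)).trans (Scheme.Modules.Hom.app_smul _ _ _)

omit [AlgebraicGeometry.IsNoetherian Y] [AlgebraicGeometry.IsNoetherian X] [IsProper f] in
theorem Φ_rs (m : ℕ) {U V : Y.Opens} (h : V ≤ U) (g : Γ(G.obj (op m), U)) :
    Φ J f b m V (rs _ h g) = rs _ (f.preimage_mono h) (Φ J f b m U g) := by
  rw [Φ, ← Groth.L18.Frame.pull_rs, HomSh.app_rs]

include hb in
omit [AlgebraicGeometry.IsNoetherian Y] [AlgebraicGeometry.IsNoetherian X] [IsProper f] in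
theorem Φ_tr (m : ℕ) (U : Y.Opens) (g : Γ(G.obj (op (m + 1)), U)) :
    Φ J f b m U ((tr G m (m + 1) (Nat.le_succ m)).app U g) =
      (modPowTrans J (m + 1) F).app (f ⁻¹ᵁ U) (Φ J f b (m + 1) U g) := by
  rw [Φ, ← pr_le_rfl, pr_natural, pr_le_rfl]
  exact app_eq (hb m) _

include hb in
omit [AlgebraicGeometry.IsNoetherian Y] [AlgebraicGeometry.IsNoetherian X] [IsProper f] in
theorem Φ_trLE {m k : ℕ} (h : m ≤ k) (U : Y.Opens) (g : Γ(G.obj (op k), U)) :
    Φ J f b m U ((tr G m k h).app U g) =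
      (modPowLE J (Nat.succ_le_succ h) F).app (f ⁻¹ᵁ U) (Φ J f b k U g) := by
  rw [← Rees.completion_map J F h]
  induction k, h using Nat.le_induction with
  | base =>
    rw [tr_app_self]
    exact (tr_app_self (G := Formal.completion J F) m _).symm
  | succ k hk ih =>
    rw [← tr_app_comp hk (Nat.le_succ k), ih, Φ_tr J f b hb, ← Existence.completion_tr J F k]
    exact tr_app_comp (G := Formal.completion J F) hk (Nat.le_succ k) _

/-- The relation defining the map. -/
abbrev Rel (m : ℕ) (U : Y.Opens) (g : Γ(G.obj (op m), U))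
    (z : Γ((Scheme.Modules.pushforward f).obj F, U)) : Prop :=
  Φ J f b m U g = (modPowπ J (m + 1) F).app (f ⁻¹ᵁ U) z

include hf hF hb hG in
theorem exists_α :
    ∃ α : G ⟶ Formal.completion J ((Scheme.Modules.pushforward f).obj F), ∀ U, IsAffineOpen U → ∀ n,
      ∃ m₀, n ≤ m₀ ∧ ∀ m (hm : n ≤ m), m₀ ≤ m → ∀ g z, Rel J f b m U g z →
        (α.app (op n)).app U ((tr G n m hm).app U g) =
          (modPowπ J (n + 1) ((Scheme.Modules.pushforward f).obj F)).app U z := by
  have hH := isCoh_pushforward f hF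
  refine exists_hom_completion hG hH (Rel J f b) (fun m U g g' z z' h h' => ?_) (fun m U r g z h => ?_)
    (fun m U V hVU g z h => ?_) (fun m U hU g => ?_) (fun m U g z h => ?_) (fun U hU n => ?_)
  · rw [Rel, Φ_add, h, h']
    exact (map_add _ _ _).symm
  · rw [Rel, Φ_smul, h]
    exact (Scheme.Modules.Hom.app_smul (modPowπ J (m + 1) F) (f.app U r) z).symm
  · rw [Rel, Φ_rs, h]
    exact (HomSh.app_rs (modPowπ J (m + 1) F) (f.preimage_mono hVU) z).symm
  · obtain ⟨c, hc⟩ := (sect_proper f hf J hF hU).2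
    obtain ⟨g', rfl⟩ := tr_surjective hG (Nat.le_add_right m c) hU g
    obtain ⟨z, hz⟩ := hc m (m + c) (Nat.le_add_right m c) le_rfl (Φ J f b (m + c) U g')
    exact ⟨z, by rw [Rel, Φ_trLE J f b hb]; exact hz.symm⟩
  · rw [Rel, Φ_tr J f b hb, h]
    exact app_eq (modPowπ_trans J (m + 1) F) z
  · obtain ⟨c, hc⟩ := (sect_proper f hf J hF hU).1
    refine ⟨n + 1 + c, by omega, fun z hz => ?_⟩
    have h0 : (modPowπ J (n + 1 + c + 1) F).app (f ⁻¹ᵁ U) z = 0 :=
      hz.symm.trans ((congrArg ((b (n + 1 + c)).hom.app (f ⁻¹ᵁ U))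
        (map_zero (((Scheme.Modules.pullbackPushforwardAdjunction f).unit.app (G.obj (op (n + 1 + c)))).app U).hom)).trans
        (map_zero _))
    have h1 := hc (n + 1 + c) (by omega) z h0
    rw [show n + 1 + c - c = n + 1 by omega, ← Ideal.map_pow] at h1
    let π : Γ(F, f ⁻¹ᵁ U) →+ Γ(modPow J (n + 1) ((Scheme.Modules.pushforward f).obj F), U) :=
      ((modPowπ J (n + 1) ((Scheme.Modules.pushforward f).obj F)).app U).hom
    clear hz h0
    show π z = 0
    refine Submodule.smul_induction_on h1 (fun r hr w _ => ?_) (fun a b ha hb => by rw [map_add, ha, hb, add_zero])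
    induction hr using Submodule.span_induction generalizing w with
    | mem r hr =>
      obtain ⟨a, ha, rfl⟩ := hr
      have e : scal A X (f ⁻¹ᵁ U) a = f.app U (scal A Y U a) := by
        rw [Scheme.Hom.app_eq_appLE, scal_f f hf]
      rw [e]
      refine Eq.trans ?_ (app_eq (Rees.smulMod_modPowπ J ((Scheme.Modules.pushforward f).obj F) ha)
        (show Γ((Scheme.Modules.pushforward f).obj F, U) from w))
      exact congrArg ((modPowπ J (n + 1) ((Scheme.Modules.pushforward f).obj F)).app U)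
        (HomSh.smulMod_app ((Scheme.Modules.pushforward f).obj F) a U w).symm
    | zero => rw [zero_smul, map_zero]
    | add a b _ _ ha hb => rw [add_smul, map_add, ha w trivial, hb w trivial, add_zero]
    | smul a r _ hr => rw [smul_eq_mul, mul_comm, mul_smul]; exact hr _ trivial

section Torsion

variable {U : Y.Opens} (hU : IsAffineOpen U)

include hG in
omit [AlgebraicGeometry.IsNoetherian X] [IsProper f] in
theorem exists_limit :
    ∃ (L : Type u) (_ : AddCommGroup L) (_ : Module (CU J U) L) (_ : Module.Finite (CU J U) L)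
      (ev : ∀ m, L →+ Γ(G.obj (op m), U)), IsAffineOpen U → (∀ m, Function.Surjective (ev m)) ∧
        (∀ m l, (tr G m (m + 1) (Nat.le_succ m)).app U (ev (m + 1) l) = ev m l) ∧
        (∀ m l, ev m l = 0 → l ∈ JC J U ^ (m + 1) • (⊤ : Submodule (CU J U) L)) ∧
        ∀ m (c : CU J U) (r : Γ(Y, U)) (l : L),
          AdicCompletion.evalₐ (JU J U) (m + 1) c = Ideal.Quotient.mk _ r → ev m (c • l) = r • ev m l := by
  classical
  by_cases hU : IsAffineOpen U
  · haveI : IsNoetherianRing Γ(Y, U) := IsLocallyNoetherian.component_noetherian ⟨U, hU⟩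
    obtain ⟨hfin, hsurj, hker⟩ := sect_spec hG U hU
    haveI := hfin
    let M : ℕ → Type u := fun n => Γ(G.obj (op n), U)
    have hk : ∀ n, ∀ b ∈ JU J U ^ (n + 1), ∀ x : M n, b • x = 0 := fun n b hb x => sect_killed hG U n b hb x
    letI := fun n => cmod (JU J U) M hk n
    obtain ⟨h1, h2⟩ := climit_spec (JU J U) M (trL (G := G) U) hk hsurj hker
    refine ⟨climit (JU J U) M (trL (G := G) U) hk, inferInstance, inferInstance, h1,
      fun m => AddMonoidHom.mk' (fun g => g.1 m) fun _ _ => rfl, fun _ => ⟨fun m => (h2 m).1,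
      fun m l => l.2 m, fun m l hl => ?_, fun m c r l hr => cmod_smul (JU J U) M hk m c r hr _⟩⟩
    rw [JC_eq]
    exact (h2 m).2 l hl
  · exact ⟨PUnit.{u+1}, inferInstance, inferInstance, inferInstance, fun m => 0, fun h => absurd h hU⟩

omit [AlgebraicGeometry.IsNoetherian Y] [AlgebraicGeometry.IsNoetherian X] [IsProper f] in
theorem evalₐ_eq_zero {c : CU J U} (n : ℕ) (hc : c ∈ JC J U ^ n) :
    AdicCompletion.evalₐ (JU J U) n c = 0 := by
  rw [JC_eq, ← Ideal.map_pow] at hc
  induction hc using Submodule.span_induction with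
  | mem c hc =>
    obtain ⟨b, hb, rfl⟩ := hc
    rw [AlgHom.commutes]
    exact Ideal.Quotient.eq_zero_iff_mem.2 hb
  | zero => exact map_zero _
  | add a b _ _ ha hb => rw [map_add, ha, hb, add_zero]
  | smul a b _ hb => rw [smul_eq_mul, map_mul, hb, mul_zero]

include hf hG hF hb hU₀ in
theorem exists_torsion_α (α : G ⟶ Formal.completion J ((Scheme.Modules.pushforward f).obj F))
    (hα : ∀ U, IsAffineOpen U → ∀ n, ∃ m₀, n ≤ m₀ ∧ ∀ m (hm : n ≤ m), m₀ ≤ m → ∀ g z, Rel J f b m U g z →
        (α.app (op n)).app U ((tr G n m hm).app U g) =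
          (modPowπ J (n + 1) ((Scheme.Modules.pushforward f).obj F)).app U z)
    (hU : IsAffineOpen U) (a : Γ(Y, U)) (ha : Y.basicOpen a ≤ U₀) :
    ∃ t : ℕ, ∀ n, (∀ x, (α.app (op n)).app U x = 0 → a ^ t • x = 0) ∧
      ∀ y, ∃ x, (α.app (op n)).app U x = a ^ t • y := by
  have hH := isCoh_pushforward f hF
  haveI : IsNoetherianRing Γ(Y, U) := IsLocallyNoetherian.component_noetherian ⟨U, hU⟩
  obtain ⟨hNC, hXN, hP, hcomp⟩ := noetherian_XC J f hU hF
  haveI := hNC
  haveI := hXN
  haveI := hcomp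
  obtain ⟨L, i₁, i₂, i₃, ev, hev'⟩ := exists_limit J hG (U := U)
  letI := i₁
  letI := i₂
  haveI := i₃
  obtain ⟨hev, hevtr, hevk, hevc⟩ := hev' hU
  have hevs : ∀ m (r : Γ(Y, U)) (l : L), ev m (algebraMap Γ(Y, U) (CU J U) r • l) = r • ev m l := fun m r l =>
    hevc m _ r l (AlgHom.commutes _ r)
  choose E hE using fun m => exists_link (hC J f hU) (φC J (U := U)) (φC_square J f hU hf) J F m
  let P := PC J f hU F
  let e := hD_preimage hU f (CU J U)
  let y : L → ∀ m, Γ(modPow (JC J U) (m + 1) P, ⊤) := fun l m =>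
    (E (m + 1)).inv.app ⊤ (pr (hC J f hU) e (modPow J (m + 1) F) (Φ J f b m U (ev m l)))
  have hy : ∀ l m, (modPowTrans (JC J U) (m + 1) P).app ⊤ (y l (m + 1)) = y l m := by
    intro l m
    haveI := Existence.epi_modPowπ (JC J U) (m + 1 + 1) P
    have hnat : modPowTrans (JC J U) (m + 1) P ≫ (E (m + 1)).hom =
        (E (m + 1 + 1)).hom ≫ (Scheme.Modules.pullback (hC J f hU)).map (modPowTrans J (m + 1) F) := by
      rw [← cancel_epi (modPowπ (JC J U) (m + 1 + 1) P), reassoc_of% modPowπ_trans (JC J U) (m + 1) P, hE,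
        reassoc_of% hE (m + 1 + 1), ← Functor.map_comp, modPowπ_trans]
    have hnat' : (E (m + 1 + 1)).inv ≫ modPowTrans (JC J U) (m + 1) P =
        (Scheme.Modules.pullback (hC J f hU)).map (modPowTrans J (m + 1) F) ≫ (E (m + 1)).inv := by
      rw [Iso.eq_comp_inv, Category.assoc, hnat, Iso.inv_hom_id_assoc]
    have key : ∀ z, (modPowTrans (JC J U) (m + 1) P).app ⊤ ((E (m + 1 + 1)).inv.app ⊤ z) =
        (E (m + 1)).inv.app ⊤ (((Scheme.Modules.pullback (hC J f hU)).map (modPowTrans J (m + 1) F)).app ⊤ z) :=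
      fun z => by
        have h := app_eq hnat' (U := ⊤) z
        rw [Scheme.Modules.Hom.comp_app, Scheme.Modules.Hom.comp_app] at h
        exact h
    simp only [y]
    rw [key, ← pr_natural (hC J f hU) e (modPowTrans J (m + 1) F), ← Φ_tr J f b hb, hevtr]
  choose u hu huniq using fun l => sect_exists (JC J U) hP (y l) (hy l)
  have hua : ∀ l l', u (l + l') = u l + u l' := fun l l' => (huniq _ _ fun m => by
    rw [map_add, hu l m, hu l' m]
    simp only [y]
    rw [map_add (ev m), Φ_add, map_add, map_add]).symm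
  have hus : ∀ (c : CU J U) (l : L), u (c • l) = scal (CU J U) (XC J f hU) ⊤ c • u l := fun c l =>
    (huniq _ _ fun m => by
      rw [Scheme.Modules.Hom.app_smul, hu l m]
      obtain ⟨r, hr, hr'⟩ := completion_decomp (JU J U) (m + 1) c
      simp only [y]
      rw [hevc m c r l hr, Φ_smul, pr_smul, Scheme.Modules.Hom.app_smul,
        show (hC J f hU).appLE (f ⁻¹ᵁ U) ⊤ e (f.app U r) = scal (CU J U) (XC J f hU) ⊤ (algebraMap _ _ r) from
          (congrArg _ (ConcreteCategory.congr_hom f.app_eq_appLE r)).trans (scal_hD hU f (CU J U) le_rfl e r),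
        ← sub_eq_zero, ← sub_smul, ← map_sub]
      refine smul_modPow_eq_zero J f hU P (m + 1) ⊤ _ ?_ _
      rw [← Ideal.map_pow]
      refine Ideal.mem_map_of_mem _ ?_
      rw [JC_eq]
      exact hr').symm
  obtain ⟨t, ht₁, ht₂⟩ := exists_torsion J f hU hf hF (fun m => G.obj (op m)) (fun m => (hG.1 m).1) b E hE L ev
    hev hevs hevk u hu hua hus hU₀ a ha
  refine ⟨t + t, fun n => ?_⟩
  obtain ⟨m₀, hm₀, hm₀'⟩ := hα U hU n
  obtain ⟨c, hc⟩ := sect_ker_le (JC J U) hP
  letI : Module (CU J U) Γ(P, ⊤) := Module.compHom _ (scal (CU J U) (XC J f hU) ⊤)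
  let uL : L →ₗ[CU J U] Γ(P, ⊤) := { toFun := u, map_add' := hua, map_smul' := hus }
  have hev_tr : ∀ {m k : ℕ} (h : m ≤ k) l, (tr G m k h).app U (ev k l) = ev m l := by
    intro m k h l
    induction k, h using Nat.le_induction with
    | base => rw [tr_app_self]
    | succ k hk ih => rw [← tr_app_comp hk (Nat.le_succ k), hevtr, ih]
  have hrel : ∀ k l z, Rel J f b k U (ev k l) z ↔
      (modPowπ (JC J U) (k + 1) P).app ⊤ (u l) = (modPowπ (JC J U) (k + 1) P).app ⊤ (pr (hC J f hU) e F z) := by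
    intro k l z
    rw [hu l k, ← link_app (hC J f hU) (φC J (U := U)) J e (E (k + 1)) (hE (k + 1)) z]
    refine ⟨fun h => congrArg (fun w => (E (k + 1)).inv.app ⊤ (pr (hC J f hU) e _ w)) h, fun h => ?_⟩
    have h1 := congrArg ((E (k + 1)).hom.app ⊤) h
    haveI : Coh.IsQCoh (modPow J (k + 1) F) := (Exist.modPow_spec J hF (k + 1)).1.1
    refine injective_pr f hf hU le_rfl e le_top (modPow J (k + 1) F) (k + 1)
      (fun _ hb => Existence.smulMod_modPow_eq_zero J F hb) ?_
    exact (app_eq (E (k + 1)).inv_hom_id _).symm.trans (h1.trans (app_eq (E (k + 1)).inv_hom_id _))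
  have htot : ∀ k l, ∃ z, Rel J f b k U (ev k l) z := by
    intro k l
    obtain ⟨d, hd⟩ := (sect_proper f hf J hF hU).2
    obtain ⟨z, hz⟩ := hd k (k + d) (Nat.le_add_right k d) le_rfl (Φ J f b (k + d) U (ev (k + d) l))
    refine ⟨z, ?_⟩
    rw [Rel, ← hev_tr (Nat.le_add_right k d) l, Φ_trLE J f b hb]
    exact hz.symm
  let a' := algebraMap Γ(Y, U) (CU J U) a
  have hevt : ∀ m (j : ℕ) l, ev m (a' ^ j • l) = a ^ j • ev m l := fun m j l => by rw [← map_pow, hevs]
  refine ⟨fun x hx => ?_, fun y' => ?_⟩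
  · obtain ⟨l, rfl⟩ := hev n x
    let m := max m₀ (n + 1 + c)
    obtain ⟨z, hz⟩ := htot m l
    have h0 := hm₀' m (hm₀.trans (le_max_left _ _)) (le_max_left _ _) _ z hz
    rw [hev_tr, hx] at h0
    have hz' := (((modPow_spec J hH (n + 1)).2 U hU).2 z).1 h0.symm
    have hp : pr (hC J f hU) e F z ∈ JC J U ^ (n + 1) • (⊤ : Submodule (CU J U) Γ(P, ⊤)) := by
      rw [← Ideal.map_pow] at hz'
      clear h0 hz
      refine Submodule.smul_induction_on hz' (fun r hr w _ => ?_) (fun a b ha hb => ?_)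
      · have : pr (hC J f hU) e F (f.app U r • (show Γ(F, f ⁻¹ᵁ U) from w)) =
            algebraMap Γ(Y, U) (CU J U) r • pr (hC J f hU) e F w := by
          rw [pr_smul]
          exact congrArg (· • pr (hC J f hU) e F w)
            ((congrArg _ (ConcreteCategory.congr_hom f.app_eq_appLE r)).trans (scal_hD hU f (CU J U) le_rfl e r))
        refine (congrArg (· ∈ _) this).mpr (Submodule.smul_mem_smul ?_ trivial)
        rw [Ideal.map_pow] at hr
        rw [JC_eq]
        have := Ideal.mem_map_of_mem (algebraMap Γ(Y, U) (CU J U)) hr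
        rwa [Ideal.map_pow] at this
      · exact (congrArg (· ∈ _) (map_add (pr (hC J f hU) e F) a b)).mpr (add_mem ha hb)
    have hd : u l - pr (hC J f hU) e F z ∈ JC J U ^ (n + 1) • (⊤ : Submodule (CU J U) Γ(P, ⊤)) := by
      have h1 := hc m (le_trans (Nat.le_add_left c (n + 1)) (le_max_right _ _)) _
        (show (modPowπ (JC J U) (m + 1) P).app ⊤ (u l - pr (hC J f hU) e F z) = 0 by
          rw [map_sub, (hrel m l z).1 hz, sub_self])
      rw [← Ideal.map_pow] at h1
      refine Submodule.smul_induction_on h1 (fun r hr w _ => ?_) (fun a b ha hb => add_mem ha hb)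
      induction hr using Submodule.span_induction generalizing w with
      | mem r hr =>
        obtain ⟨x, hx, rfl⟩ := hr
        exact Submodule.smul_mem_smul (Ideal.pow_le_pow_right (by omega) hx) trivial
      | zero => rw [zero_smul]; exact zero_mem _
      | add a b _ _ ha hb => rw [add_smul]; exact add_mem (ha w trivial) (hb w trivial)
      | smul a r _ hr => rw [smul_eq_mul, mul_comm, mul_smul]; exact hr _ trivial
    have h2 : a' ^ t • uL l ∈ Submodule.map uL (JC J U ^ (n + 1) • ⊤) := by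
      have h3 : uL l ∈ JC J U ^ (n + 1) • (⊤ : Submodule (CU J U) Γ(P, ⊤)) := by
        have := add_mem hd hp
        rwa [sub_add_cancel] at this
      rw [Submodule.map_smul'', Submodule.map_top]
      refine Submodule.smul_induction_on h3 (fun r hr w _ => ?_) (fun a b ha hb => by
        rw [smul_add]; exact add_mem ha hb)
      rw [smul_comm]
      refine Submodule.smul_mem_smul hr ?_
      obtain ⟨l', hl'⟩ := ht₂ w
      exact ⟨l', hl'⟩
    obtain ⟨w, hw, hwl⟩ := h2
    have h4 := ht₁ (a' ^ t • l - w) (by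
      show uL (a' ^ t • l - w) = 0
      rw [map_sub, map_smul, hwl, sub_self])
    rw [smul_sub, sub_eq_zero, ← mul_smul, ← pow_add] at h4
    have h5 : ev n w = 0 := by
      clear hwl h4
      refine Submodule.smul_induction_on hw (fun r hr l' _ => ?_) (fun a b ha hb => by
        rw [map_add, ha, hb, add_zero])
      rw [hevc n r 0 l' (by rw [evalₐ_eq_zero J (n + 1) hr, map_zero]), zero_smul]
    rw [← hevt, h4, hevt, h5, smul_zero]
  · obtain ⟨z, rfl⟩ := ((modPow_spec J hH (n + 1)).2 U hU).1 y'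
    obtain ⟨l, hl⟩ := ht₂ (pr (hC J f hU) e F z)
    let z' : Γ((Scheme.Modules.pushforward f).obj F, U) := a ^ t • (show Γ((Scheme.Modules.pushforward f).obj F, U) from z)
    have hz : Rel J f b m₀ U (ev m₀ l) z' := by
      rw [hrel, hl]
      refine congrArg _ (Eq.symm ((pr_smul (hC J f hU) e F (f.app U (a ^ t)) z).trans ?_))
      refine congrArg (· • pr (hC J f hU) e F z) ?_
      rw [← map_pow]
      exact (congrArg _ (ConcreteCategory.congr_hom f.app_eq_appLE (a ^ t))).trans
        (scal_hD hU f (CU J U) le_rfl e (a ^ t))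
    refine ⟨a ^ t • (tr G n m₀ hm₀).app U (ev m₀ l), ?_⟩
    rw [Scheme.Modules.Hom.app_smul, hm₀' m₀ hm₀ le_rfl _ z' hz, pow_add, mul_smul]
    exact congrArg (a ^ t • ·) (Scheme.Modules.Hom.app_smul _ _ _)

end Torsion

include hf hU₀ hG hF hb in
/-- The map with kernel and cokernel killed by a power of an ideal of the complement. -/
theorem exists_killed (K : Y.IdealSheafData) (hK : K.support.compl ≤ U₀) :
    ∃ α : G ⟶ Formal.completion J ((Scheme.Modules.pushforward f).obj F), Formal2.KerCokerKilledByPow K α := by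
  classical
  obtain ⟨α, hα⟩ := exists_α J f hf hG hF b hb
  refine ⟨α, ?_⟩
  have hH := isCoh_pushforward f hF
  obtain ⟨T, hT⟩ := HomSh.exists_finite_affine_cover Y
  have hex : ∀ V : Y.affineOpens, ∃ N : ℕ, ∀ r ∈ K.ideal V ^ N, ∀ n,
      (∀ x, (α.app (op n)).app V.1 x = 0 → r • x = 0) ∧ ∀ y, ∃ x, (α.app (op n)).app V.1 x = r • y := by
    intro V
    haveI : IsNoetherianRing Γ(Y, V.1) := IsLocallyNoetherian.component_noetherian V
    let Q : Ideal Γ(Y, V.1) :=
      { carrier := {r | ∀ n, (∀ x, (α.app (op n)).app V.1 x = 0 → r • x = 0) ∧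
          ∀ y, ∃ x, (α.app (op n)).app V.1 x = r • y}
        zero_mem' := fun n => ⟨fun x _ => zero_smul _ x, fun y => ⟨0, by rw [map_zero, zero_smul]⟩⟩
        add_mem' := fun {r s} hr hs n => ⟨fun x hx => by rw [add_smul, (hr n).1 x hx, (hs n).1 x hx, add_zero],
          fun y => by
            obtain ⟨x, hx⟩ := (hr n).2 y
            obtain ⟨x', hx'⟩ := (hs n).2 y
            exact ⟨x + x', by rw [map_add, hx, hx', add_smul]⟩⟩
        smul_mem' := fun c r hr n => ⟨fun x hx => by rw [smul_eq_mul, mul_smul, (hr n).1 x hx, smul_zero],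
          fun y => by
            obtain ⟨x, hx⟩ := (hr n).2 (c • y)
            exact ⟨x, by rw [hx, smul_eq_mul, mul_comm, mul_smul]⟩⟩ }
    have hle : K.ideal V ≤ Q.radical := fun a ha => by
      obtain ⟨t, ht⟩ := exists_torsion_α J f hf hU₀ hG hF b hb α hα V.2 a (le_trans (fun y hy => by
        show y ∉ K.support
        intro hs
        have h1 := (K.mem_support_iff_of_mem (Y.basicOpen_le a hy)).1 hs
        rw [Scheme.mem_zeroLocus_iff] at h1
        exact h1 a ha hy) hK)
      exact ⟨t, fun n => ht n⟩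
    obtain ⟨N, hN⟩ := Ideal.exists_pow_le_of_le_radical_of_fg hle (IsNoetherian.noetherian _)
    exact ⟨N, fun r hr => hN hr⟩
  choose N hN using hex
  let e := T.sup N
  have hkill : ∀ (Q : Y.Modules) [Coh.IsQCoh Q], (∀ V ∈ T, ∀ r ∈ K.ideal V ^ N V, ∀ x : Γ(Q, V.1), r • x = 0) →
      ClSub.KilledByIdeal (K ^ (e + 1)) Q := by
    intro Q _ hQ W r hr x
    let I₀ := {p : Y.affineOpens × {V // V ∈ T} // p.1 ≤ W ∧ p.1.1 ≤ p.2.1.1}
    refine HomSh.ext_cover Q (fun p : I₀ => p.1.1.1) (fun p => p.2.1) (fun y hy => ?_) fun p => ?_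
    · obtain ⟨V, hV, hyV⟩ := hT y
      obtain ⟨_, ⟨W', hW', rfl⟩, hyW', hsub⟩ := Y.isBasis_affineOpens.exists_subset_of_mem_open
        (show y ∈ (W.1 : Set Y) ∩ V.1 from ⟨hy, hyV⟩) (W.1.2.inter V.1.2)
      exact Opens.mem_iSup.2 ⟨⟨(⟨W', hW'⟩, ⟨V, hV⟩), fun z hz => (hsub hz).1, fun z hz => (hsub hz).2⟩, hyW'⟩
    · obtain ⟨⟨W', ⟨V, hV⟩⟩, hW, hV'⟩ := p
      show rs Q hW (r • x) = rs Q hW 0
      rw [show rs Q hW (0 : Γ(Q, W.1)) = 0 from map_zero _, rs_smul]
      have h1 : ro hW r ∈ (K ^ (e + 1)).ideal W' := by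
        rw [← (K ^ (e + 1)).map_ideal (U := W') (V := W) hW]
        exact Ideal.mem_map_of_mem _ hr
      rw [← (K ^ (e + 1)).map_ideal (U := W') (V := V) hV', Scheme.IdealSheafData.ideal_pow, Pi.pow_apply,
        Ideal.map] at h1
      generalize ro hW r = s at h1
      induction h1 using Submodule.span_induction with
      | mem s hs =>
        obtain ⟨r', hr', rfl⟩ := hs
        exact smul_eq_zero_of_affine V.2 r' (hQ V hV r' (Ideal.pow_le_pow_right
          ((Finset.le_sup hV).trans (Nat.le_succ _)) hr')) hV' _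
      | zero => exact zero_smul _ _
      | add a b _ _ ha hb => rw [add_smul, ha, hb, add_zero]
      | smul a b _ hb => rw [smul_eq_mul, mul_smul, hb, smul_zero]
  refine ⟨e, fun n => ?_⟩
  have hGn := hG.1 n
  have hCn : Coh.IsCoh ((Formal.completion J ((Scheme.Modules.pushforward f).obj F)).obj (op n)) :=
    (modPow_spec J hH (n + 1)).1
  obtain ⟨hk, hc⟩ := CohKernel.isCoh_kernel_cokernel hGn hCn (α.app (op n))
  haveI : Coh.IsQCoh (kernel (α.app (op n))) := hk.1
  haveI : Coh.IsQCoh (cokernel (α.app (op n))) := hc.1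
  haveI : Coh.IsQCoh (G.obj (op n)) := hGn.1
  haveI : Coh.IsQCoh ((Formal.completion J ((Scheme.Modules.pushforward f).obj F)).obj (op n)) := hCn.1
  haveI : Epi (cokernel.π (α.app (op n))) := coequalizer.π_epi
  refine ⟨hkill _ fun V _ r hr x => ?_, hkill _ fun V _ r hr x => ?_⟩
  · refine Acc.app_injective (kernel.ι (α.app (op n))) V.1 ?_
    rw [Scheme.Modules.Hom.app_smul, map_zero]
    refine ((hN V r hr n).1 _ ?_)
    exact app_eq (kernel.condition (α.app (op n))) x
  · obtain ⟨y, rfl⟩ := AffineBC.surjective_app_of_epi (cokernel.π (α.app (op n))) V.2 x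
    obtain ⟨x', hx'⟩ := (hN V r hr n).2 y
    rw [← Scheme.Modules.Hom.app_smul, ← hx']
    exact app_eq (cokernel.condition (α.app (op n))) x'

end Groth.L16.Exist
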