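import Groth.Agent.L16.Exist.OpenPush
import Groth.Agent.L16.Rees.FiniteAmple
import Mathlib.AlgebraicGeometry.Morphisms.Immersion

/-!
The existence theorem for formal modules with support proper over the base.
-/

set_option autoImplicit false
set_option linter.style.haveILetI false
set_option backward.isDefEq.respectTransparency false
set_option backward.isDefEq.respectTransparency.types false

universe u

open CategoryTheory CategoryTheory.Limits AlgebraicGeometry TopologicalSpace Opposite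

noncomputable section

namespace Groth.L16.Exist

open Formal (smulMod modPow modPowπ modPowTrans modPowπ_trans)

/-- Support contained in a subset proper over the base. -/
def ProperSupp {S X : Scheme.{u}} (f : X ⟶ S) (M : X.Modules) : Prop :=
  ∃ T : Set X, ClSub.IsProperOver f T ∧ CohB1.support M ⊆ T

namespace ProperSupp

variable {S X : Scheme.{u}} {f : X ⟶ S}

theorem sub ⦃M N : X.Modules⦄ (φ : M ⟶ N) [Mono φ] : ProperSupp f N → ProperSupp f M :=
  fun ⟨T, hT, h⟩ => ⟨T, hT, (Groth.L21.Mod.support_mono φ).trans h⟩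

theorem quo ⦃M N : X.Modules⦄ (φ : M ⟶ N) [Epi φ] : ProperSupp f M → ProperSupp f N :=
  fun ⟨T, hT, h⟩ => ⟨T, hT, (Groth.L21.Mod.support_epi φ).trans h⟩

variable [LocallyOfFiniteType f]

theorem sum ⦃M N : X.Modules⦄ : ProperSupp f M → ProperSupp f N → ProperSupp f (M ⊞ N) := by
  rintro ⟨T, hT, h⟩ ⟨T', hT', h'⟩
  refine ⟨T ∪ T', Groth.L17.ProperOver.isProperOver_union hT hT', ?_⟩
  have hsp : ((ShortComplex.mk (biprod.inl : M ⟶ M ⊞ N) biprod.snd biprod.inl_snd)).ShortExact :=
    ShortComplex.Splitting.shortExact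
      { r := biprod.fst, s := biprod.inr, f_r := biprod.inl_fst, s_g := biprod.inr_snd, id := biprod.total }
  intro x hx
  have hx' := (Groth.L21.Mod.support_of_shortExact hsp) ▸ hx
  exact hx'.imp (@h x) (@h' x)

theorem isProperOver {M : X.Modules} [IsLocallyNoetherian X] (hM : Coh.IsCoh M) (h : ProperSupp f M) :
    ClSub.IsProperOver f (CohB1.support M) := by
  obtain ⟨T, hT, h⟩ := h
  exact Groth.L17.ProperOver.isProperOver_mono hT (CohSupport.isClosed_support _ hM.2) h

end ProperSupp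

/-- The support of a direct image lies in the closure of the image of the support. -/
theorem support_push_image {X Z : Scheme.{u}} (g : Z ⟶ X) [UniversallyClosed g] [IsLocallyNoetherian Z] {M : Z.Modules}
    (hM : Coh.IsCoh M) : CohB1.support ((Coh.push g).obj M) ⊆ g '' CohB1.support M := by
  have hc : IsClosed (g '' CohB1.support M) := g.isClosedMap _ (CohSupport.isClosed_support _ hM.2)
  intro x hx
  by_contra h
  let V : X.Opens := ⟨(g '' CohB1.support M)ᶜ, hc.isOpen_compl⟩
  have hz := isZero_restrict_push g V.ι M fun y hy hy' => by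
    rw [Scheme.Opens.range_ι] at hy'
    exact hy' ⟨y, hy, rfl⟩
  rw [Groth.L21.Mod.isZero_iff_support_eq_empty, Groth.L21.Mod.support_restrict] at hz
  exact Set.notMem_empty _ (hz ▸ (show (⟨x, h⟩ : ↥V) ∈ V.ι ⁻¹' CohB1.support ((Coh.push g).obj M) from hx))

variable {A : Type u} [CommRing A] [IsNoetherianRing A] (I : Ideal A) [IsAdicComplete I A]

/-- Formal modules with proper support are algebraisable. -/
def AlgebraisableSupp {A : Type u} [CommRing A] (I : Ideal A) (W : Scheme.{u})
    [W.Over (Spec (CommRingCat.of A))] : Prop :=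
  ∀ G : ℕᵒᵖ ⥤ W.Modules, Formal.IsCohFormal I G →
    ProperSupp (W ↘ Spec (CommRingCat.of A)) (G.obj (op 0)) →
    ∃ M : W.Modules, Coh.IsCoh M ∧ ProperSupp (W ↘ Spec (CommRingCat.of A)) M ∧
      Nonempty (Formal.completion I M ≅ G)

omit [IsAdicComplete I A] in
/-- Algebraisation of systems killed by an ideal from algebraisation on the closed subscheme. -/
theorem exists_of_killed_supp {Z : Scheme.{u}} [Z.Over (Spec (CommRingCat.of A))] [AlgebraicGeometry.IsNoetherian Z]
    [LocallyOfFiniteType (Z ↘ Spec (CommRingCat.of A))]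
    (K : Z.IdealSheafData) (h : letI : K.subscheme.Over (Spec (CommRingCat.of A)) :=
      ⟨K.subschemeι ≫ (Z ↘ Spec (CommRingCat.of A))⟩; AlgebraisableSupp I K.subscheme)
    {G : ℕᵒᵖ ⥤ Z.Modules} (hG : Formal.IsCohFormal I G)
    (hGs : ProperSupp (Z ↘ Spec (CommRingCat.of A)) (G.obj (op 0)))
    (hk : ∀ n : ℕ, ClSub.KilledByIdeal K (G.obj (op n))) :
    ∃ M : Z.Modules, Coh.IsCoh M ∧ ProperSupp (Z ↘ Spec (CommRingCat.of A)) M ∧ ClSub.KilledByIdeal K M ∧
      Nonempty (Formal.completion I M ≅ G) := by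
  let i := K.subschemeι
  letI : K.subscheme.Over (Spec (CommRingCat.of A)) := ⟨i ≫ (Z ↘ Spec (CommRingCat.of A))⟩
  haveI : LocallyOfFiniteType (K.subscheme ↘ Spec (CommRingCat.of A)) :=
    inferInstanceAs (LocallyOfFiniteType (i ≫ (Z ↘ Spec (CommRingCat.of A))))
  haveI : IsLocallyNoetherian K.subscheme := LocallyOfFiniteType.isLocallyNoetherian i
  have hpre : ProperSupp (K.subscheme ↘ Spec (CommRingCat.of A)) ((G ⋙ Scheme.Modules.pullback i).obj (op 0)) := by
    obtain ⟨T, ⟨hT, hTp⟩, hle⟩ := hGs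
    haveI : Coh.IsQCoh (G.obj (op 0)) := (hG.1 0).1
    refine ⟨i ⁻¹' T, ⟨hT.preimage i.continuous, ?_⟩, ?_⟩
    · let s := (Scheme.IdealSheafData.vanishingIdeal ⟨i ⁻¹' T, hT.preimage i.continuous⟩).subschemeι
      show IsProper (s ≫ i ≫ (Z ↘ Spec (CommRingCat.of A)))
      rw [← Category.assoc]
      refine Groth.L17.ProperOver.isProper_of_isProperOver ⟨hT, hTp⟩ (s ≫ i) ?_
      rintro _ ⟨w, rfl⟩
      exact (Groth.L17.ProperOver.range_ι ⟨i ⁻¹' T, hT.preimage i.continuous⟩).le ⟨w, rfl⟩
    · rw [Functor.comp_obj, Groth.L19.SupportPullback.support_pullback i _ (hG.1 0).2]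
      exact Set.preimage_mono hle
  obtain ⟨N, hN, ⟨T, hT, hle⟩, he⟩ := h _ (isCohFormal_pullback I i rfl hG) hpre
  obtain ⟨hM, hMK, hM'⟩ := exists_push_of_killed I K hG hk hN he
  refine ⟨_, hM, ⟨i '' T, ?_, ?_⟩, hMK, hM'⟩
  · obtain ⟨hTc, hTp⟩ := hT
    let s := (Scheme.IdealSheafData.vanishingIdeal ⟨T, hTc⟩).subschemeι
    haveI : IsProper ((s ≫ i) ≫ (Z ↘ Spec (CommRingCat.of A))) := by
      rw [Category.assoc]; exact hTp
    have e : i '' T = Set.range (s ≫ i) := by
      refine ((congrArg (Set.image i) (Groth.L17.ProperOver.range_ι ⟨T, hTc⟩)).symm.trans ?_)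
      rw [← Set.range_comp]
      rfl
    rw [e]
    exact Groth.L17.ProperOver.isProperOver_range _ (s ≫ i)
  · exact (support_push_image i hN).trans (Set.image_mono hle)

/-- The induction step. -/
theorem algebraisableSupp_step {Z : Scheme.{u}} [Z.Over (Spec (CommRingCat.of A))]
    [IsSeparated (Z ↘ Spec (CommRingCat.of A))] [LocallyOfFiniteType (Z ↘ Spec (CommRingCat.of A))]
    [QuasiCompact (Z ↘ Spec (CommRingCat.of A))]
    (ih : ∀ (W : Scheme.{u}) (j : W ⟶ Z) [IsClosedImmersion j], Set.range j ≠ Set.univ →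
      letI : W.Over (Spec (CommRingCat.of A)) := ⟨j ≫ (Z ↘ Spec (CommRingCat.of A))⟩; AlgebraisableSupp I W) :
    AlgebraisableSupp I Z := by
  intro G hG hGs
  haveI : IsLocallyNoetherian Z := LocallyOfFiniteType.isLocallyNoetherian (Z ↘ Spec (CommRingCat.of A))
  haveI : CompactSpace Z := QuasiCompact.compactSpace_of_compactSpace (Z ↘ Spec (CommRingCat.of A))
  haveI : AlgebraicGeometry.IsNoetherian Z := ⟨⟩
  by_cases hZ : IsEmpty Z
  · exact ⟨G.obj (op 0), hG.1 0, hGs, Existence.nonempty_iso_of_sequence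
      (fun n => ⟨0, 0, hom_eq_of_isEmpty _ _, hom_eq_of_isEmpty _ _⟩) fun n => hom_eq_of_isEmpty _ _⟩
  rw [not_isEmpty_iff] at hZ
  obtain ⟨N, Z', π, q, hq, hqπ, hπ, -, U₀, hd, hiso⟩ := Chow.exists_chow_dense (Z ↘ Spec (CommRingCat.of A))
  letI : Z'.Over (Spec (CommRingCat.of A)) := ⟨π ≫ (Z ↘ Spec (CommRingCat.of A))⟩
  haveI : LocallyOfFiniteType (Z' ↘ Spec (CommRingCat.of A)) :=
    inferInstanceAs (LocallyOfFiniteType (π ≫ (Z ↘ Spec (CommRingCat.of A))))
  haveI : IsLocallyNoetherian Z' := LocallyOfFiniteType.isLocallyNoetherian π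
  haveI : CompactSpace Z' := QuasiCompact.compactSpace_of_compactSpace π
  haveI : AlgebraicGeometry.IsNoetherian Z' := ⟨⟩
  let i := q ≫ (ProjSpace.isoOver N A).inv
  have hi : i ≫ CohB1.ProjSpace.toSpec N A = Z' ↘ Spec (CommRingCat.of A) := by
    refine Eq.trans ?_ hqπ
    rw [Category.assoc, ← ProjSpace.isoOver_hom_toBase, Iso.inv_hom_id_assoc]
  haveI : IsImmersion q := hq
  haveI : IsImmersion i := inferInstance
  haveI : IsLocallyNoetherian (CohB1.ProjSpace N A) :=
    LocallyOfFiniteType.isLocallyNoetherian (CohB1.ProjSpace.toSpec N A)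
  haveI : QuasiCompact i := inferInstance
  letI : i.image.Over (Spec (CommRingCat.of A)) := ⟨i.imageι ≫ CohB1.ProjSpace.toSpec N A⟩
  haveI : IsProper (i.image ↘ Spec (CommRingCat.of A)) :=
    inferInstanceAs (IsProper (i.imageι ≫ CohB1.ProjSpace.toSpec N A))
  haveI : IsLocallyNoetherian i.image :=
    LocallyOfFiniteType.isLocallyNoetherian (i.image ↘ Spec (CommRingCat.of A))
  haveI : CompactSpace i.image :=
    QuasiCompact.compactSpace_of_compactSpace (i.image ↘ Spec (CommRingCat.of A))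
  haveI : AlgebraicGeometry.IsNoetherian i.image := ⟨⟩
  have hto : i.toImage ≫ (i.image ↘ Spec (CommRingCat.of A)) = Z' ↘ Spec (CommRingCat.of A) :=
    (Category.assoc _ _ _).symm.trans ((congrArg (· ≫ CohB1.ProjSpace.toSpec N A) i.toImage_imageι).trans hi)
  have hG' := isCohFormal_pullback I π rfl hG
  have hGs' : ClSub.IsProperOver (Z' ↘ Spec (CommRingCat.of A))
      (CohB1.support ((G ⋙ Scheme.Modules.pullback π).obj (op 0))) := by
    obtain ⟨T, ⟨hT, hTp⟩, hle⟩ := hGs
    haveI : Coh.IsQCoh (G.obj (op 0)) := (hG.1 0).1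
    rw [Functor.comp_obj, Groth.L19.SupportPullback.support_pullback π _ (hG.1 0).2]
    have hc : IsClosed (π ⁻¹' CohB1.support (G.obj (op 0))) :=
      (CohSupport.isClosed_support _ (hG.1 0).2).preimage π.continuous
    let t := (Scheme.IdealSheafData.vanishingIdeal ⟨T, hT⟩).subschemeι
    haveI := hTp
    let g := pullback.snd t π
    haveI : IsProper (g ≫ (Z' ↘ Spec (CommRingCat.of A))) := by
      show IsProper (g ≫ π ≫ (Z ↘ Spec (CommRingCat.of A)))
      rw [← pullback.condition_assoc]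
      infer_instance
    refine Groth.L17.ProperOver.isProperOver_mono (Groth.L17.ProperOver.isProperOver_range _ g) hc ?_
    rw [Scheme.Pullback.range_snd, Groth.L17.ProperOver.range_ι]
    exact Set.preimage_mono hle
  obtain ⟨F, hF, hFs, ⟨e⟩⟩ := exists_of_open_proper I i.toImage hto hG' hGs'
  let C : Closeds Z := U₀.compl
  let K := Scheme.IdealSheafData.vanishingIdeal C
  have hK : (K.support : Set Z) = (U₀ : Set Z)ᶜ := Scheme.IdealSheafData.coe_support_vanishingIdeal C
  have hKU : K.support.compl = U₀ := Opens.ext (by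
    show (K.support : Set Z)ᶜ = U₀
    rw [hK, compl_compl])
  obtain ⟨α, hα⟩ := exists_killed I π rfl hiso hG hF (fun m => (e.app (op m)).symm) (fun n =>
    (e.inv.naturality (homOfLE (Nat.le_succ n)).op).trans
      (congrArg (e.inv.app (op (n + 1)) ≫ ·) (Existence.completion_tr I F n))) K hKU.le
  have hπF : ProperSupp (Z ↘ Spec (CommRingCat.of A)) ((Scheme.Modules.pushforward π).obj F) := by
    obtain ⟨hc, hp⟩ := hFs
    let s := (Scheme.IdealSheafData.vanishingIdeal ⟨_, hc⟩).subschemeι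
    haveI : IsProper ((s ≫ π) ≫ (Z ↘ Spec (CommRingCat.of A))) := by
      rw [Category.assoc]; exact hp
    haveI : IsProper (s ≫ π) := IsProper.of_comp (s ≫ π) (Z ↘ Spec (CommRingCat.of A))
    refine ⟨_, Groth.L17.ProperOver.isProperOver_range _ (s ≫ π), ?_⟩
    refine (support_push_image π hF).trans ?_
    rintro _ ⟨x, hx, rfl⟩
    obtain ⟨w, rfl⟩ := (Groth.L17.ProperOver.range_ι ⟨_, hc⟩).ge hx
    exact ⟨w, rfl⟩
  refine exists_algebraization_of_property (ProperSupp (Z ↘ Spec (CommRingCat.of A))) ProperSupp.sub ProperSupp.quo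
    ProperSupp.sum K hG hGs (fun k => ⟨fun M M' hM hM' hs _ _ ψ =>
      HomSh.existsUnique_of_completion I hM hM' ?_ ψ, fun G' hG' hs hk => ?_⟩)
    ⟨_, α, isCoh_pushforward π hF, hπF, hα⟩
  · have hcl := (CohSupport.isClosed_support _ hM.2).inter (CohSupport.isClosed_support _ hM'.2)
    rcases hs with h | h
    · exact Groth.L17.ProperOver.isProperOver_mono (ProperSupp.isProperOver hM h) hcl Set.inter_subset_left
    · exact Groth.L17.ProperOver.isProperOver_mono (ProperSupp.isProperOver hM' h) hcl Set.inter_subset_right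
  refine exists_of_killed_supp I (K ^ k) (ih _ (K ^ k).subschemeι ?_) hG' hs hk
  rw [Scheme.IdealSheafData.range_subschemeι]
  obtain ⟨x, hx⟩ := hd.nonempty
  rcases Nat.eq_zero_or_pos k with rfl | hk0
  · intro h
    have : x ∈ ((K ^ 0).support : Set Z) := h ▸ Set.mem_univ x
    rw [pow_zero, Scheme.IdealSheafData.one_eq_top, Scheme.IdealSheafData.support_top] at this
    exact this
  · rw [Scheme.IdealSheafData.support_pow _ _ hk0.ne', hK]
    intro h
    exact (h ▸ Set.mem_univ x : x ∈ (U₀ : Set Z)ᶜ) hx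

/-- The existence theorem with proper support. -/
theorem algebraisableSupp (X : Scheme.{u}) [X.Over (Spec (CommRingCat.of A))]
    [IsSeparated (X ↘ Spec (CommRingCat.of A))] [LocallyOfFiniteType (X ↘ Spec (CommRingCat.of A))]
    [QuasiCompact (X ↘ Spec (CommRingCat.of A))] : AlgebraisableSupp I X := by
  haveI : IsLocallyNoetherian X := LocallyOfFiniteType.isLocallyNoetherian (X ↘ Spec (CommRingCat.of A))
  haveI : CompactSpace X := QuasiCompact.compactSpace_of_compactSpace (X ↘ Spec (CommRingCat.of A))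
  haveI : AlgebraicGeometry.IsNoetherian X := ⟨⟩
  have key : ∀ (C : Closeds X) (Z : Scheme.{u}) [Z.Over (Spec (CommRingCat.of A))] (i : Z ⟶ X),
      IsClosedImmersion i → i ≫ (X ↘ Spec (CommRingCat.of A)) = Z ↘ Spec (CommRingCat.of A) →
      Set.range i ⊆ C → AlgebraisableSupp I Z := by
    intro C
    induction C using WellFoundedLT.induction with
    | _ C ih =>
    intro Z _ i hi hiA hC
    haveI := hi
    haveI : IsSeparated (Z ↘ Spec (CommRingCat.of A)) := by rw [← hiA]; infer_instance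
    haveI : LocallyOfFiniteType (Z ↘ Spec (CommRingCat.of A)) := by rw [← hiA]; infer_instance
    haveI : QuasiCompact (Z ↘ Spec (CommRingCat.of A)) := by rw [← hiA]; infer_instance
    refine algebraisableSupp_step I fun W j _ hj => ?_
    letI : W.Over (Spec (CommRingCat.of A)) := ⟨j ≫ (Z ↘ Spec (CommRingCat.of A))⟩
    let C' : Closeds X := ⟨Set.range (j ≫ i), (j ≫ i).isClosedMap.isClosed_range⟩
    have hle : (C' : Set X) ⊆ C := by
      rintro _ ⟨w, rfl⟩
      exact hC ⟨j w, rfl⟩
    refine ih C' (lt_of_le_of_ne hle fun h => hj (Set.eq_univ_of_forall fun z => ?_)) W (j ≫ i) inferInstance ?_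
      subset_rfl
    · obtain ⟨w, hw⟩ := (h ▸ hC ⟨z, rfl⟩ : i z ∈ C')
      exact ⟨w, i.isClosedEmbedding.injective hw⟩
    · rw [Category.assoc, hiA]
      rfl
  exact key ⊤ X (𝟙 X) inferInstance (Category.id_comp _) (Set.subset_univ _)

end Groth.L16.Exist
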