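import Groth.Agent.L16.Exist.AlgComplete
import Groth.Agent.L29.LocFree
import Groth.Agent.L18.Ample
import Groth.Prelude.Def_ClSub2

/-!
Algebraisation of a system of closed subschemes of the thickenings of a proper scheme over a complete ring.
-/

set_option autoImplicit false
set_option linter.style.haveILetI false
set_option backward.isDefEq.respectTransparency false
set_option backward.isDefEq.respectTransparency.types false

universe u

open CategoryTheory CategoryTheory.Limits AlgebraicGeometry TopologicalSpace Opposite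

noncomputable section

namespace Groth.L16.Exist.Adic

open Formal (smulMod modPow modPowπ modPowTrans modPowπ_trans)
open AffineBC (scal)

/-- The unit followed by `f^* O = O` is the comorphism. -/
theorem unit_pullbackUnitIso {Z W : Scheme.{u}} (f : Z ⟶ W) :
    (Scheme.Modules.pullbackPushforwardAdjunction f).unit.app (Coh.structureModule W) ≫
      (Coh.push f).map (Groth.L29.LocFree.pullbackUnitIso f).hom = ClSub.unitToPush f := by
  refine ((Scheme.Modules.pullbackPushforwardAdjunction f).homEquiv_unit _ _ _).symm.trans ?_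
  refine (SheafOfModules.pullbackPushforwardAdjunction_homEquiv_pullbackObjUnitToUnit f.toRingCatSheafHom).trans ?_
  ext U : 2
  rfl

/-- Comorphisms of composites. -/
theorem unitToPush_comp {Z W X : Scheme.{u}} (f : Z ⟶ W) (g : W ⟶ X) (h : Z ⟶ X) (hh : h = f ≫ g) :
    ClSub.unitToPush g ≫ (Coh.push g).map (ClSub.unitToPush f) ≫
      (Scheme.Modules.pushforwardComp f g).hom.app _ ≫ (Scheme.Modules.pushforwardCongr hh.symm).hom.app _ =
    ClSub.unitToPush h := by
  subst hh
  ext U y
  show ((Coh.structureModule Z).presheaf.map (eqToHom rfl).op) (f.app (g ⁻¹ᵁ U) (g.app U y)) = (f ≫ g).app U y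
  rw [eqToHom_refl, op_id, CategoryTheory.Functor.map_id, Scheme.Hom.comp_app]
  rfl

theorem unitToPush_app {Z W : Scheme.{u}} (f : Z ⟶ W) (U : W.Opens) (y : Γ(W, U)) :
    (ClSub.unitToPush f).app U y = f.app U y := rfl

variable {A : Type u} [CommRing A] [IsNoetherianRing A] {I : Ideal A} [IsAdicComplete I A] {X : Scheme.{u}}
  [X.Over (Spec (CommRingCat.of A))] [IsProper (X ↘ Spec (CommRingCat.of A))]
  {Xs : ℕ → Scheme.{u}} [∀ k, (Xs k).Over (Spec (CommRingCat.of A))]
  {p : (k : ℕ) → (Xs k ⟶ Spec (CommRingCat.of (A ⧸ I ^ (k + 1))))} {i : (k : ℕ) → (Xs k ⟶ Xs (k + 1))}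

/-- A system of closed subschemes of a proper scheme over a complete ring is algebraic. -/
theorem exists_closed_algebraization (S : IsSys I Xs p i) (r : (k : ℕ) → (Xs k ⟶ X))
    (hcl : ∀ k, IsClosedImmersion (r k)) (hr : ∀ k, r k = i k ≫ r (k + 1))
    (hbase : ∀ k, r k ≫ (X ↘ Spec (CommRingCat.of A)) = Xs k ↘ Spec (CommRingCat.of A)) :
    ∃ (Y : Scheme.{u}) (ι : Y ⟶ X) (e : (k : ℕ) → (Xs k ⟶ Y)), IsClosedImmersion ι ∧
      (∀ k, e k ≫ ι = r k) ∧ (∀ k, IsClosedImmersion (e k)) ∧ (∀ k, e k = i k ≫ e (k + 1)) ∧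
      ∀ k, IsPullback (e k) (p k) (ι ≫ (X ↘ Spec (CommRingCat.of A))) (CohB1.specQuot I k) := by
  haveI : IsLocallyNoetherian X := LocallyOfFiniteType.isLocallyNoetherian (X ↘ Spec (CommRingCat.of A))
  haveI : CompactSpace X := QuasiCompact.compactSpace_of_compactSpace (X ↘ Spec (CommRingCat.of A))
  haveI : AlgebraicGeometry.IsNoetherian X := {}
  haveI : IsLocallyNoetherian (Xs 0) := by
    haveI := hcl 0
    exact LocallyOfFiniteType.isLocallyNoetherian (r 0)
  haveI := isLocallyNoetherian S
  let N : (k : ℕ) → (Xs k).Modules := fun k => Coh.structureModule (Xs k)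
  have hN : ∀ k, Coh.IsCoh (N k) := fun k =>
    ProperFinite.isCoh_of_isInvertible (Groth.L18.Ample.isInvertible_structureModule _)
  let G := pushSys r hr N fun k => Groth.L29.LocFree.pullbackUnitIso (i k)
  have hG : Formal.IsCohFormal I G := isCohFormal_pushSys r hr N _ S hcl hbase hN
  obtain ⟨H, hH, ⟨ε⟩⟩ := algebraisable I X G hG
  -- the unit
  let v : ∀ k, Coh.structureModule X ⟶ (Coh.push (r k)).obj (N k) := fun k => ClSub.unitToPush (r k)
  have hv : ∀ k, v (k + 1) ≫ G.map (homOfLE (Nat.le_succ k)).op = v k := fun k => by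
    rw [pushSys_map, pushTr]
    simp only [Iso.trans_hom, Functor.mapIso_hom, Iso.app_hom, ← Functor.map_comp_assoc, N, unit_pullbackUnitIso]
    exact unitToPush_comp (i k) (r (k + 1)) (r k) (hr k)
  have hO : Coh.IsCoh (Coh.structureModule X) :=
    ProperFinite.isCoh_of_isInvertible (Groth.L18.Ample.isInvertible_structureModule _)
  let f : ∀ k, Coh.structureModule X ⟶ modPow I (k + 1) H := fun k => v k ≫ ε.inv.app (op k)
  have hf : ∀ k, f (k + 1) ≫ modPowTrans I (k + 1) H = f k := fun k => by
    show (v (k + 1) ≫ ε.inv.app (op (k + 1))) ≫ _ = v k ≫ ε.inv.app (op k)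
    rw [← Existence.completion_tr I H k, Category.assoc]
    rw [← ε.inv.naturality, ← Category.assoc, hv k]
  obtain ⟨u, hu, -⟩ := HomSh.existsUnique_hom I hO hH (isProperOver_support hO hH) f hf
  have hvu : ∀ k, u ≫ modPowπ I (k + 1) H ≫ ε.hom.app (op k) = v k := fun k => by
    rw [← Category.assoc, ← hu k]
    show (v k ≫ ε.inv.app (op k)) ≫ ε.hom.app (op k) = v k
    rw [Category.assoc, ← NatTrans.comp_app, ε.inv_hom_id, NatTrans.id_app]
    exact Category.comp_id _
  haveI : Coh.IsQCoh (Coh.structureModule X) := hO.1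
  haveI : Coh.IsQCoh H := hH.1
  haveI hepi : Epi u := by
    refine Preadditive.epi_of_cokernel_zero ?_
    have hC := (CohKernel.isCoh_kernel_cokernel hO hH u).2
    haveI : Epi (cokernel.π u) := coequalizer.π_epi
    obtain ⟨red, hred⟩ := Existence.modPow_desc I (cokernel.π u ≫ modPowπ I (0 + 1) (cokernel u)) (n := 0 + 1)
      fun b hb => by
        rw [← Category.assoc, Rees.smulMod_naturality, Category.assoc, Rees.smulMod_modPowπ I _ hb, comp_zero]
    haveI : Epi (u ≫ modPowπ I (0 + 1) H) := by
      rw [← hu 0]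
      haveI : Epi (v 0) := ⟨fun a b h => AffineBC.hom_ext_affine _ _ fun U hU m => by
        haveI := hcl 0
        obtain ⟨y, hy⟩ := (r 0).app_surjective U hU m
        subst hy
        exact ConcreteCategory.congr_hom (congrArg (fun t => Scheme.Modules.Hom.app t U) h) y⟩
      exact epi_comp _ _
    have h0 : red = 0 := by
      rw [← cancel_epi (u ≫ modPowπ I (0 + 1) H), comp_zero, Category.assoc, hred, ← Category.assoc,
        cokernel.condition, zero_comp]
    have h1 : modPowπ I 1 (cokernel u) = 0 := by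
      rw [← cancel_epi (cokernel.π u), comp_zero]
      exact hred.symm.trans (by rw [h0, comp_zero])
    have h2 := eq_zero_of_reduction (X ↘ Spec (CommRingCat.of A)).isClosedMap hC h1
    rw [← Category.comp_id (cokernel.π u), h2, comp_zero]
  -- the subscheme
  let K := SchSupport.annIdeal hH
  let ι := K.subschemeι
  have hone : ∀ (U : X.Opens) (a : Γ(X, U)), u.app U a = a • u.app U (1 : Γ(X, U)) := fun U a => by
    rw [← Scheme.Modules.Hom.app_smul]
    exact congrArg (u.app U) (mul_one a).symm
  have hKmem : ∀ (U : X.affineOpens) (a : Γ(X, U.1)), a ∈ K.ideal U ↔ u.app U.1 a = 0 := fun U a => by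
    rw [SchSupport.annIdeal_ideal, Module.mem_annihilator]
    refine ⟨fun h => (hone U.1 a).trans (h _), fun h m => ?_⟩
    obtain ⟨b, rfl⟩ := AffineBC.surjective_app_of_epi u U.2 m
    let b' : Γ(X, U.1) := b
    show a • u.app U.1 b' = 0
    rw [hone U.1 b', smul_comm, ← hone U.1 a, h, smul_zero]
  have hle : ∀ k, ι.ker ≤ (r k).ker := fun k U a ha => by
    rw [Scheme.IdealSheafData.ker_subschemeι] at ha
    rw [Scheme.Hom.ker_apply, RingHom.mem_ker]
    have h := ConcreteCategory.congr_hom (congrArg (fun t => Scheme.Modules.Hom.app t U.1) (hvu k)) a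
    refine h.symm.trans ?_
    show (modPowπ I (k + 1) H ≫ ε.hom.app (op k)).app U.1 (u.app U.1 a) = 0
    rw [(hKmem U a).1 ha, map_zero]
  let e : (k : ℕ) → (Xs k ⟶ K.subscheme) := fun k => IsClosedImmersion.lift ι (r k) (hle k)
  have heι : ∀ k, e k ≫ ι = r k := fun k => IsClosedImmersion.lift_fac _ _ _
  refine ⟨K.subscheme, ι, e, inferInstance, heι, fun k => ?_, fun k => ?_, fun k => ?_⟩
  · haveI : IsClosedImmersion (e k ≫ ι) := by rw [heι]; exact hcl k
    exact IsClosedImmersion.of_comp (e k) ι
  · rw [← cancel_mono ι, Category.assoc, heι, heι]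
    exact hr k
  haveI := hcl k
  haveI := isClosedImmersion_specQuot I k
  let g := ι ≫ (X ↘ Spec (CommRingCat.of A))
  let Q := pullback g (CohB1.specQuot I k)
  let s : Q ⟶ X := pullback.fst g (CohB1.specQuot I k) ≫ ι
  haveI : IsClosedImmersion s := inferInstance
  letI : Q.Over (Spec (CommRingCat.of A)) := ⟨pullback.snd g (CohB1.specQuot I k) ≫ CohB1.specQuot I k⟩
  have hsbase : s ≫ (X ↘ Spec (CommRingCat.of A)) = Q ↘ Spec (CommRingCat.of A) :=
    (Category.assoc _ _ _).trans pullback.condition
  have hker : (r k).ker ≤ s.ker := fun U a ha => by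
    rw [Scheme.Hom.ker_apply, RingHom.mem_ker] at ha ⊢
    have hva : (v k).app U.1 a = 0 := ha
    have hpi : (modPowπ I (k + 1) H).app U.1 (u.app U.1 a) = 0 := by
      apply (ConcreteCategory.bijective_of_isIso ((ε.app (op k)).hom.app U.1)).1
      rw [map_zero]
      exact (ConcreteCategory.congr_hom (congrArg (fun t => Scheme.Modules.Hom.app t U.1) (hvu k)) a).trans hva
    have hmem := ((HomSh.modPow_spec I hH (k + 1)).2 U.1 U.2).2 _ |>.1 hpi
    have hsK : ∀ c, u.app U.1 c = 0 → s.app U.1 c = 0 := fun c hc => by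
      have h1 : ι.app U.1 c = 0 := by
        rw [← RingHom.mem_ker, ← Scheme.Hom.ker_apply, Scheme.IdealSheafData.ker_subschemeι]
        exact (hKmem U c).2 hc
      rw [Scheme.Hom.comp_app, ConcreteCategory.comp_apply, h1, map_zero]
    have hscal : ∀ c ∈ (I.map (scal A X U.1)) ^ (k + 1), s.app U.1 c = 0 := by
      intro c hc
      rw [← Ideal.map_pow] at hc
      induction hc using Submodule.span_induction with
      | mem y hy =>
        obtain ⟨t, ht, rfl⟩ := hy
        have h1 : s.app U.1 (scal A X U.1 t) = scal A Q (s ⁻¹ᵁ U.1) t := by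
          show s.app U.1 (X.presheaf.map (homOfLE le_top).op
            ((X ↘ Spec (CommRingCat.of A)).appTop ((Scheme.ΓSpecIso (CommRingCat.of A)).inv t))) = _
          refine (ConcreteCategory.congr_hom (s.naturality (homOfLE (le_top : U.1 ≤ ⊤)).op) _).trans ?_
          show _ = Q.presheaf.map (homOfLE le_top).op
            ((Q ↘ Spec (CommRingCat.of A)).appTop ((Scheme.ΓSpecIso (CommRingCat.of A)).inv t))
          rw [← hsbase]
          rfl
        rw [h1]
        exact scal_eq_zero (pullback.snd g (CohB1.specQuot I k)) rfl ht _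
      | zero => exact map_zero _
      | add y y' _ _ h h' => rw [map_add, h, h', add_zero]
      | smul d y _ h => rw [smul_eq_mul, map_mul, h, mul_zero]
    obtain ⟨b, hb, hbu⟩ : ∃ b ∈ (I.map (scal A X U.1)) ^ (k + 1), u.app U.1 b = u.app U.1 a := by
      refine Submodule.smul_induction_on hmem (fun c hc y _ => ?_) ?_
      · obtain ⟨y', rfl⟩ := AffineBC.surjective_app_of_epi u U.2 y
        let y'' : Γ(X, U.1) := y'
        refine ⟨y'' * c, Ideal.mul_mem_left _ _ hc, ?_⟩
        show u.app U.1 (y'' * c) = c • u.app U.1 y''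
        rw [hone U.1 (y'' * c), hone U.1 y'', ← mul_smul, mul_comm]
      · rintro y y' ⟨b, hb, rfl⟩ ⟨b', hb', rfl⟩
        exact ⟨b + b', add_mem hb hb', map_add _ _ _⟩
    have h3 := hsK (a - b) ((map_sub (u.app U.1).hom a b).trans (sub_eq_zero.2 hbu.symm))
    rw [map_sub, hscal b hb, sub_zero] at h3
    exact h3
  have hw : e k ≫ g = p k ≫ CohB1.specQuot I k := by
    rw [← Category.assoc, heι, hbase, S.base]
  let c : Xs k ⟶ Q := pullback.lift (e k) (p k) hw
  have hcs : c ≫ s = r k := by rw [pullback.lift_fst_assoc, heι]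
  let l : Q ⟶ Xs k := IsClosedImmersion.lift (r k) s hker
  have hl : l ≫ r k = s := IsClosedImmersion.lift_fac _ _ _
  let E : Xs k ≅ Q := ⟨c, l, by rw [← cancel_mono (r k), Category.assoc, hl, hcs, Category.id_comp],
    by rw [← cancel_mono s, Category.assoc, hcs, hl, Category.id_comp]⟩
  exact IsPullback.of_iso_pullback ⟨hw⟩ E (pullback.lift_fst _ _ _) (pullback.lift_snd _ _ _)

end Groth.L16.Exist.Adic
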