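import Groth.Agent.L16.Exist.AdicGen
import Groth.Agent.L29.DCoh.PullTensor

/-!
Lifting global sections of twists along the thickenings.
-/

set_option autoImplicit false
set_option linter.style.haveILetI false
set_option backward.isDefEq.respectTransparency false
set_option backward.isDefEq.respectTransparency.types false

universe u

open CategoryTheory CategoryTheory.Limits AlgebraicGeometry TopologicalSpace Opposite

noncomputable section

namespace Groth.L16.Exist.Adic

open Groth.L00.Tensor (tensorLeftF tensorMap tensorMap_comp tensorIso tensorUnitRight)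
open Groth.L29.DC (PullTensor.δ PullTensor.δ₀ PullTensor.unit_push_δ PullTensor.isIso_δ)

/-- Surjectivity of the unit on global sections only depends on the isomorphism class. -/
theorem surjective_unit_top_of_iso {Z X : Scheme.{u}} (f : Z ⟶ X) {M N : X.Modules} (e : M ≅ N)
    (h : Function.Surjective (((Scheme.Modules.pullbackPushforwardAdjunction f).unit.app M).app ⊤)) :
    Function.Surjective (((Scheme.Modules.pullbackPushforwardAdjunction f).unit.app N).app ⊤) := by
  intro y
  let P := Scheme.Modules.pullback f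
  obtain ⟨x, hx⟩ := h (((Coh.push f).map (P.map e.inv)).app ⊤ y)
  refine ⟨e.hom.app ⊤ x, ?_⟩
  have hn := ConcreteCategory.congr_hom (congrArg (fun t => Scheme.Modules.Hom.app t ⊤)
    ((Scheme.Modules.pullbackPushforwardAdjunction f).unit.naturality e.hom)) x
  refine hn.trans ?_
  show ((Coh.push f).map (P.map e.hom)).app ⊤ (((Scheme.Modules.pullbackPushforwardAdjunction f).unit.app M).app ⊤ x) = y
  rw [hx]
  have hc : (Coh.push f).map (P.map e.inv) ≫ (Coh.push f).map (P.map e.hom) = 𝟙 _ := by
    rw [← Functor.map_comp, ← Functor.map_comp, e.inv_hom_id, CategoryTheory.Functor.map_id,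
      CategoryTheory.Functor.map_id]
  exact ConcreteCategory.congr_hom (congrArg (fun t => Scheme.Modules.Hom.app t ⊤) hc) y

/-- The unit on a tensor product along a closed immersion is the unit on one factor, up to isomorphism. -/
theorem surjective_unit_tensor {Z X : Scheme.{u}} (f : Z ⟶ X) [IsClosedImmersion f] {O : X.Modules}
    (hO : FlatMod.IsFinLocFree O) (F : X.Modules)
    (h : Function.Surjective
      (((tensorLeftF O).map ((Scheme.Modules.pullbackPushforwardAdjunction f).unit.app F)).app ⊤)) :
    Function.Surjective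
      (((Scheme.Modules.pullbackPushforwardAdjunction f).unit.app (CohB1.tensorMod O F)).app ⊤) := by
  let adj := Scheme.Modules.pullbackPushforwardAdjunction f
  haveI := Groth.L17.ProjFormula.isIso_θ f O ((Scheme.Modules.pullback f).obj F) hO
  haveI := Groth.L29.DC.PullTensor.isIso_δ f O F
  let θ := Groth.L17.ClosedPush.θ f ((Scheme.Modules.pullback f).obj F) O
  have key : (tensorLeftF O).map (adj.unit.app F) ≫ θ ≫
      inv ((Coh.push f).map (Groth.L29.DC.PullTensor.δ f O F)) = adj.unit.app (CohB1.tensorMod O F) := by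
    rw [← Category.assoc, IsIso.comp_inv_eq]
    refine Eq.trans ?_ (Groth.L29.DC.PullTensor.unit_push_δ f O F).symm
    show tensorMap (𝟙 O) (adj.unit.app F) ≫ tensorMap (adj.unit.app O) (𝟙 _) ≫ Groth.L17.ClosedPush.μ f _ _ = _
    rw [← Category.assoc, ← tensorMap_comp, Category.id_comp, Category.comp_id]
    rfl
  rw [← key]
  haveI : IsIso θ := ‹_›
  exact (ConcreteCategory.bijective_of_isIso
    ((θ ≫ inv ((Coh.push f).map (Groth.L29.DC.PullTensor.δ f O F))).app ⊤)).2.comp h

variable {A : Type u} [CommRing A] [IsNoetherianRing A] {J : Ideal A} {Xs : ℕ → Scheme.{u}}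
  [∀ k, (Xs k).Over (Spec (CommRingCat.of A))]
  {p : (k : ℕ) → (Xs k ⟶ Spec (CommRingCat.of (A ⧸ J ^ (k + 1))))} {i : (k : ℕ) → (Xs k ⟶ Xs (k + 1))}
  (S : IsSys J Xs p i) (F : (k : ℕ) → (Xs k).Modules) (hF : ∀ k, Coh.IsCoh (F k))
  (ψ : ∀ k, (Scheme.Modules.pullback (i k)).obj (F (k + 1)) ≅ F k)

include S hF ψ in
/-- Global sections of large twists lift along the thickenings. -/
theorem exists_surjective_unit [IsProper (Xs 0 ↘ Spec (CommRingCat.of A))]
    (L : (k : ℕ) → (Xs k).Modules) (hL : ∀ k, PicF.IsInvertible (L k))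
    (φ : ∀ k, (Scheme.Modules.pullback (i k)).obj (L (k + 1)) ≅ L k) (ha : CohB1.IsAmple (L 0)) :
    ∃ n₀ : ℕ, ∀ n : ℕ, n₀ ≤ n → ∀ k : ℕ, Function.Surjective
      (((Scheme.Modules.pullbackPushforwardAdjunction (i k)).unit.app
        (CohB1.tensorMod (CohB1.tensorPow (L (k + 1)) n) (F (k + 1)))).app ⊤) := by
  obtain ⟨n₀, hv⟩ := exists_uniform_vanishing_sys S F hF ψ L hL φ ha
  refine ⟨n₀, fun n hn k => ?_⟩
  haveI := isClosedImmersion_i S k
  haveI := epi_c S F hF k
  have hO : FlatMod.IsFinLocFree (CohB1.tensorPow (L (k + 1)) n) :=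
    Existence.isFinLocFree_of_isInvertible (Groth.L18.Ample.isInvertible_tensorPow (hL (k + 1)) n)
  obtain ⟨z, hT⟩ := shortExact_tensor hO
    (show (ShortComplex.mk (kernel.ι (c (i := i) F k)) (c (i := i) F k) (kernel.condition _)).ShortExact from
      { exact := ShortComplex.exact_kernel _, epi_g := inferInstance })
  exact surjective_unit_tensor (i k) hO (F (k + 1)) (surjective_app_top hT (hv n hn k 1 Nat.one_pos).2)

include S in
/-- Global sections of large powers lift along the thickenings. -/
theorem exists_surjective_unit_pow [IsProper (Xs 0 ↘ Spec (CommRingCat.of A))]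
    (L : (k : ℕ) → (Xs k).Modules) (hL : ∀ k, PicF.IsInvertible (L k))
    (φ : ∀ k, (Scheme.Modules.pullback (i k)).obj (L (k + 1)) ≅ L k) (ha : CohB1.IsAmple (L 0)) :
    ∃ n₀ : ℕ, ∀ n : ℕ, n₀ ≤ n → ∀ k : ℕ, Function.Surjective
      (((Scheme.Modules.pullbackPushforwardAdjunction (i k)).unit.app
        (CohB1.tensorPow (L (k + 1)) n)).app ⊤) := by
  haveI : IsLocallyNoetherian (Xs 0) := LocallyOfFiniteType.isLocallyNoetherian (Xs 0 ↘ Spec (CommRingCat.of A))
  haveI := isLocallyNoetherian S
  obtain ⟨n₀, h⟩ := exists_surjective_unit S (fun k => Coh.structureModule (Xs k))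
    (fun k => ProperFinite.isCoh_of_isInvertible (Groth.L18.Ample.isInvertible_structureModule _))
    (fun k => Groth.L29.LocFree.pullbackUnitIso (i k)) L hL φ ha
  exact ⟨n₀, fun n hn k => surjective_unit_top_of_iso (i k) (tensorUnitRight _) (h n hn k)⟩

end Groth.L16.Exist.Adic
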