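import Groth.Agent.L16.Exist.PushPull
import Groth.Agent.L16.Chow.Dense
import Groth.Agent.L16.ProjSpace.BaseChange
import Groth.Agent.S0061
import Mathlib.AlgebraicGeometry.Morphisms.ClosedImmersion

/-!
The existence theorem for proper schemes.
-/

set_option autoImplicit false
set_option linter.style.haveILetI false
set_option backward.isDefEq.respectTransparency false
set_option backward.isDefEq.respectTransparency.types false

universe u

open CategoryTheory CategoryTheory.Limits AlgebraicGeometry TopologicalSpace Opposite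

noncomputable section

namespace Groth.L16.Exist

open Formal (modPow modPowπ modPowTrans modPowπ_trans)
open Existence (tr completion_tr)

/-- Morphisms of modules on an empty scheme are equal. -/
theorem hom_eq_of_isEmpty {Z : Scheme.{u}} [IsEmpty Z] {M N : Z.Modules} (φ ψ : M ⟶ N) : φ = ψ :=
  AffineBC.hom_ext_affine φ ψ fun U _ x =>
    HomSh.ext_cover N (ι := PEmpty.{u+1}) (fun i => i.elim) (fun i => i.elim) (fun y _ => isEmptyElim y)
      fun i => i.elim

theorem killed_push {X W : Scheme.{u}} (i : W ⟶ X) [QuasiCompact i] (N : W.Modules) :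
    ClSub.KilledByIdeal i.ker ((Coh.push i).obj N) := by
  intro U a ha y
  rw [Scheme.Hom.ker_apply, RingHom.mem_ker] at ha
  show i.app U.1 a • (show Γ(N, i ⁻¹ᵁ U.1) from y) = 0
  rw [show i.app U.1 a = 0 from ha]
  exact zero_smul _ _

/-- Every coherent formal module on the scheme is algebraisable. -/
def Algebraisable {A : Type u} [CommRing A] (I : Ideal A) (W : Scheme.{u})
    [W.Over (Spec (CommRingCat.of A))] : Prop :=
  ∀ G : ℕᵒᵖ ⥤ W.Modules, Formal.IsCohFormal I G →
    ∃ M : W.Modules, Coh.IsCoh M ∧ Nonempty (Formal.completion I M ≅ G)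

variable {A : Type u} [CommRing A] [IsNoetherianRing A] (I : Ideal A) [IsAdicComplete I A]

omit [IsAdicComplete I A] in
/-- Algebraisation of a killed system by a direct image. -/
theorem exists_push_of_killed {Z : Scheme.{u}} [Z.Over (Spec (CommRingCat.of A))] [AlgebraicGeometry.IsNoetherian Z]
    (K : Z.IdealSheafData) {G : ℕᵒᵖ ⥤ Z.Modules} (hG : Formal.IsCohFormal I G)
    (hk : ∀ n : ℕ, ClSub.KilledByIdeal K (G.obj (op n))) {N : K.subscheme.Modules} (hN : Coh.IsCoh N)
    (he : letI : K.subscheme.Over (Spec (CommRingCat.of A)) :=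
      ⟨K.subschemeι ≫ (Z ↘ Spec (CommRingCat.of A))⟩;
      Nonempty (Formal.completion I N ≅ G ⋙ Scheme.Modules.pullback K.subschemeι)) :
    Coh.IsCoh ((Coh.push K.subschemeι).obj N) ∧ ClSub.KilledByIdeal K ((Coh.push K.subschemeι).obj N) ∧
      Nonempty (Formal.completion I ((Coh.push K.subschemeι).obj N) ≅ G) := by
  let i := K.subschemeι
  letI : K.subscheme.Over (Spec (CommRingCat.of A)) := ⟨i ≫ (Z ↘ Spec (CommRingCat.of A))⟩
  haveI : IsLocallyNoetherian K.subscheme := LocallyOfFiniteType.isLocallyNoetherian i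
  obtain ⟨e⟩ := he
  have hker : i.ker = K := Scheme.IdealSheafData.ker_subschemeι K
  refine ⟨CohClosedPush.isCoh_push i hN, fun U a ha y => killed_push i N U a (by rw [hker]; exact ha) y, ?_⟩
  haveI : ∀ n, IsIso (ηU i (G.obj (op n))) := fun n => isIso_ηU i (hG.1 n) (by rw [hker]; exact hk n)
  choose θ hθ using fun m => Supp.exists_modPowIso I i rfl (Iso.refl ((Coh.push i).obj N)) (m + 1)
  refine Existence.nonempty_iso_of_sequence
    (fun n => (θ n).symm ≪≫ (Coh.push i).mapIso (e.app (op n)) ≪≫ (asIso (ηU i (G.obj (op n)))).symm) fun n => ?_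
  have hθtr : modPowTrans I (n + 1) ((Coh.push i).obj N) ≫ (θ n).inv =
      (θ (n + 1)).inv ≫ (Coh.push i).map (modPowTrans I (n + 1) N) := by
    rw [Iso.eq_inv_comp, ← Category.assoc, Iso.comp_inv_eq]
    haveI : Epi ((Coh.push i).map (modPowπ I (n + 1 + 1) N)) := by
      haveI : PreservesColimitsOfSize.{u, u} (Coh.push i) := Groth.L17.ClosedPush.preservesColimits_push i
      haveI : PreservesColimitsOfSize.{0, 0} (Coh.push i) := preservesColimitsOfSize_shrink.{0, u, 0, u} _
      haveI : Epi (modPowπ I (n + 1 + 1) N) := Existence.epi_modPowπ I _ N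
      infer_instance
    rw [← cancel_epi ((Coh.push i).map (modPowπ I (n + 1 + 1) N)), reassoc_of% hθ (n + 1),
      ← Functor.map_comp_assoc, modPowπ_trans, modPowπ_trans, hθ n]
  have hη : (Coh.push i).map ((Scheme.Modules.pullback i).map (G.map (homOfLE (Nat.le_succ n)).op)) ≫
      inv (ηU i (G.obj (op n))) = inv (ηU i (G.obj (op (n + 1)))) ≫ G.map (homOfLE (Nat.le_succ n)).op := by
    rw [IsIso.eq_inv_comp, ← Category.assoc, IsIso.comp_inv_eq]
    exact (ηU_natural i _).symm
  have he : modPowTrans I (n + 1) N ≫ (e.app (op n)).hom =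
      (e.app (op (n + 1))).hom ≫ (Scheme.Modules.pullback i).map (G.map (homOfLE (Nat.le_succ n)).op) :=
    (congrArg (· ≫ (e.app (op n)).hom) (completion_tr I N n).symm).trans (e.hom.naturality _)
  rw [show (Formal.completion I ((Coh.push i).obj N)).map (homOfLE (Nat.le_succ n)).op =
    modPowTrans I (n + 1) ((Coh.push i).obj N) from completion_tr I _ n]
  simp only [Iso.trans_hom, Iso.symm_hom, Functor.mapIso_hom, asIso_inv]
  rw [reassoc_of% hθtr, ← Functor.map_comp_assoc, he, Functor.map_comp_assoc, hη]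
  simp only [Category.assoc]

omit [IsAdicComplete I A] in
/-- Algebraisation of systems killed by an ideal from algebraisation on the closed subscheme. -/
theorem exists_of_killed {Z : Scheme.{u}} [Z.Over (Spec (CommRingCat.of A))] [AlgebraicGeometry.IsNoetherian Z]
    (K : Z.IdealSheafData) (h : letI : K.subscheme.Over (Spec (CommRingCat.of A)) :=
      ⟨K.subschemeι ≫ (Z ↘ Spec (CommRingCat.of A))⟩; Algebraisable I K.subscheme)
    {G : ℕᵒᵖ ⥤ Z.Modules} (hG : Formal.IsCohFormal I G)
    (hk : ∀ n : ℕ, ClSub.KilledByIdeal K (G.obj (op n))) :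
    ∃ M : Z.Modules, Coh.IsCoh M ∧ ClSub.KilledByIdeal K M ∧ Nonempty (Formal.completion I M ≅ G) := by
  letI : K.subscheme.Over (Spec (CommRingCat.of A)) := ⟨K.subschemeι ≫ (Z ↘ Spec (CommRingCat.of A))⟩
  haveI : IsLocallyNoetherian K.subscheme := LocallyOfFiniteType.isLocallyNoetherian K.subschemeι
  obtain ⟨N, hN, he⟩ := h _ (isCohFormal_pullback I K.subschemeι rfl hG)
  exact ⟨_, exists_push_of_killed I K hG hk hN he⟩

/-- The induction step. -/
theorem algebraisable_step {Z : Scheme.{u}} [Z.Over (Spec (CommRingCat.of A))]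
    [IsProper (Z ↘ Spec (CommRingCat.of A))]
    (ih : ∀ (W : Scheme.{u}) (j : W ⟶ Z) [IsClosedImmersion j], Set.range j ≠ Set.univ →
      letI : W.Over (Spec (CommRingCat.of A)) := ⟨j ≫ (Z ↘ Spec (CommRingCat.of A))⟩; Algebraisable I W) :
    Algebraisable I Z := by
  intro G hG
  haveI : IsLocallyNoetherian Z := LocallyOfFiniteType.isLocallyNoetherian (Z ↘ Spec (CommRingCat.of A))
  haveI : CompactSpace Z := QuasiCompact.compactSpace_of_compactSpace (Z ↘ Spec (CommRingCat.of A))
  haveI : AlgebraicGeometry.IsNoetherian Z := ⟨⟩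
  by_cases hZ : IsEmpty Z
  · exact ⟨G.obj (op 0), hG.1 0, Existence.nonempty_iso_of_sequence
      (fun n => ⟨0, 0, hom_eq_of_isEmpty _ _, hom_eq_of_isEmpty _ _⟩) fun n => hom_eq_of_isEmpty _ _⟩
  rw [not_isEmpty_iff] at hZ
  obtain ⟨N, Z', π, j, hj, hjπ, hπ, -, U₀, hd, hiso⟩ := Chow.exists_chow_dense (Z ↘ Spec (CommRingCat.of A))
  letI : Z'.Over (Spec (CommRingCat.of A)) := ⟨π ≫ (Z ↘ Spec (CommRingCat.of A))⟩
  haveI : IsLocallyNoetherian Z' := LocallyOfFiniteType.isLocallyNoetherian π
  haveI : CompactSpace Z' := QuasiCompact.compactSpace_of_compactSpace π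
  haveI : AlgebraicGeometry.IsNoetherian Z' := ⟨⟩
  let i := j ≫ (ProjSpace.isoOver N A).inv
  have hi : i ≫ CohB1.ProjSpace.toSpec N A = Z' ↘ Spec (CommRingCat.of A) := by
    refine Eq.trans ?_ hjπ
    rw [Category.assoc, ← ProjSpace.isoOver_hom_toBase, Iso.inv_hom_id_assoc]
  haveI : IsImmersion j := hj
  haveI : IsImmersion i := inferInstance
  haveI : IsClosedImmersion i := by
    haveI : IsProper (i ≫ CohB1.ProjSpace.toSpec N A) := by
      rw [hi]
      exact inferInstanceAs (IsProper (π ≫ (Z ↘ Spec (CommRingCat.of A))))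
    haveI : IsProper i := IsProper.of_comp i (CohB1.ProjSpace.toSpec N A)
    exact IsClosedImmersion.of_isPreimmersion i i.isClosedMap.isClosed_range
  obtain ⟨F, hF, ⟨e⟩⟩ := Groth.Agent.S0061.result A I N Z' i hi (G ⋙ Scheme.Modules.pullback π)
    (isCohFormal_pullback I π rfl hG)
  let C : Closeds Z := U₀.compl
  let K := Scheme.IdealSheafData.vanishingIdeal C
  have hK : (K.support : Set Z) = (U₀ : Set Z)ᶜ := Scheme.IdealSheafData.coe_support_vanishingIdeal C
  have hKU : K.support.compl = U₀ := Opens.ext (by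
    show (K.support : Set Z)ᶜ = U₀
    rw [hK, compl_compl])
  obtain ⟨α, hα⟩ := exists_killed I π rfl hiso hG hF (fun m => (e.app (op m)).symm) (fun n =>
    (e.inv.naturality (homOfLE (Nat.le_succ n)).op).trans
      (congrArg (e.inv.app (op (n + 1)) ≫ ·) (completion_tr I F n))) K hKU.le
  refine exists_algebraization K hG (fun k => ⟨fun M M' hM hM' _ _ ψ =>
    HomSh.existsUnique_of_completion I hM hM' (isProperOver_support hM hM') ψ, fun G' hG' hk => ?_⟩)
    ⟨_, α, isCoh_pushforward π hF, hα⟩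
  refine exists_of_killed I (K ^ k) (ih _ (K ^ k).subschemeι ?_) hG' hk
  rw [Scheme.IdealSheafData.range_subschemeι]
  obtain ⟨x, hx⟩ := hd.nonempty
  rcases Nat.eq_zero_or_pos k with rfl | hk0
  · intro h
    have : x ∈ ((K ^ 0).support : Set Z) := h ▸ Set.mem_univ x
    rw [pow_zero, Scheme.IdealSheafData.one_eq_top, Scheme.IdealSheafData.support_top] at this
    exact this
  · rw [Scheme.IdealSheafData.support_pow _ _ hk0.ne', hK]
    intro h
    exact (h ▸ Set.mem_univ x : x ∈ (U₀ : Set Z)ᶜ) hx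

/-- The existence theorem on proper schemes. -/
theorem algebraisable (X : Scheme.{u}) [X.Over (Spec (CommRingCat.of A))]
    [IsProper (X ↘ Spec (CommRingCat.of A))] : Algebraisable I X := by
  haveI : IsLocallyNoetherian X := LocallyOfFiniteType.isLocallyNoetherian (X ↘ Spec (CommRingCat.of A))
  haveI : CompactSpace X := QuasiCompact.compactSpace_of_compactSpace (X ↘ Spec (CommRingCat.of A))
  haveI : AlgebraicGeometry.IsNoetherian X := ⟨⟩
  have key : ∀ (C : Closeds X) (Z : Scheme.{u}) [Z.Over (Spec (CommRingCat.of A))] (i : Z ⟶ X),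
      IsClosedImmersion i → i ≫ (X ↘ Spec (CommRingCat.of A)) = Z ↘ Spec (CommRingCat.of A) →
      Set.range i ⊆ C → Algebraisable I Z := by
    intro C
    induction C using WellFoundedLT.induction with
    | _ C ih =>
    intro Z _ i hi hiA hC
    haveI := hi
    haveI : IsProper (Z ↘ Spec (CommRingCat.of A)) := by rw [← hiA]; infer_instance
    refine algebraisable_step I fun W j _ hj => ?_
    letI : W.Over (Spec (CommRingCat.of A)) := ⟨j ≫ (Z ↘ Spec (CommRingCat.of A))⟩
    let C' : Closeds X := ⟨Set.range (j ≫ i), (j ≫ i).isClosedMap.isClosed_range⟩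
    have hle : (C' : Set X) ⊆ C := by
      rintro _ ⟨w, rfl⟩
      exact hC ⟨j w, rfl⟩
    refine ih C' (lt_of_le_of_ne hle fun h => hj (Set.eq_univ_of_forall fun z => ?_)) W (j ≫ i) inferInstance ?_
      subset_rfl
    · obtain ⟨w, hw⟩ := (h ▸ hC ⟨z, rfl⟩ : i z ∈ C')
      exact ⟨w, i.isClosedEmbedding.injective hw⟩
    · rw [Category.assoc, hiA]
      rfl
  exact key ⊤ X (𝟙 X) inferInstance (Category.id_comp _) (Set.subset_univ _)

end Groth.L16.Exist
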