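import Groth.Agent.L16.Exist.AdicSystem
import Mathlib.AlgebraicGeometry.Morphisms.FiniteType
import Mathlib.AlgebraicGeometry.Morphisms.Proper
import Mathlib.RingTheory.Filtration
import Mathlib.RingTheory.AdicCompletion.Basic

/-!
Morphisms from a proper scheme over a complete Noetherian ring are determined by their restrictions to the
thickenings of the special fibre.
-/

set_option autoImplicit false
set_option linter.style.haveILetI false
set_option backward.isDefEq.respectTransparency false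
set_option backward.isDefEq.respectTransparency.types false

universe u

open CategoryTheory CategoryTheory.Limits AlgebraicGeometry TopologicalSpace Opposite

noncomputable section

namespace Groth.L16.Exist.Adic

open AffineBC (scal)

/-- An open subset containing the special fibre of a closed morphism over a complete ring is everything. -/
theorem eq_top_of_special_le {A : Type u} [CommRing A] (J : Ideal A) [IsAdicComplete J A] {X : Scheme.{u}}
    (f : X ⟶ Spec (CommRingCat.of A)) (hf : IsClosedMap f.base) (U : X.Opens)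
    (hU : f.base ⁻¹' (PrimeSpectrum.zeroLocus (J : Set A)) ⊆ (U : Set X)) : U = ⊤ := by
  rw [eq_top_iff]
  intro x _
  by_contra hx
  have hC : IsClosed (f.base '' (U : Set X)ᶜ) := hf _ U.2.isClosed_compl
  obtain ⟨m, hm, hle⟩ := Ideal.exists_le_maximal (show PrimeSpectrum A from f.base x).asIdeal
    (show PrimeSpectrum A from f.base x).isPrime.ne_top
  let M : PrimeSpectrum A := ⟨m, hm.isPrime⟩
  have hxM : (show PrimeSpectrum A from f.base x) ⤳ M := (PrimeSpectrum.le_iff_specializes _ M).1 hle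
  obtain ⟨y, hy, hyM⟩ := hxM.mem_closed hC ⟨x, hx, rfl⟩
  refine hy (hU ?_)
  show f.base y ∈ PrimeSpectrum.zeroLocus (J : Set A)
  rw [hyM]
  exact fun a ha => ((IsAdicComplete.le_jacobson_bot J).trans (sInf_le ⟨bot_le, hm⟩)) ha

variable {A : Type u} [CommRing A] [IsNoetherianRing A] (I : Ideal A) [IsAdicComplete I A] {X Y : Scheme.{u}}
  (f : X ⟶ Spec (CommRingCat.of A)) (h : Y ⟶ Spec (CommRingCat.of A))

theorem appLE_congr_hom {W : X.Opens} {V : Y.Opens} {φ ψ : X ⟶ Y} (e : φ = ψ) (e₁ : W ≤ φ ⁻¹ᵁ V)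
    (e₂ : W ≤ ψ ⁻¹ᵁ V) : φ.appLE V W e₁ = ψ.appLE V W e₂ := by
  subst e
  rfl

theorem eq_of_thickenings [IsProper f] [LocallyOfFiniteType h] (φ ψ : X ⟶ Y)
    (hφ : φ ≫ h = f) (hψ : ψ ≫ h = f)
    (e : ∀ n : ℕ, CohB1.thickι f I n ≫ φ = CohB1.thickι f I n ≫ ψ) : φ = ψ := by
  classical
  haveI : IsLocallyNoetherian X := LocallyOfFiniteType.isLocallyNoetherian f
  letI : X.Over (Spec (CommRingCat.of A)) := ⟨f⟩
  have key : ∀ x : X, f x ∈ PrimeSpectrum.zeroLocus (I : Set A) →
      ∃ U : X.Opens, x ∈ U ∧ U.ι ≫ φ = U.ι ≫ ψ := by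
    intro x hx
    have hx0 : x ∈ Set.range (CohB1.thickι f I 0) := by
      show x ∈ Set.range (pullback.fst f (CohB1.specQuot I 0))
      rw [Scheme.Pullback.range_fst, Set.mem_preimage,
        show Set.range (CohB1.specQuot I 0) = Set.range (PrimeSpectrum.comap (Ideal.Quotient.mk (I ^ (0 + 1)))) from rfl,
        range_comap_of_surjective _ _ Ideal.Quotient.mk_surjective, Ideal.mk_ker,
        PrimeSpectrum.zeroLocus_pow I (Nat.succ_ne_zero 0)]
      exact hx
    obtain ⟨z, hz⟩ := hx0
    have hxy : φ x = ψ x := by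
      rw [← hz, ← Scheme.Hom.comp_apply, ← Scheme.Hom.comp_apply, e 0]
    obtain ⟨_, ⟨V, hV, rfl⟩, hxV, -⟩ :=
      Y.isBasis_affineOpens.exists_subset_of_mem_open (Set.mem_univ (φ x)) isOpen_univ
    obtain ⟨_, ⟨W, hW, rfl⟩, hxW, hWV⟩ := X.isBasis_affineOpens.exists_subset_of_mem_open (a := x)
      (show x ∈ φ ⁻¹ᵁ V ⊓ ψ ⁻¹ᵁ V from ⟨hxV, show ψ x ∈ V from hxy ▸ hxV⟩) (φ ⁻¹ᵁ V ⊓ ψ ⁻¹ᵁ V).2
    have eφ : W ≤ φ ⁻¹ᵁ V := fun y hy => (hWV hy).1
    have eψ : W ≤ ψ ⁻¹ᵁ V := fun y hy => (hWV hy).2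
    haveI : IsNoetherianRing Γ(X, W) := IsLocallyNoetherian.component_noetherian ⟨W, hW⟩
    let IR := I.map (scal A X W)
    -- the two maps of rings agree modulo all powers
    have hmod : ∀ b n, φ.appLE V W eφ b - ψ.appLE V W eψ b ∈ IR ^ (n + 1) := by
      intro b n
      let t := CohB1.thickι f I n
      have hcl : IsClosedImmersion (CohB1.specQuot I n) := isClosedImmersion_specQuot I n
      have hmem : φ.appLE V W eφ b - ψ.appLE V W eψ b ∈ t.ker.ideal ⟨W, hW⟩ := by
        haveI : IsClosedImmersion t := by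
          show IsClosedImmersion (pullback.fst f (CohB1.specQuot I n))
          infer_instance
        rw [Scheme.Hom.ker_apply, RingHom.mem_ker, map_sub, sub_eq_zero]
        have h1 : φ.appLE V W eφ ≫ t.app W = ψ.appLE V W eψ ≫ t.app W := by
          rw [Scheme.Hom.app_eq_appLE, Scheme.Hom.appLE_comp_appLE, Scheme.Hom.appLE_comp_appLE]
          exact appLE_congr_hom (e n) _ _
        exact ConcreteCategory.congr_hom h1 b
      have h2 := ker_ideal_le (J := I) (IsPullback.of_hasPullback f (CohB1.specQuot I n)) ⟨W, hW⟩ hmem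
      rwa [Ideal.map_pow] at h2
    -- Krull
    have hkr : ∀ b, ∃ r : IR, (r : Γ(X, W)) * (φ.appLE V W eφ b - ψ.appLE V W eψ b) =
        φ.appLE V W eφ b - ψ.appLE V W eψ b := fun b => by
      refine (Ideal.mem_iInf_smul_pow_eq_bot_iff IR _).1 (Submodule.mem_iInf _ |>.2 fun k => ?_)
      cases k with
      | zero => simp
      | succ k => rw [smul_eq_mul, Ideal.mul_top]; exact hmod b k
    choose r hr using hkr
    have hVtop : V ≤ h ⁻¹ᵁ ⊤ := fun y _ => trivial
    obtain ⟨s, hs⟩ := (h.finiteType_appLE (isAffineOpen_top _) hV hVtop).out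
    let u : Γ(X, W) := ∏ b ∈ s, (1 - (r b : Γ(X, W)))
    have hu : ∀ b ∈ s, u * (φ.appLE V W eφ b - ψ.appLE V W eψ b) = 0 := fun b hb => by
      rw [show u = (1 - (r b : Γ(X, W))) * ∏ c ∈ s.erase b, (1 - (r c : Γ(X, W))) from
        (Finset.mul_prod_erase s _ hb).symm, mul_right_comm, sub_mul, one_mul, hr, sub_self, zero_mul]
    have hxu : x ∈ X.basicOpen u := by
      rw [Scheme.mem_basicOpen _ _ _ hxW]
      rw [map_prod]
      refine (IsUnit.prod_iff).2 fun b _ => ?_
      have hm : ¬ IsUnit (X.presheaf.germ W x hxW (r b : Γ(X, W))) := by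
        have hle : IR ≤ (IsLocalRing.maximalIdeal (X.presheaf.stalk x)).comap (X.presheaf.germ W x hxW).hom := by
          rw [Ideal.map_le_iff_le_comap]
          intro a ha hunit
          have h3 : x ∈ X.basicOpen (scal A X W a) := (Scheme.mem_basicOpen _ _ _ hxW).2 hunit
          rw [scal, RingHom.comp_apply, RingHom.comp_apply] at h3
          erw [Scheme.basicOpen_res, Scheme.Hom.appTop] at h3
          have h4 := h3.2
          erw [← Scheme.preimage_basicOpen f] at h4
          change f x ∈ (Spec (CommRingCat.of A)).basicOpen ((Scheme.ΓSpecIso (CommRingCat.of A)).inv a) at h4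
          rw [basicOpen_eq_of_affine'] at h4
          erw [Iso.inv_hom_id_apply] at h4
          exact h4 (hx ha)
        exact hle (r b).2
      rw [map_sub, map_one]
      exact (IsLocalRing.isUnit_or_isUnit_of_add_one (sub_add_cancel _ _)).resolve_right hm
    refine ⟨X.basicOpen u, hxu, ?_⟩
    let W' := X.basicOpen u
    have eφ' : W' ≤ φ ⁻¹ᵁ V := (X.basicOpen_le u).trans eφ
    have eψ' : W' ≤ ψ ⁻¹ᵁ V := (X.basicOpen_le u).trans eψ
    have hring : φ.appLE V W' eφ' = ψ.appLE V W' eψ' := by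
      ext b
      letI := (h.appLE ⊤ V hVtop).hom.toAlgebra
      have hb : b ∈ Algebra.adjoin _ (s : Set Γ(Y, V)) := hs.ge Algebra.mem_top
      induction hb using Algebra.adjoin_induction with
      | mem b hb =>
        have hunit : IsUnit (X.presheaf.map (homOfLE (X.basicOpen_le u)).op u) :=
          RingedSpace.isUnit_res_basicOpen _ u
        have h1 := congrArg (X.presheaf.map (homOfLE (X.basicOpen_le u)).op) (hu b hb)
        rw [map_mul, map_zero, map_sub, hunit.mul_right_eq_zero, sub_eq_zero,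
          ← ConcreteCategory.comp_apply, ← ConcreteCategory.comp_apply] at h1
        erw [Scheme.Hom.appLE_map, Scheme.Hom.appLE_map] at h1
        exact h1
      | algebraMap a =>
        show (h.appLE ⊤ V hVtop ≫ φ.appLE V W' eφ') a = (h.appLE ⊤ V hVtop ≫ ψ.appLE V W' eψ') a
        rw [Scheme.Hom.appLE_comp_appLE, Scheme.Hom.appLE_comp_appLE]
        exact ConcreteCategory.congr_hom (appLE_congr_hom (hφ.trans hψ.symm) _ _) a
      | add b c _ _ hb hc => rw [map_add, map_add, hb, hc]
      | mul b c _ _ hb hc => rw [map_mul, map_mul, hb, hc]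
    haveI : IsAffine (Scheme.Opens.toScheme V) := hV
    have hres : φ.resLE V W' eφ' = ψ.resLE V W' eψ' := by
      apply ext_of_isAffine
      rw [Scheme.Hom.appTop, Scheme.Hom.appTop, Scheme.Hom.resLE_app_top, Scheme.Hom.resLE_app_top, hring]
    rw [← Scheme.Hom.resLE_comp_ι φ eφ', hres, Scheme.Hom.resLE_comp_ι]
  refine Scheme.hom_ext_of_forall φ ψ fun x => ?_
  let U : X.Opens := ⨆ T : { T : X.Opens // T.ι ≫ φ = T.ι ≫ ψ }, T.1
  have hU : U = ⊤ := eq_top_of_special_le I f f.isClosedMap U fun y hy => by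
    obtain ⟨T, hyT, hT⟩ := key y hy
    exact Opens.mem_iSup.2 ⟨⟨T, hT⟩, hyT⟩
  obtain ⟨T, hxT⟩ := Opens.mem_iSup.1 (show x ∈ U from hU ▸ trivial)
  exact ⟨T.1, hxT, T.2⟩

end Groth.L16.Exist.Adic
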