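import Groth.Agent.L16.Exist.Alg
import Groth.Agent.L16.Existence.FormalBasic
import Groth.Agent.L16.HomSh.FullyFaithful

/-!
Coherent formal modules over an arbitrary base ring on a Noetherian scheme: sections over affine opens, pullbacks.
-/

set_option autoImplicit false
set_option linter.style.haveILetI false
set_option backward.isDefEq.respectTransparency false
set_option backward.isDefEq.respectTransparency.types false

universe u

open CategoryTheory CategoryTheory.Limits AlgebraicGeometry TopologicalSpace Opposite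

noncomputable section

namespace Groth.L16.Exist

open Groth.L18.Frame (rs ro rs_rs rs_smul)
open Formal (smulMod smulFamily modPow modPowπ modPowTrans modPowπ_trans)
open AffineBC (scal)
open Existence (tr)

variable {A : Type u} [CommRing A] {X : Scheme.{u}} [X.Over (Spec (CommRingCat.of A))]

/-- A morphism vanishing on the affine opens inside the members of a cover vanishes. -/
theorem hom_eq_zero_of_cover {M N : X.Modules} (φ : M ⟶ N) {ι : Type u} (V : ι → X.Opens)
    (hV : ∀ x, ∃ i, x ∈ V i) (h : ∀ i (W : X.Opens), IsAffineOpen W → W ≤ V i → ∀ m, φ.app W m = 0) :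
    φ = 0 := by
  refine AffineBC.hom_ext_affine _ _ fun U hU m => ?_
  show φ.app U m = 0
  let J := {p : ι × X.affineOpens // p.2.1 ≤ V p.1 ∧ p.2.1 ≤ U}
  refine HomSh.ext_cover N (fun p : J => p.1.2.1) (fun p => p.2.2) (fun x hx => ?_) fun p => ?_
  · obtain ⟨i, hi⟩ := hV x
    obtain ⟨_, ⟨W, hW, rfl⟩, hxW, hWsub⟩ := X.isBasis_affineOpens.exists_subset_of_mem_open
      (show x ∈ (U : Set X) ∩ V i from ⟨hx, hi⟩) (U.2.inter (V i).2)
    exact Opens.mem_iSup.2 ⟨⟨(i, ⟨W, hW⟩), fun y hy => (hWsub hy).2, fun y hy => (hWsub hy).1⟩, hxW⟩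
  · show rs N p.2.2 (φ.app U m) = rs N p.2.2 0
    rw [← HomSh.app_rs, h p.1.1 _ p.1.2.2 p.2.1]
    exact (map_zero _).symm

theorem scal_res (a : A) {U W : X.Opens} (h : W ≤ U) : ro h (scal A X U a) = scal A X W a :=
  Groth.L18.Frame.ro_ro le_top h _

variable (I : Ideal A) [AlgebraicGeometry.IsNoetherian X] {N : X.Modules} (hN : Coh.IsCoh N)

include hN in
/-- Reductions of coherent modules on a Noetherian scheme. -/
theorem modPow_spec (m : ℕ) :
    Coh.IsCoh (modPow I m N) ∧ ∀ (U : X.Opens), IsAffineOpen U →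
      Function.Surjective ((modPowπ I m N).app U) ∧
      ∀ x, (modPowπ I m N).app U x = 0 ↔
        x ∈ ((I.map (scal A X U)) ^ m) • (⊤ : Submodule Γ(X, U) Γ(N, U)) := by
  classical
  obtain ⟨T, hT⟩ := HomSh.exists_finite_affine_cover X
  have hfin : ∀ U : X.affineOpens, ∃ S : Finset A, (S : Set A) ⊆ (I ^ m : Ideal A) ∧
      ∀ a ∈ I ^ m, scal A X U.1 a ∈ (Ideal.span (S : Set A)).map (scal A X U.1) := by
    intro U
    haveI : IsNoetherianRing Γ(X, U.1) := IsLocallyNoetherian.component_noetherian U
    obtain ⟨s, hs⟩ := IsNoetherian.noetherian ((I ^ m).map (scal A X U.1))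
    have : ∀ r ∈ s, ∃ S : Finset A, (S : Set A) ⊆ (I ^ m : Ideal A) ∧
        r ∈ (Ideal.span (S : Set A)).map (scal A X U.1) := by
      intro r hr
      have h1 : r ∈ (I ^ m).map (scal A X U.1) := hs ▸ Submodule.subset_span hr
      obtain ⟨T', hT', hr'⟩ := Submodule.mem_span_finite_of_mem_span h1
      choose g hg hge using fun x : T' => hT' x.2
      refine ⟨Finset.univ.image g, fun a ha => ?_, ?_⟩
      · obtain ⟨x, -, rfl⟩ := Finset.mem_image.1 (Finset.mem_coe.1 ha)
        exact hg x
      · refine Submodule.span_le.2 (fun x hx => ?_) hr'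
        have e : scal A X U.1 (g ⟨x, hx⟩) = x := hge _
        exact e ▸ Ideal.mem_map_of_mem _ (Ideal.subset_span (by simp))
    choose S hS hS' using this
    refine ⟨s.attach.biUnion fun r => S r.1 r.2, fun a ha => ?_, fun a ha => ?_⟩
    · obtain ⟨r, -, hr⟩ := Finset.mem_biUnion.1 (Finset.mem_coe.1 ha)
      exact hS r.1 r.2 hr
    · have h2 : scal A X U.1 a ∈ Ideal.span (s : Set _) := hs.ge (Ideal.mem_map_of_mem _ ha)
      refine Submodule.span_le.2 (fun r hr => ?_) h2
      refine Ideal.map_mono (Ideal.span_mono fun b hb => ?_) (hS' r hr)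
      exact Finset.mem_biUnion.2 ⟨⟨r, hr⟩, Finset.mem_attach _ _, hb⟩
  choose S hS hS' using hfin
  let S₀ := T.biUnion S
  have hS₀ : Ideal.span (S₀ : Set A) ≤ I ^ m := Ideal.span_le.2 fun a ha => by
    obtain ⟨U, -, hU⟩ := Finset.mem_biUnion.1 (Finset.mem_coe.1 ha)
    exact hS U hU
  obtain ⟨Q, q, hQ, hq, hz, hf, hk⟩ := HomSh.exists_quot hN S₀
  obtain ⟨r, hr⟩ := hf (modPowπ I m N) fun a ha =>
    Rees.smulMod_modPowπ I N (hS₀ (Ideal.subset_span ha))
  have hz' : ∀ a ∈ I ^ m, smulMod A N a ≫ q = 0 := fun a ha =>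
    hom_eq_zero_of_cover _ (fun U : T => U.1.1) (fun x => by
      obtain ⟨U, hU, hx⟩ := hT x; exact ⟨⟨U, hU⟩, hx⟩) fun U W _ hWU x => by
      show q.app W ((smulMod A N a).app W x) = 0
      rw [HomSh.smulMod_app, ← scal_res a hWU]
      have h1 : ro hWU (scal A X U.1.1 a) ∈ (Ideal.span (S₀ : Set A)).map (scal A X W) := by
        have h2 := Ideal.mem_map_of_mem (X.presheaf.map (homOfLE hWU).op).hom
          (Ideal.map_mono (Ideal.span_mono (Finset.coe_subset.2 (Finset.subset_biUnion_of_mem S U.2)))
            (hS' U.1 a ha))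
        rw [Ideal.map_map] at h2
        rw [show scal A X W = (X.presheaf.map (homOfLE hWU).op).hom.comp (scal A X U.1.1) from
          RingHom.ext fun b => (scal_res b hWU).symm]
        exact h2
      rw [Scheme.Modules.Hom.app_smul]
      generalize ro hWU (scal A X U.1.1 a) = b at h1 ⊢
      induction h1 using Submodule.span_induction with
      | mem b hb =>
        obtain ⟨c, hc, rfl⟩ := hb
        induction hc using Submodule.span_induction with
        | mem c hc =>
          rw [← Scheme.Modules.Hom.app_smul, ← HomSh.smulMod_app]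
          exact ConcreteCategory.congr_hom (congrArg (fun t => Scheme.Modules.Hom.app t W) (hz c hc)) x
        | zero => rw [map_zero, zero_smul]
        | add b c _ _ h h' => rw [map_add, add_smul, h, h', add_zero]
        | smul b c _ h => rw [smul_eq_mul, map_mul, mul_smul, h, smul_zero]
      | zero => exact zero_smul _ _
      | add b c _ _ h h' => rw [add_smul, h, h', add_zero]
      | smul b c _ h => rw [smul_eq_mul, mul_smul, h, smul_zero]
  obtain ⟨r', hr'⟩ := Existence.modPow_desc I q hz'
  haveI := Existence.epi_modPowπ I m N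
  let e : Q ≅ modPow I m N := ⟨r, r', by rw [← cancel_epi q, reassoc_of% hr, hr', Category.comp_id],
    by rw [← cancel_epi (modPowπ I m N), reassoc_of% hr', hr, Category.comp_id]⟩
  have hc := CohSupport.isCoh_of_iso e hQ
  refine ⟨hc, fun U hU => ?_⟩
  haveI : Coh.IsQCoh N := hN.1
  haveI : Coh.IsQCoh (modPow I m N) := hc.1
  refine ⟨AffineBC.surjective_app_of_epi _ hU, fun x => ⟨fun hx => ?_, fun hx => ?_⟩⟩
  · have h1 : q.app U x = 0 := by
      rw [← hr']
      show r'.app U ((modPowπ I m N).app U x) = 0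
      rw [hx, map_zero]
    have h2 := Submodule.smul_mono (Ideal.map_mono hS₀) le_rfl (hk U hU x h1)
    rwa [Ideal.map_pow] at h2
  · rw [← Ideal.map_pow, Ideal.map] at hx
    refine Submodule.smul_induction_on hx (fun b hb y _ => ?_) (fun a b ha hb => by rw [map_add, ha, hb, add_zero])
    rw [Scheme.Modules.Hom.app_smul]
    induction hb using Submodule.span_induction with
    | mem b hb =>
      obtain ⟨a, ha, rfl⟩ := hb
      rw [← Scheme.Modules.Hom.app_smul, ← HomSh.smulMod_app]
      exact ConcreteCategory.congr_hom (congrArg (fun t => Scheme.Modules.Hom.app t U)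
        (Rees.smulMod_modPowπ I N ha)) y
    | zero => exact zero_smul _ _
    | add b c _ _ hb hc => rw [add_smul, hb, hc, add_zero]
    | smul b c _ hc => rw [smul_eq_mul, mul_smul, hc, smul_zero]

section Sections

variable {I} {G : ℕᵒᵖ ⥤ X.Modules} (hG : Formal.IsCohFormal I G) (U : X.Opens)

/-- Transition maps on sections. -/
def trL (n : ℕ) : Γ(G.obj (op (n + 1)), U) →ₗ[Γ(X, U)] Γ(G.obj (op n), U) where
  toFun := (tr G n (n + 1) (Nat.le_succ n)).app U
  map_add' := map_add _
  map_smul' r x := Scheme.Modules.Hom.app_smul _ r x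

include hG in
omit [AlgebraicGeometry.IsNoetherian X] in
theorem sect_killed (n : ℕ) (b : Γ(X, U)) (hb : b ∈ I.map (scal A X U) ^ (n + 1)) (x : Γ(G.obj (op n), U)) :
    b • x = 0 := by
  rw [← Ideal.map_pow] at hb
  induction hb using Submodule.span_induction with
  | mem b hb =>
    obtain ⟨a, ha, rfl⟩ := hb
    rw [← HomSh.smulMod_app, hG.2.1 n a ha]
    rfl
  | zero => exact zero_smul _ _
  | add b c _ _ h h' => rw [add_smul, h, h', add_zero]
  | smul b c _ h => rw [smul_eq_mul, mul_smul, h, smul_zero]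

include hG in
/-- The sections over an affine open of a coherent formal module form a system of finite modules. -/
theorem sect_spec (hU : IsAffineOpen U) :
    (∀ n, Module.Finite Γ(X, U) Γ(G.obj (op n), U)) ∧
      (∀ n, Function.Surjective (trL (G := G) U n)) ∧
      ∀ n x, trL (G := G) U n x = 0 →
        x ∈ I.map (scal A X U) ^ (n + 1) • (⊤ : Submodule Γ(X, U) Γ(G.obj (op (n + 1)), U)) := by
  haveI : ∀ n, Coh.IsQCoh (G.obj (op n)) := fun n => (hG.1 n).1
  refine ⟨fun n => Groth.L20.ModStalk.finite_sections _ (hG.1 n) hU, fun n => ?_, fun n x hx => ?_⟩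
  · haveI := Existence.epi_tr hG (Nat.le_succ n)
    exact AffineBC.surjective_app_of_epi _ hU
  · obtain ⟨h0, hiso⟩ := hG.2.2 n
    refine (((modPow_spec I (hG.1 (n + 1)) (n + 1)).2 U hU).2 x).1 ?_
    let δ := cokernel.desc _ _ h0
    haveI : IsIso δ := hiso
    have e : modPowπ I (n + 1) (G.obj (op (n + 1))) =
        tr G n (n + 1) (Nat.le_succ n) ≫ inv δ := (IsIso.eq_comp_inv δ).2 (cokernel.π_desc _ _ h0)
    rw [e]
    exact (congrArg ((inv δ).app U) (show (tr G n (n + 1) (Nat.le_succ n)).app U x = 0 from hx)).trans (map_zero _)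

end Sections

section Pullback

variable {Z : Scheme.{u}} [Z.Over (Spec (CommRingCat.of A))] (i : Z ⟶ X)
  (hi : i ≫ (X ↘ Spec (CommRingCat.of A)) = Z ↘ Spec (CommRingCat.of A))

include hi in
omit [AlgebraicGeometry.IsNoetherian X] in
theorem pullback_smulMod (M : X.Modules) (b : A) :
    (Scheme.Modules.pullback i).map (smulMod A M b) = smulMod A ((Scheme.Modules.pullback i).obj M) b := by
  let adj := Scheme.Modules.pullbackPushforwardAdjunction i
  refine (adj.homEquiv _ _).injective ?_
  rw [Adjunction.homEquiv_unit, Adjunction.homEquiv_unit]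
  show adj.unit.app M ≫ (Coh.push i).map _ = adj.unit.app M ≫ (Coh.push i).map _
  rw [← Supp.smulMod_push i hi]
  exact (adj.unit.naturality (smulMod A M b)).symm.trans (Rees.smulMod_naturality A (adj.unit.app M) b)

include hi in
/-- Pullbacks of coherent formal modules. -/
theorem isCohFormal_pullback [IsLocallyNoetherian Z] {G : ℕᵒᵖ ⥤ X.Modules} (hG : Formal.IsCohFormal I G) :
    Formal.IsCohFormal I (G ⋙ Scheme.Modules.pullback i) := by
  let P := Scheme.Modules.pullback i
  let adj := Scheme.Modules.pullbackPushforwardAdjunction i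
  haveI : P.Additive := adj.left_adjoint_additive
  refine ⟨fun n => AffineBC.isCoh_pullback i (hG.1 n), fun n b hb => ?_, fun n => ?_⟩
  · show smulMod A (P.obj (G.obj (op n))) b = 0
    rw [← pullback_smulMod i hi, hG.2.1 n b hb, Functor.map_zero]
  · obtain ⟨h0, hiso⟩ := hG.2.2 n
    obtain ⟨θ, hθ⟩ := Existence.exists_pullback_modPowIso (I := I) i hi (G.obj (op (n + 1))) (n + 1)
    let δ : modPow I (n + 1) (G.obj (op (n + 1))) ⟶ G.obj (op n) := cokernel.desc _ _ h0
    haveI : IsIso δ := hiso
    have h1 : smulFamily (I ^ (n + 1)) (P.obj (G.obj (op (n + 1)))) ≫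
        P.map (G.map (homOfLE (Nat.le_succ n)).op) = 0 := by
      apply Sigma.hom_ext
      intro b
      rw [comp_zero, smulFamily, Sigma.ι_desc_assoc, ← pullback_smulMod i hi, ← Functor.map_comp,
        Rees.smulMod_naturality, hG.2.1 n b b.2, comp_zero, Functor.map_zero]
    refine ⟨h1, ?_⟩
    haveI := Existence.epi_modPowπ I (n + 1) (P.obj (G.obj (op (n + 1))))
    have : cokernel.desc (smulFamily (I ^ (n + 1)) (P.obj (G.obj (op (n + 1))))) _ h1 = θ.hom ≫ P.map δ := by
      refine (cancel_epi (modPowπ I (n + 1) (P.obj (G.obj (op (n + 1)))))).1 ((cokernel.π_desc _ _ h1).trans ?_)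
      rw [reassoc_of% hθ, ← Functor.map_comp]
      exact congrArg P.map (cokernel.π_desc _ _ h0).symm
    show IsIso (cokernel.desc _ _ h1)
    rw [this]
    infer_instance

end Pullback

end Groth.L16.Exist
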