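import Groth.Agent.L16.Exist.AdicModules
import Groth.Agent.L16.Exist.Rigid
import Groth.Agent.L16.Exist.Proper
import Groth.Agent.L16.Exist.Systems
import Groth.Agent.L19.ProjBdl.PullComp
import Mathlib.CategoryTheory.Functor.OfSequence

/-!
Coherent modules on a scheme over a complete ring and their thickenings: vanishing detected on the special fibre,
formal systems from sections, reductions as direct images from the thickenings.
-/

set_option autoImplicit false
set_option linter.style.haveILetI false
set_option backward.isDefEq.respectTransparency false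
set_option backward.isDefEq.respectTransparency.types false

universe u

open CategoryTheory CategoryTheory.Limits AlgebraicGeometry TopologicalSpace Opposite

noncomputable section

namespace Groth.L16.Exist.Adic

open Formal (smulMod modPow modPowπ modPowTrans modPowπ_trans)
open Groth.L18.Frame (rs ro rs_rs rs_smul rs_self)
open AffineBC (scal)

variable {A : Type u} [CommRing A] [IsNoetherianRing A] {I : Ideal A} {X : Scheme.{u}}
  [X.Over (Spec (CommRingCat.of A))]

/-- A coherent module with trivial reduction on a closed scheme over a complete ring vanishes. -/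
theorem eq_zero_of_reduction [IsAdicComplete I A] [IsLocallyNoetherian X] [CompactSpace X]
    (hf : IsClosedMap (X ↘ Spec (CommRingCat.of A)).base) {C : X.Modules} (hC : Coh.IsCoh C)
    (h0 : modPowπ I 1 C = 0) : 𝟙 C = 0 := by
  classical
  haveI : Coh.IsQCoh C := hC.1
  haveI : AlgebraicGeometry.IsNoetherian X := {}
  have loc : ∀ x : X, (X ↘ Spec (CommRingCat.of A)) x ∈ PrimeSpectrum.zeroLocus (I : Set A) →
      ∃ W : X.Opens, x ∈ W ∧ ∀ V ≤ W, ∀ y : Γ(C, V), y = 0 := by
    intro x hx
    obtain ⟨_, ⟨U, hU, rfl⟩, hxU, -⟩ :=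
      X.isBasis_affineOpens.exists_subset_of_mem_open (Set.mem_univ x) isOpen_univ
    haveI : Module.Finite Γ(X, U) Γ(C, U) := Groth.L20.ModStalk.finite_sections C hC hU
    let IU := I.map (scal A X U)
    have hle : (⊤ : Submodule Γ(X, U) Γ(C, U)) ≤ IU • ⊤ := by
      intro y _
      have hk := ((HomSh.modPow_spec I hC 1).2 U hU).2 y
      rw [pow_one] at hk
      refine hk.1 ?_
      rw [h0]
      rfl
    obtain ⟨r, hr, hrm⟩ :=
      Submodule.exists_mem_and_smul_eq_self_of_fg_of_le_smul IU ⊤ (Module.Finite.fg_top) hle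
    refine ⟨X.basicOpen (1 - r), ?_, fun V hV y => ?_⟩
    · rw [Scheme.mem_basicOpen _ _ _ hxU, map_sub, map_one]
      have hm : ¬ IsUnit (X.presheaf.germ U x hxU r) := by
        have hle' : IU ≤ (IsLocalRing.maximalIdeal (X.presheaf.stalk x)).comap (X.presheaf.germ U x hxU).hom := by
          rw [Ideal.map_le_iff_le_comap]
          intro a ha hunit
          have h3 : x ∈ X.basicOpen (scal A X U a) := (Scheme.mem_basicOpen _ _ _ hxU).2 hunit
          rw [scal, RingHom.comp_apply, RingHom.comp_apply] at h3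
          erw [Scheme.basicOpen_res, Scheme.Hom.appTop] at h3
          have h4 := h3.2
          erw [← Scheme.preimage_basicOpen] at h4
          change (X ↘ Spec (CommRingCat.of A)) x ∈
            (Spec (CommRingCat.of A)).basicOpen ((Scheme.ΓSpecIso (CommRingCat.of A)).inv a) at h4
          rw [basicOpen_eq_of_affine'] at h4
          erw [Iso.inv_hom_id_apply] at h4
          exact h4 (hx ha)
        exact hle' hr
      exact (IsLocalRing.isUnit_or_isUnit_of_add_one (sub_add_cancel _ _)).resolve_right hm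
    · refine eq_zero_of_affine_le (hU.basicOpen (1 - r)) (fun z => ?_) hV y
      obtain ⟨n, t, ht⟩ := QCohSect.exists_pow_smul_eq_res hU C (1 - r) z
      have ht0 : rs C (X.basicOpen_le (1 - r)) t = 0 := by
        have h1 : (1 - r) • t = 0 := by rw [sub_smul, one_smul, hrm t trivial, sub_self]
        have h2 := congrArg (rs C (X.basicOpen_le (1 - r))) h1
        rw [rs_smul, show rs C (X.basicOpen_le (1 - r)) (0 : Γ(C, U)) = 0 from map_zero _] at h2
        have hu : IsUnit (ro (X.basicOpen_le (1 - r)) (1 - r)) :=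
          RingedSpace.isUnit_res_basicOpen X.toRingedSpace (1 - r)
        exact hu.smul_eq_zero.1 h2
      rw [ht0] at ht
      exact (HomSh.isUnit_ro_pow (1 - r) n).smul_eq_zero.1 ht.symm
  let S : X.Opens := ⨆ W : { W : X.Opens // ∀ V ≤ W, ∀ y : Γ(C, V), y = 0 }, W.1
  have hS : S = ⊤ := eq_top_of_special_le I _ hf S fun x hx => by
    obtain ⟨W, hxW, hW⟩ := loc x hx
    exact Opens.mem_iSup.2 ⟨⟨W, hW⟩, hxW⟩
  refine hom_eq_zero_of_cover _ (fun W : { W : X.Opens // ∀ V ≤ W, ∀ y : Γ(C, V), y = 0 } => W.1)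
    (fun x => Opens.mem_iSup.1 (show x ∈ S from hS ▸ trivial)) fun W V _ hV y => W.2 V hV _


/-- A system with surjective transition maps with the expected kernels is a coherent formal module. -/
theorem isCohFormal_of_sect [AlgebraicGeometry.IsNoetherian X] {G : ℕᵒᵖ ⥤ X.Modules}
    (hcoh : ∀ n, Coh.IsCoh (G.obj (op n))) (hkill : ∀ n, ∀ a ∈ I ^ (n + 1), smulMod A (G.obj (op n)) a = 0)
    (hsect : ∀ n (U : X.Opens), IsAffineOpen U →
      Function.Surjective ((G.map (homOfLE (Nat.le_succ n)).op).app U) ∧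
      ∀ x, (G.map (homOfLE (Nat.le_succ n)).op).app U x = 0 →
        x ∈ (I.map (scal A X U)) ^ (n + 1) • (⊤ : Submodule Γ(X, U) Γ(G.obj (op (n + 1)), U))) :
    Formal.IsCohFormal I G := by
  refine ⟨hcoh, hkill, fun n => ?_⟩
  let t := G.map (homOfLE (Nat.le_succ n)).op
  have h0 : Formal.smulFamily (I ^ (n + 1)) (G.obj (op (n + 1))) ≫ t = 0 := by
    apply Sigma.hom_ext
    intro b
    rw [comp_zero, Formal.smulFamily, Sigma.ι_desc_assoc, Rees.smulMod_naturality, hkill n b b.2, comp_zero]
  refine ⟨h0, ?_⟩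
  let δ : modPow I (n + 1) (G.obj (op (n + 1))) ⟶ G.obj (op n) := cokernel.desc _ t h0
  have hδ : modPowπ I (n + 1) (G.obj (op (n + 1))) ≫ δ = t := cokernel.π_desc _ _ _
  show IsIso δ
  haveI : Epi δ := by
    haveI : Epi t := ⟨fun u v h => AffineBC.hom_ext_affine _ _ fun U hU m => by
      obtain ⟨y, rfl⟩ := (hsect n U hU).1 m
      exact ConcreteCategory.congr_hom (congrArg (fun t => Scheme.Modules.Hom.app t U) h) y⟩
    haveI : Epi (modPowπ I (n + 1) (G.obj (op (n + 1))) ≫ δ) := by rw [hδ]; infer_instance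
    exact epi_of_epi (modPowπ I (n + 1) (G.obj (op (n + 1)))) δ
  haveI : Mono δ := Preadditive.mono_of_cancel_zero _ fun {T} g hg => by
    refine AffineBC.hom_ext_affine _ _ fun U hU m => ?_
    show g.app U m = 0
    obtain ⟨hs, hk⟩ := (HomSh.modPow_spec I (hcoh (n + 1)) (n + 1)).2 U hU
    obtain ⟨y, hy⟩ := hs (g.app U m)
    rw [← hy]
    refine (hk y).2 ((hsect n U hU).2 y ?_)
    show t.app U y = 0
    rw [← hδ]
    show δ.app U ((modPowπ I (n + 1) (G.obj (op (n + 1)))).app U y) = 0
    rw [hy]
    exact ConcreteCategory.congr_hom (congrArg (fun t => Scheme.Modules.Hom.app t U) hg) m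
  exact isIso_of_mono_of_epi δ

/-- The reduction of a coherent module is the direct image of its restriction to the thickening. -/
theorem exists_modPow_iso_unit [IsLocallyNoetherian X] {Z : Scheme.{u}} [Z.Over (Spec (CommRingCat.of A))]
    {k : ℕ} {f : Z ⟶ X} [IsClosedImmersion f] {π : Z ⟶ Spec (CommRingCat.of (A ⧸ I ^ (k + 1)))}
    (h : IsPullback f π (X ↘ Spec (CommRingCat.of A)) (CohB1.specQuot I k))
    (hπ : π ≫ CohB1.specQuot I k = Z ↘ Spec (CommRingCat.of A)) {M : X.Modules} (hM : Coh.IsCoh M) :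
    ∃ q : modPow I (k + 1) M ≅ (Coh.push f).obj ((Scheme.Modules.pullback f).obj M),
      modPowπ I (k + 1) M ≫ q.hom = (Scheme.Modules.pullbackPushforwardAdjunction f).unit.app M := by
  haveI : Coh.IsQCoh M := hM.1
  let η : M ⟶ (Coh.push f).obj ((Scheme.Modules.pullback f).obj M) :=
    (Scheme.Modules.pullbackPushforwardAdjunction f).unit.app M
  haveI : Epi η := ⟨fun u v huv => AffineBC.hom_ext_affine _ _ fun U hU m => by
    obtain ⟨y, rfl⟩ := (ηU_spec f M ⟨U, hU⟩).1 m
    exact ConcreteCategory.congr_hom (congrArg (fun t => Scheme.Modules.Hom.app t U) huv) y⟩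
  obtain ⟨r, hr⟩ := Existence.modPow_desc I η (n := k + 1) fun b hb => by
    rw [Rees.smulMod_naturality, Supp.smulMod_push f (h.w.trans hπ), smulMod_eq_zero π hπ _ hb,
      Functor.map_zero, comp_zero]
  have h0 : kernel.ι η ≫ modPowπ I (k + 1) M = 0 := by
    refine AffineBC.hom_ext_affine _ _ fun U hU z => ?_
    show (modPowπ I (k + 1) M).app U ((kernel.ι η).app U z) = 0
    have hz : η.app U ((kernel.ι η).app U z) = 0 :=
      ConcreteCategory.congr_hom (congrArg (fun t => Scheme.Modules.Hom.app t U) (kernel.condition η)) z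
    have hmem := Submodule.smul_mono_left (ker_ideal_le h ⟨U, hU⟩) ((ηU_spec f M ⟨U, hU⟩).2 _ hz)
    refine Submodule.smul_induction_on hmem ?_ ?_
    · intro b hb x _
      induction hb using Submodule.span_induction generalizing x with
      | mem y hy =>
        obtain ⟨t, ht, rfl⟩ := hy
        rw [← HomSh.smulMod_app]
        exact ConcreteCategory.congr_hom
          (congrArg (fun t => Scheme.Modules.Hom.app t U) (Rees.smulMod_modPowπ I M ht)) x
      | zero => rw [zero_smul, map_zero]
      | add y y' _ _ h h' => rw [add_smul, map_add, h x trivial, h' x trivial, add_zero]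
      | smul d y _ h => rw [smul_assoc, Scheme.Modules.Hom.app_smul, h x trivial, smul_zero]
    · intro x y hx hy
      rw [map_add, hx, hy, add_zero]
  haveI := Existence.epi_modPowπ I (k + 1) M
  refine ⟨⟨r, Abelian.epiDesc η _ h0, ?_, ?_⟩, hr⟩
  · rw [← cancel_epi (modPowπ I (k + 1) M), reassoc_of% hr, Abelian.comp_epiDesc, Category.comp_id]
  · rw [← cancel_epi η, ← Category.assoc, Abelian.comp_epiDesc, hr, Category.comp_id]

omit [IsNoetherianRing A] [X.Over (Spec (CommRingCat.of A))] in
/-- The unit of a composite. -/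
theorem exists_unit_comp {Z W : Scheme.{u}} (f : Z ⟶ W) (g : W ⟶ X) (M : X.Modules) :
    ∃ e : (Coh.push g).obj ((Coh.push f).obj ((Scheme.Modules.pullback f).obj ((Scheme.Modules.pullback g).obj M))) ≅
        (Coh.push (f ≫ g)).obj ((Scheme.Modules.pullback (f ≫ g)).obj M),
      (Scheme.Modules.pullbackPushforwardAdjunction g).unit.app M ≫
        (Coh.push g).map ((Scheme.Modules.pullbackPushforwardAdjunction f).unit.app _) ≫ e.hom =
      (Scheme.Modules.pullbackPushforwardAdjunction (f ≫ g)).unit.app M := by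
  refine ⟨(Scheme.Modules.pushforwardComp f g).app _ ≪≫
    (Coh.push (f ≫ g)).mapIso ((Scheme.Modules.pullbackComp f g).app M), ?_⟩
  have h := unit_conjugateEquiv
    ((Scheme.Modules.pullbackPushforwardAdjunction g).comp (Scheme.Modules.pullbackPushforwardAdjunction f))
    (Scheme.Modules.pullbackPushforwardAdjunction (f ≫ g)) (Scheme.Modules.pullbackComp f g).inv M
  rw [Scheme.Modules.conjugateEquiv_pullbackComp_inv, Adjunction.comp_unit_app, Category.assoc] at h
  simp only [Iso.trans_hom, Iso.app_hom, Functor.mapIso_hom]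
  rw [reassoc_of% h, ← Functor.map_comp]
  erw [← NatTrans.comp_app, Iso.inv_hom_id, NatTrans.id_app, CategoryTheory.Functor.map_id, Category.comp_id]

section Push

variable {Xs : ℕ → Scheme.{u}} [∀ k, (Xs k).Over (Spec (CommRingCat.of A))]
  {p : (k : ℕ) → (Xs k ⟶ Spec (CommRingCat.of (A ⧸ I ^ (k + 1))))} {i : (k : ℕ) → (Xs k ⟶ Xs (k + 1))}
  (e : (k : ℕ) → (Xs k ⟶ X)) (he : ∀ k, e k = i k ≫ e (k + 1)) (N : (k : ℕ) → (Xs k).Modules)
  (ψ : ∀ k, (Scheme.Modules.pullback (i k)).obj (N (k + 1)) ≅ N k)

/-- The transition maps of the direct images of a system of modules. -/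
def pushTr (k : ℕ) : (Coh.push (e (k + 1))).obj (N (k + 1)) ⟶ (Coh.push (e k)).obj (N k) :=
  (Coh.push (e (k + 1))).map ((Scheme.Modules.pullbackPushforwardAdjunction (i k)).unit.app (N (k + 1))) ≫
    ((Coh.push (e (k + 1))).mapIso ((Coh.push (i k)).mapIso (ψ k)) ≪≫
      (Scheme.Modules.pushforwardComp (i k) (e (k + 1))).app (N k) ≪≫
      (Scheme.Modules.pushforwardCongr (he k).symm).app (N k)).hom

/-- The formal module of the direct images of a system of modules. -/
def pushSys : ℕᵒᵖ ⥤ X.Modules :=
  Functor.ofOpSequence (X := fun k => (Coh.push (e k)).obj (N k)) (pushTr e he N ψ)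

theorem pushSys_map (k : ℕ) : (pushSys e he N ψ).map (homOfLE (Nat.le_succ k)).op = pushTr e he N ψ k :=
  Functor.ofOpSequence_map_homOfLE_succ _ k

theorem isCohFormal_pushSys [AlgebraicGeometry.IsNoetherian X] (S : IsSys I Xs p i)
    (hcl : ∀ k, IsClosedImmersion (e k))
    (hbase : ∀ k, e k ≫ (X ↘ Spec (CommRingCat.of A)) = Xs k ↘ Spec (CommRingCat.of A))
    (hN : ∀ k, Coh.IsCoh (N k)) : Formal.IsCohFormal I (pushSys e he N ψ) := by
  refine isCohFormal_of_sect (fun k => ?_) (fun k a ha => ?_) fun k U hU => ?_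
  · haveI := hcl k
    exact CohClosedPush.isCoh_push (e k) (hN k)
  · show smulMod A ((Coh.push (e k)).obj (N k)) a = 0
    haveI := hcl k
    rw [Supp.smulMod_push (e k) (hbase k), smulMod_eq_zero (p k) (S.base k) _ ha, Functor.map_zero]
  · rw [pushSys_map]
    haveI := hcl (k + 1)
    let V := e (k + 1) ⁻¹ᵁ U
    have hV : IsAffineOpen V := hU.preimage (e (k + 1))
    let η := (Scheme.Modules.pullbackPushforwardAdjunction (i k)).unit.app (N (k + 1))
    obtain ⟨hs, hk⟩ := sect_c S N hN k ⟨V, hV⟩
    let θ := (Coh.push (e (k + 1))).mapIso ((Coh.push (i k)).mapIso (ψ k)) ≪≫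
      (Scheme.Modules.pushforwardComp (i k) (e (k + 1))).app (N k) ≪≫
      (Scheme.Modules.pushforwardCongr (he k).symm).app (N k)
    have hb : Function.Bijective (θ.hom.app U) := ConcreteCategory.bijective_of_isIso (θ.hom.app U)
    refine ⟨fun y => ?_, fun x hx => ?_⟩
    · obtain ⟨z, rfl⟩ := hb.2 y
      obtain ⟨w, hw⟩ := hs z
      exact ⟨w, congrArg (θ.hom.app U) hw⟩
    · have hx' : η.app V x = 0 := hb.1 (hx.trans (map_zero _).symm)
      refine Submodule.smul_induction_on (hk x hx') ?_ ?_
      · intro b hb z _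
        induction hb using Submodule.span_induction generalizing z with
        | mem y hy =>
          obtain ⟨t, ht, rfl⟩ := hy
          have e1 : (show Γ((Coh.push (e (k + 1))).obj (N (k + 1)), U) from scal A (Xs (k + 1)) V t • z) =
              scal A X U t • (show Γ((Coh.push (e (k + 1))).obj (N (k + 1)), U) from z) := by
            rw [← HomSh.smulMod_app, ← HomSh.smulMod_app, Supp.smulMod_push (e (k + 1)) (hbase (k + 1))]
            rfl
          show (show Γ((Coh.push (e (k + 1))).obj (N (k + 1)), U) from scal A (Xs (k + 1)) V t • z) ∈ _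
          rw [e1, ← Ideal.map_pow]
          exact Submodule.smul_mem_smul (Ideal.mem_map_of_mem _ ht) trivial
        | zero => rw [zero_smul]; exact zero_mem _
        | add y y' _ _ h h' => rw [add_smul]; exact add_mem (h z trivial) (h' z trivial)
        | smul d y _ h => rw [smul_assoc, smul_comm]; exact h _ trivial
      · intro z z' hz hz'
        exact add_mem hz hz'

end Push

end Groth.L16.Exist.Adic
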