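import Groth.Agent.L16.Exist.Proper
import Groth.Agent.L16.Exist.AlgComplete
import Groth.Agent.L29.DCoh.RHomCoh
import Groth.Agent.L29.DCoh.TildeAlg
import Groth.Agent.L21.Mod.Locality
import Groth.Agent.L19.SupportPullback
import Groth.Agent.L17.ProperOver

/-!
Direct images along open immersions of coherent modules supported in closed subsets, and the existence theorem
for supports proper over the base on an open subscheme of a proper scheme.
-/

set_option autoImplicit false
set_option linter.style.haveILetI false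
set_option backward.isDefEq.respectTransparency false
set_option backward.isDefEq.respectTransparency.types false

universe u

open CategoryTheory CategoryTheory.Limits AlgebraicGeometry TopologicalSpace Opposite

noncomputable section

namespace Groth.L16.Exist

open Formal (smulMod smulFamily modPow modPowπ modPowTrans modPowπ_trans)

section OpenPush

variable {X U : Scheme.{u}} (j : U ⟶ X) [IsOpenImmersion j] {T : Set X}

theorem isZero_restrict_of_disjoint {Y V : Scheme.{u}} (M : Y.Modules) (v : V ⟶ Y) [IsOpenImmersion v]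
    (h : ∀ x ∈ CohB1.support M, x ∉ Set.range v) : IsZero ((Scheme.Modules.restrictFunctor v).obj M) := by
  rw [Groth.L21.Mod.isZero_iff_support_eq_empty, Groth.L21.Mod.support_restrict]
  exact Set.eq_empty_of_forall_notMem fun y hy => h _ hy ⟨y, rfl⟩

omit [IsOpenImmersion j] in
/-- A direct image vanishes away from the support. -/
theorem isZero_restrict_push {V : Scheme.{u}} (v : V ⟶ X) [IsOpenImmersion v] (M : U.Modules)
    (h : ∀ x ∈ CohB1.support M, j x ∉ Set.range v) :
    IsZero ((Scheme.Modules.restrictFunctor v).obj ((Coh.push j).obj M)) := by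
  let W : U.Opens := j ⁻¹ᵁ v.opensRange
  have hz : IsZero ((Scheme.Modules.restrictFunctor W.ι).obj M) :=
    isZero_restrict_of_disjoint M W.ι fun x hx hx' => h x hx (by
      rw [Scheme.Opens.range_ι] at hx'
      exact hx')
  rw [IsZero.iff_id_eq_zero]
  ext O y
  let O' : U.Opens := j ⁻¹ᵁ (v ''ᵁ O)
  have hO : O' ≤ W := j.preimage_mono (v.image_le_opensRange O)
  have e : W.ι ''ᵁ (W.ι ⁻¹ᵁ O') = O' := Groth.L21.Mod.image_preimage_of_le hO
  have h0 : ∀ z : Γ(M, W.ι ''ᵁ (W.ι ⁻¹ᵁ O')), z = 0 := fun z =>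
    ConcreteCategory.congr_hom (congrArg (fun φ => Scheme.Modules.Hom.app φ (W.ι ⁻¹ᵁ O'))
      ((IsZero.iff_id_eq_zero _).1 hz)) z
  rw [e] at h0
  exact h0 y

omit [IsOpenImmersion j] in
theorem isZero_push_off (M : U.Modules) (hs : ∀ x ∈ CohB1.support M, j x ∈ T) (hT : IsClosed T) :
    IsZero ((Scheme.Modules.restrictFunctor (Scheme.Opens.ι (⟨Tᶜ, hT.isOpen_compl⟩ : X.Opens))).obj
      ((Coh.push j).obj M)) :=
  isZero_restrict_push j _ M fun x hx h => by
    rw [Scheme.Opens.range_ι] at h
    exact h (hs x hx)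

/-- Direct images along open immersions of coherent modules supported in closed subsets are coherent. -/
theorem isCoh_push_open (hT : IsClosed T) (hTj : T ⊆ Set.range j) {M : U.Modules} (hM : Coh.IsCoh M)
    (hs : ∀ x ∈ CohB1.support M, j x ∈ T) : Coh.IsCoh ((Coh.push j).obj M) := by
  refine Groth.L29.DC.RHomC.isCoh_of_cover fun x => ?_
  by_cases hx : x ∈ T
  · refine ⟨j.opensRange, hTj hx, ?_⟩
    let k : (j.opensRange : Scheme.{u}) ⟶ U := j.isoOpensRange.inv
    have hk : k ≫ j = j.opensRange.ι := j.isoOpensRange_inv_comp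
    have h1 : Coh.IsCoh ((Scheme.Modules.restrictFunctor k).obj M) :=
      Groth.L29.DC.RHomC.isCoh_restrict k hM
    let e := ((Scheme.Modules.restrictFunctor k).mapIso
        ((Scheme.Modules.restrictFunctorAdjCounitIso j).app M)).symm ≪≫
      ((Scheme.Modules.restrictFunctorComp k j).app _).symm ≪≫
      (Scheme.Modules.restrictFunctorCongr hk).app ((Coh.push j).obj M)
    exact ⟨Groth.L29.DC.isQCoh_of_iso' e h1.1, Groth.L29.DC.TildeAlg.isFT_of_iso e h1.2⟩
  · exact ⟨⟨Tᶜ, hT.isOpen_compl⟩, hx, Groth.L29.DC.RHomC.isCoh_of_isZero (isZero_push_off j M hs hT)⟩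

omit [IsOpenImmersion j] in
theorem support_push_open_subset (hT : IsClosed T) {M : U.Modules}
    (hs : ∀ x ∈ CohB1.support M, j x ∈ T) : CohB1.support ((Coh.push j).obj M) ⊆ T := fun x hx => by
  by_contra h
  have hz := isZero_push_off j M hs hT
  rw [Groth.L21.Mod.isZero_iff_support_eq_empty, Groth.L21.Mod.support_restrict] at hz
  exact Set.notMem_empty _ (hz ▸ (show (⟨x, h⟩ : ↥(⟨Tᶜ, hT.isOpen_compl⟩ : X.Opens)) ∈
    Scheme.Opens.ι (⟨Tᶜ, hT.isOpen_compl⟩ : X.Opens) ⁻¹' CohB1.support ((Coh.push j).obj M) from hx))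

/-- A morphism of modules supported in a closed subset of an open is an isomorphism if it is one on the open. -/
theorem isIso_of_pullback_open (hT : IsClosed T) (hTj : T ⊆ Set.range j) {M N : X.Modules} (φ : M ⟶ N)
    (hM : CohB1.support M ⊆ T) (hN : CohB1.support N ⊆ T)
    (h : IsIso ((Scheme.Modules.pullback j).map φ)) : IsIso φ := by
  let C : X.Opens := ⟨Tᶜ, hT.isOpen_compl⟩
  let V : Bool → X.Opens := fun b => if b then j.opensRange else C
  refine Groth.L21.Mod.isIso_of_restrict_opens V (eq_top_iff.2 fun x _ => ?_) φ fun b => ?_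
  · rw [Opens.mem_iSup]
    by_cases hx : x ∈ T
    · exact ⟨true, hTj hx⟩
    · exact ⟨false, hx⟩
  cases b with
  | false =>
    have hz : ∀ K : X.Modules, CohB1.support K ⊆ T → IsZero ((Scheme.Modules.restrictFunctor C.ι).obj K) :=
      fun K hK => isZero_restrict_of_disjoint K C.ι fun x hx h' => by
        rw [Scheme.Opens.range_ι] at h'
        exact h' (hK hx)
    exact ⟨0, (hz M hM).eq_of_src _ _, (hz N hN).eq_of_src _ _⟩
  | true =>
    let k : (j.opensRange : Scheme.{u}) ⟶ U := j.isoOpensRange.inv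
    have hk : k ≫ j = j.opensRange.ι := j.isoOpensRange_inv_comp
    haveI : IsIso ((Scheme.Modules.restrictFunctor j).map φ) :=
      ((NatIso.isIso_map_iff (Scheme.Modules.restrictFunctorIsoPullback j) φ)).2 h
    have e : IsIso ((Scheme.Modules.restrictFunctor (k ≫ j)).map φ) :=
      (NatIso.isIso_map_iff (Scheme.Modules.restrictFunctorComp k j) φ).2 (by
        rw [Functor.comp_map]; infer_instance)
    exact (NatIso.isIso_map_iff (Scheme.Modules.restrictFunctorCongr hk) φ).1 e

theorem isIso_counit_open : IsIso (Scheme.Modules.pullbackPushforwardAdjunction j).counit := by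
  haveI := (Scheme.Modules.pullbackPushforwardAdjunction j).isLeftAdjoint
  let e : Coh.push j ⋙ Scheme.Modules.pullback j ≅ 𝟭 _ :=
    Functor.isoWhiskerLeft _ (Scheme.Modules.restrictFunctorIsoPullback j).symm ≪≫
      Scheme.Modules.restrictFunctorAdjCounitIso j
  exact Adjunction.isIso_counit_of_iso (Scheme.Modules.pullbackPushforwardAdjunction j) e

end OpenPush

section Formal

variable {A : Type u} [CommRing A] (I : Ideal A) {X U : Scheme.{u}} [X.Over (Spec (CommRingCat.of A))]
  [U.Over (Spec (CommRingCat.of A))]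

/-- A formal module with vanishing first term vanishes. -/
theorem isZero_of_isZero_zero {G : ℕᵒᵖ ⥤ X.Modules} (hG : Formal.IsCohFormal I G) (h : IsZero (G.obj (op 0))) :
    ∀ n, IsZero (G.obj (op n)) := by
  intro n
  induction n with
  | zero => exact h
  | succ n ih =>
    obtain ⟨h0, hiso⟩ := hG.2.2 n
    haveI := hiso
    have hz : IsZero (modPow I (n + 1) (G.obj (op (n + 1)))) :=
      IsZero.of_iso ih (asIso (cokernel.desc _ _ h0))
    haveI : Epi (smulFamily (I ^ (n + 1)) (G.obj (op (n + 1)))) :=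
      Preadditive.epi_of_cokernel_zero (hz.eq_of_tgt _ _)
    have hs : smulFamily (I ^ (n + 1)) (G.obj (op (n + 1))) = 0 := by
      apply Sigma.hom_ext
      intro b
      rw [comp_zero, smulFamily, Sigma.ι_desc]
      obtain ⟨t, ht⟩ := Existence.modPow_desc I (n := n + 1) (smulMod A (G.obj (op (n + 1))) (b : A)) fun c hc => by
        rw [← Rees.smulMod_mul]
        exact hG.2.1 (n + 1) _ (Ideal.pow_le_pow_right (show n + 1 + 1 ≤ (n + 1) + (n + 1) by omega)
          (pow_add I (n + 1) (n + 1) ▸ Ideal.mul_mem_mul b.2 hc))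
      rw [← ht, hz.eq_of_src t 0, comp_zero]
    rw [IsZero.iff_id_eq_zero, ← cancel_epi (smulFamily (I ^ (n + 1)) (G.obj (op (n + 1)))), comp_zero, hs,
      zero_comp]

/-- The terms of a formal module are supported in the support of the first one. -/
theorem support_subset_zero [AlgebraicGeometry.IsNoetherian X] {G : ℕᵒᵖ ⥤ X.Modules} (hG : Formal.IsCohFormal I G) (n : ℕ) :
    CohB1.support (G.obj (op n)) ⊆ CohB1.support (G.obj (op 0)) := by
  let V : X.Opens := ⟨(CohB1.support (G.obj (op 0)))ᶜ, (CohSupport.isClosed_support _ (hG.1 0).2).isOpen_compl⟩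
  letI : (V : Scheme.{u}).Over (Spec (CommRingCat.of A)) := ⟨V.ι ≫ (X ↘ Spec (CommRingCat.of A))⟩
  have hG' := isCohFormal_pullback I V.ι rfl hG
  have hz : IsZero ((G ⋙ Scheme.Modules.pullback V.ι).obj (op 0)) :=
    IsZero.of_iso (isZero_restrict_of_disjoint _ V.ι fun x hx h' => by
      rw [Scheme.Opens.range_ι] at h'
      exact h' hx) ((Scheme.Modules.restrictFunctorIsoPullback V.ι).app _).symm
  intro x hx
  by_contra h
  haveI : Coh.IsQCoh (G.obj (op n)) := (hG.1 n).1
  have hn := (Groth.L21.Mod.isZero_iff_support_eq_empty _).1 (isZero_of_isZero_zero I hG' hz n)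
  rw [Functor.comp_obj, Groth.L19.SupportPullback.support_pullback V.ι _ (hG.1 n).2] at hn
  exact Set.notMem_empty _ (hn ▸ (show (⟨x, h⟩ : ↥V) ∈ V.ι ⁻¹' CohB1.support (G.obj (op n)) from hx))

variable (j : U ⟶ X) [IsOpenImmersion j] (hj : j ≫ (X ↘ Spec (CommRingCat.of A)) = U ↘ Spec (CommRingCat.of A))
  [AlgebraicGeometry.IsNoetherian X]

include hj in
omit [AlgebraicGeometry.IsNoetherian X] in
/-- Direct images of formal modules supported in a closed subset. -/
theorem isCohFormal_push_open {T : Set X} (hT : IsClosed T) (hTj : T ⊆ Set.range j) {G : ℕᵒᵖ ⥤ U.Modules}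
    (hG : Formal.IsCohFormal I G) (hs : ∀ n, ∀ x ∈ CohB1.support (G.obj (op n)), j x ∈ T) :
    Formal.IsCohFormal I (G ⋙ Coh.push j) := by
  let adj := Scheme.Modules.pullbackPushforwardAdjunction j
  let P := Scheme.Modules.pullback j
  haveI : IsIso adj.counit := isIso_counit_open j
  refine ⟨fun n => isCoh_push_open j hT hTj (hG.1 n) (hs n), fun n b hb => ?_, fun n => ?_⟩
  · show smulMod A ((Coh.push j).obj (G.obj (op n))) b = 0
    rw [Supp.smulMod_push j hj, hG.2.1 n b hb, Functor.map_zero]
  obtain ⟨h0, hiso⟩ := hG.2.2 n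
  let δ : modPow I (n + 1) (G.obj (op (n + 1))) ⟶ G.obj (op n) := cokernel.desc _ _ h0
  haveI : IsIso δ := hiso
  let E := (Coh.push j).obj (G.obj (op (n + 1)))
  let t : E ⟶ (Coh.push j).obj (G.obj (op n)) := (Coh.push j).map (G.map (homOfLE (Nat.le_succ n)).op)
  have h1 : smulFamily (I ^ (n + 1)) E ≫ t = 0 := by
    apply Sigma.hom_ext
    intro b
    rw [comp_zero, smulFamily, Sigma.ι_desc_assoc, Rees.smulMod_naturality,
      Supp.smulMod_push j hj, hG.2.1 n b b.2, Functor.map_zero, comp_zero]
  refine ⟨h1, ?_⟩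
  obtain ⟨θ, hθ⟩ := Existence.exists_pullback_modPowIso (I := I) j hj E (n + 1)
  have key : θ.hom ≫ P.map (cokernel.desc _ t h1) ≫ adj.counit.app (G.obj (op n)) =
      redMap I (n + 1) (adj.counit.app (G.obj (op (n + 1)))) ≫ δ := by
    haveI := Existence.epi_modPowπ I (n + 1) (P.obj E)
    refine (cancel_epi (modPowπ I (n + 1) (P.obj E))).1 ?_
    rw [reassoc_of% hθ, ← Functor.map_comp_assoc, reassoc_of% (π_redMap I (n + 1) (adj.counit.app (G.obj (op (n + 1)))))]
    rw [show modPowπ I (n + 1) E ≫ cokernel.desc _ t h1 = t from cokernel.π_desc _ _ _,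
      show modPowπ I (n + 1) (G.obj (op (n + 1))) ≫ δ = G.map (homOfLE (Nat.le_succ n)).op from cokernel.π_desc _ _ _]
    exact adj.counit.naturality _
  haveI : IsIso (redMap I (n + 1) (adj.counit.app (G.obj (op (n + 1))))) :=
    ⟨redMap I (n + 1) (inv (adj.counit.app (G.obj (op (n + 1))))),
      by rw [redMap_comp, IsIso.hom_inv_id, redMap_id], by rw [redMap_comp, IsIso.inv_hom_id, redMap_id]⟩
  have hP : IsIso (P.map (cokernel.desc _ t h1)) := by
    have e : P.map (cokernel.desc _ t h1) =
        θ.inv ≫ (redMap I (n + 1) (adj.counit.app (G.obj (op (n + 1)))) ≫ δ) ≫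
          inv (adj.counit.app (G.obj (op n))) := by
      rw [← key]
      simp
    rw [e]
    infer_instance
  have hcoh := isCoh_push_open j hT hTj (hG.1 (n + 1)) (hs (n + 1))
  haveI : Epi (modPowπ I (n + 1) E) := Existence.epi_modPowπ I (n + 1) E
  exact isIso_of_pullback_open j hT hTj _
    ((Groth.L21.Mod.support_epi (modPowπ I (n + 1) E)).trans (support_push_open_subset j hT (hs (n + 1))))
    (support_push_open_subset j hT (hs n)) hP

include hj in
omit [AlgebraicGeometry.IsNoetherian X] in
/-- Algebraisability descends to an open subscheme. -/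
theorem exists_iso_of_open {G : ℕᵒᵖ ⥤ U.Modules} {M : X.Modules} (e : Formal.completion I M ≅ G ⋙ Coh.push j) :
    Nonempty (Formal.completion I ((Scheme.Modules.pullback j).obj M) ≅ G) := by
  let adj := Scheme.Modules.pullbackPushforwardAdjunction j
  let P := Scheme.Modules.pullback j
  haveI : IsIso adj.counit := isIso_counit_open j
  choose θ hθ using fun n => Existence.exists_pullback_modPowIso (I := I) j hj M (n + 1)
  refine Existence.nonempty_iso_of_sequence
    (fun n => θ n ≪≫ P.mapIso (e.app (op n)) ≪≫ (asIso adj.counit).app (G.obj (op n))) fun n => ?_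
  haveI := Existence.epi_modPowπ I (n + 1 + 1) (P.obj M)
  rw [show (Formal.completion I (P.obj M)).map (homOfLE (Nat.le_succ n)).op = modPowTrans I (n + 1) (P.obj M)
    from Existence.completion_tr I (P.obj M) n]
  refine (cancel_epi (modPowπ I (n + 1 + 1) (P.obj M))).1 ?_
  simp only [Iso.trans_hom, Functor.mapIso_hom, Iso.app_hom, asIso_hom, Category.assoc]
  rw [← Category.assoc (modPowπ I (n + 1 + 1) (P.obj M)) (modPowTrans _ _ _), modPowπ_trans, reassoc_of% hθ n,
    reassoc_of% hθ (n + 1), ← modPowπ_trans I (n + 1) M, Functor.map_comp, Category.assoc,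
    show modPowTrans I (n + 1) M = (Formal.completion I M).map (homOfLE (Nat.le_succ n)).op from
      (Existence.completion_tr I M n).symm]
  congr 1
  rw [← Functor.map_comp_assoc, e.hom.naturality, Functor.map_comp_assoc]
  congr 1
  exact adj.counit.naturality (G.map (homOfLE (Nat.le_succ n)).op)

variable [IsNoetherianRing A] [IsAdicComplete I A] [IsProper (X ↘ Spec (CommRingCat.of A))]

include hj in
/-- The existence theorem with proper support on an open subscheme of a proper scheme. -/
theorem exists_of_open_proper [LocallyOfFiniteType (U ↘ Spec (CommRingCat.of A))] {G : ℕᵒᵖ ⥤ U.Modules}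
    (hG : Formal.IsCohFormal I G)
    (hs : ClSub.IsProperOver (U ↘ Spec (CommRingCat.of A)) (CohB1.support (G.obj (op 0)))) :
    ∃ M : U.Modules, Coh.IsCoh M ∧ ClSub.IsProperOver (U ↘ Spec (CommRingCat.of A)) (CohB1.support M) ∧
      Nonempty (Formal.completion I M ≅ G) := by
  obtain ⟨hc, hp⟩ := hs
  let z := (Scheme.IdealSheafData.vanishingIdeal ⟨_, hc⟩).subschemeι
  haveI := hp
  haveI : IsProper ((z ≫ j) ≫ (X ↘ Spec (CommRingCat.of A))) := by
    rw [Category.assoc, hj]; exact hp
  haveI : IsProper (z ≫ j) := IsProper.of_comp (z ≫ j) (X ↘ Spec (CommRingCat.of A))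
  let T : Set X := Set.range (z ≫ j)
  have hT : IsClosed T := (z ≫ j).isClosedMap.isClosed_range
  have hTj : T ⊆ Set.range j := by
    rintro _ ⟨w, rfl⟩
    exact ⟨z w, rfl⟩
  haveI : IsLocallyNoetherian U := LocallyOfFiniteType.isLocallyNoetherian j
  haveI : NoetherianSpace U := j.isOpenEmbedding.isInducing.noetherianSpace
  haveI : AlgebraicGeometry.IsNoetherian U := {}
  have hGT : ∀ n, ∀ x ∈ CohB1.support (G.obj (op n)), j x ∈ T := fun n x hx => by
    obtain ⟨w, hw⟩ : x ∈ Set.range z := by
      rw [Groth.L17.ProperOver.range_ι]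
      exact support_subset_zero I hG n hx
    exact ⟨w, (Scheme.Hom.comp_apply z j w).trans (congrArg j hw)⟩
  have hG' := isCohFormal_push_open I j hj hT hTj hG hGT
  obtain ⟨F, hF, ⟨e⟩⟩ := algebraisable I X _ hG'
  haveI : Coh.IsQCoh F := hF.1
  have hFj : CohB1.support F ⊆ Set.range j := by
    let D := Scheme.IdealSheafData.vanishingIdeal (j.opensRange.compl)
    let d := D.subschemeι
    have hd : Set.range d = (Set.range j)ᶜ := Groth.L17.ProperOver.range_ι _
    letI : D.subscheme.Over (Spec (CommRingCat.of A)) := ⟨d ≫ (X ↘ Spec (CommRingCat.of A))⟩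
    haveI : IsProper (D.subscheme ↘ Spec (CommRingCat.of A)) :=
      inferInstanceAs (IsProper (d ≫ (X ↘ Spec (CommRingCat.of A))))
    haveI : IsLocallyNoetherian D.subscheme := LocallyOfFiniteType.isLocallyNoetherian d
    haveI : CompactSpace D.subscheme :=
      QuasiCompact.compactSpace_of_compactSpace (D.subscheme ↘ Spec (CommRingCat.of A))
    have hC := AffineBC.isCoh_pullback d hF
    obtain ⟨θ, -⟩ := Existence.exists_pullback_modPowIso (I := I) d rfl F 1
    have h1 : IsZero ((Scheme.Modules.pullback d).obj (modPow I 1 F)) := by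
      refine IsZero.of_iso ?_ ((Scheme.Modules.pullback d).mapIso (e.app (op 0)))
      rw [Groth.L21.Mod.isZero_iff_support_eq_empty]
      haveI : Coh.IsQCoh ((G ⋙ Coh.push j).obj (op 0)) := (hG'.1 0).1
      rw [Groth.L19.SupportPullback.support_pullback d _ (hG'.1 0).2]
      refine Set.eq_empty_of_forall_notMem fun w hw => ?_
      have : d w ∈ (Set.range j)ᶜ := hd ▸ ⟨w, rfl⟩
      exact this (hTj (support_push_open_subset j hT (hGT 0) hw))
    have h2 := Adic.eq_zero_of_reduction (I := I) (D.subscheme ↘ Spec (CommRingCat.of A)).isClosedMap hC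
      ((IsZero.of_iso h1 θ).eq_of_tgt _ _)
    have h3 := (Groth.L21.Mod.isZero_iff_support_eq_empty _).1 ((IsZero.iff_id_eq_zero _).2 h2)
    rw [Groth.L19.SupportPullback.support_pullback d F hF.2] at h3
    intro x hx
    by_contra hx'
    obtain ⟨w, rfl⟩ : x ∈ Set.range d := hd ▸ hx'
    exact Set.notMem_empty w (h3 ▸ hx)
  refine ⟨_, AffineBC.isCoh_pullback j hF, ?_, exists_iso_of_open I j hj e⟩
  rw [Groth.L19.SupportPullback.support_pullback j F hF.2]
  have hSc := CohSupport.isClosed_support _ hF.2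
  let s := (Scheme.IdealSheafData.vanishingIdeal ⟨_, hSc⟩).subschemeι
  have hsr : Set.range s = CohB1.support F := Groth.L17.ProperOver.range_ι _
  let l := IsOpenImmersion.lift j s (hsr.le.trans hFj)
  have hl : l ≫ j = s := IsOpenImmersion.lift_fac _ _ _
  haveI : IsClosedImmersion (l ≫ j) := by rw [hl]; infer_instance
  haveI : IsClosedImmersion l := IsClosedImmersion.of_comp l j
  haveI : IsProper (l ≫ (U ↘ Spec (CommRingCat.of A))) := by
    rw [← hj, ← Category.assoc, hl]; infer_instance
  have hrl : Set.range l = j ⁻¹' CohB1.support F := by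
    ext y
    constructor
    · rintro ⟨w, rfl⟩
      show j (l w) ∈ CohB1.support F
      rw [← Scheme.Hom.comp_apply, hl]
      exact hsr.le ⟨w, rfl⟩
    · intro hy
      obtain ⟨w, hw⟩ : j y ∈ Set.range s := by rw [hsr]; exact hy
      exact ⟨w, j.isOpenEmbedding.injective (by rw [← Scheme.Hom.comp_apply, hl, hw])⟩
  rw [← hrl]
  exact Groth.L17.ProperOver.isProperOver_range _ l

end Formal

end Groth.L16.Exist
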