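import Groth.Agent.L16.Exist.PushPullIso

/-!
Torsion of the comparison map between the limit module and the sections over the completed scheme.
-/

set_option autoImplicit false
set_option linter.style.haveILetI false
set_option backward.isDefEq.respectTransparency false
set_option backward.isDefEq.respectTransparency.types false

universe u

open CategoryTheory CategoryTheory.Limits AlgebraicGeometry TopologicalSpace Opposite
open scoped TensorProduct

noncomputable section

namespace Groth.L16.Exist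

open Groth.L18.Frame (rs ro rs_rs rs_smul rs_self pull)
open Formal (smulMod modPow modPowπ)
open AffineBC (scal)

/-- A morphism of modules from a map of carriers. -/
def mkHom {R : Type u} [CommRing R] (M N : ModuleCat.{u} R) (f : M → N) (hadd : ∀ x y, f (x + y) = f x + f y)
    (hsmul : ∀ (c : R) x, f (c • x) = c • f x) : M ⟶ N :=
  ModuleCat.ofHom { toFun := f, map_add' := hadd, map_smul' := hsmul }

/-- Morphisms out of `tilde M` from linear maps on `M`. -/
theorem exists_tilde_hom {R : CommRingCat.{u}} (M : ModuleCat.{u} R) (Q : (Spec R).Modules) (u : M → Γ(Q, ⊤))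
    (hadd : ∀ x y, u (x + y) = u x + u y) (hsmul : ∀ (c : R) x, u (c • x) = (Scheme.ΓSpecIso R).inv c • u x) :
    ∃ γ : tilde M ⟶ Q, ∀ x, γ.app ⊤ (show Γ(tilde M, ⊤) from tilde.toOpen M ⊤ x) = u x := by
  let κ : M ⟶ (moduleSpecΓFunctor (R := R)).obj Q := mkHom M _ u hadd hsmul
  refine ⟨((tilde.adjunction (R := R)).homEquiv _ _).symm κ, fun x => ?_⟩
  have h := ((tilde.adjunction (R := R)).homEquiv M Q).apply_symm_apply κ
  rw [Adjunction.homEquiv_unit] at h
  refine Eq.trans ?_ (ConcreteCategory.congr_hom h x)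
  show _ = (ConcreteCategory.hom (moduleSpecΓFunctor.map _)) ((tilde.adjunction.unit.app M).hom x)
  simp only [tilde.adjunction, tilde.toTildeΓNatIso, NatIso.ofComponents_hom_app, tilde.isoTop_hom]
  rfl

variable {A : Type u} [CommRing A] (J : Ideal A) {X Y : Scheme.{u}} [X.Over (Spec (CommRingCat.of A))]
  [Y.Over (Spec (CommRingCat.of A))] (f : X ⟶ Y) {U : Y.Opens} (hU : IsAffineOpen U)
  [IsLocallyNoetherian Y] [IsProper f] [AlgebraicGeometry.IsNoetherian X]
  (hf : f ≫ (Y ↘ Spec (CommRingCat.of A)) = X ↘ Spec (CommRingCat.of A))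
  {F : X.Modules} (hF : Coh.IsCoh F) (G : ℕ → Y.Modules) (hG : ∀ m, Coh.IsQCoh (G m))
  (b : ∀ m, (Scheme.Modules.pullback f).obj (G m) ≅ modPow J (m + 1) F)
  (E : ∀ m, modPow (JC J U) m (PC J f hU F) ≅ (Scheme.Modules.pullback (hC J f hU)).obj (modPow J m F))
  (hE : ∀ m, modPowπ (JC J U) m (PC J f hU F) ≫ (E m).hom =
    (Scheme.Modules.pullback (hC J f hU)).map (modPowπ J m F))
  (L : Type u) [AddCommGroup L] [Module (CU J U) L] [Module.Finite (CU J U) L]
  (ev : ∀ m, L →+ Γ(G m, U)) (hev : ∀ m, Function.Surjective (ev m))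
  (hevs : ∀ m (r : Γ(Y, U)) (l : L), ev m (algebraMap Γ(Y, U) (CU J U) r • l) = r • ev m l)
  (hevk : ∀ m l, ev m l = 0 → l ∈ JC J U ^ (m + 1) • (⊤ : Submodule (CU J U) L))
  (u : L → Γ(PC J f hU F, ⊤))
  (hu : ∀ l m, (modPowπ (JC J U) (m + 1) (PC J f hU F)).app ⊤ (u l) =
    (E (m + 1)).inv.app ⊤ (pr (hC J f hU) (hD_preimage hU f (CU J U)) (modPow J (m + 1) F)
      ((b m).hom.app (f ⁻¹ᵁ U) (pull f (G m) U (ev m l)))))
  (hua : ∀ l l', u (l + l') = u l + u l')
  (hus : ∀ (c : CU J U) (l : L), u (c • l) = scal (CU J U) (XC J f hU) ⊤ c • u l)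

include hF in
omit [AlgebraicGeometry.IsNoetherian X] [Module.Finite (CU J U) L] in
theorem noetherian_XC :
    IsNoetherianRing (CU J U) ∧ AlgebraicGeometry.IsNoetherian (XC J f hU) ∧
      Coh.IsCoh (PC J f hU F) ∧ IsAdicComplete (JC J U) (CU J U) := by
  haveI : IsNoetherianRing Γ(Y, U) := IsLocallyNoetherian.component_noetherian ⟨U, hU⟩
  haveI : IsNoetherianRing (CU J U) := isNoetherian_completion (JU J U)
  haveI : IsLocallyNoetherian (XC J f hU) := LocallyOfFiniteType.isLocallyNoetherian (qC J f hU)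
  haveI : CompactSpace (XC J f hU) := QuasiCompact.compactSpace_of_compactSpace (qC J f hU)
  refine ⟨inferInstance, ⟨⟩, AffineBC.isCoh_pullback _ hF, ?_⟩
  rw [JC_eq]
  exact isComplete_completion (JU J U)

include hua hus in
omit [AlgebraicGeometry.IsNoetherian X] [Module.Finite (CU J U) L] in
/-- The map to the pulled back module. -/
theorem exists_ψ : ∃ ψ : NL J f hU L ⟶ PC J f hU F,
    ∀ (W' : (XC J f hU).Opens) (l : L), ψ.app W' (genN J f hU L W' l) = rs _ le_top (u l) := by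
  let q := qC J f hU
  let Q : (Spec (CommRingCat.of (CU J U))).Modules := (Scheme.Modules.pushforward q).obj (PC J f hU F)
  obtain ⟨γ, hγ⟩ : ∃ γ : TL J (U := U) L ⟶ Q, ∀ l : L, γ.app ⊤ (genS J L l) = (show Γ(Q, ⊤) from u l) :=
    exists_tilde_hom (R := CommRingCat.of (CU J U)) (LM J U L) Q (fun l => u l) hua fun c l =>
      (hus c l).trans (congrArg (· • u l) (Groth.L18.Frame.ro_self le_rfl _))
  let adj := Scheme.Modules.pullbackPushforwardAdjunction q
  refine ⟨(adj.homEquiv _ _).symm γ, fun W' l => ?_⟩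
  have h := (adj.homEquiv _ _).apply_symm_apply γ
  rw [Adjunction.homEquiv_unit] at h
  show ((adj.homEquiv _ _).symm γ).app W'
    (rs (NL J f hU L) le_top (pull q (TL J (U := U) L) ⊤ (genS J L l))) = _
  rw [HomSh.app_rs]
  exact congrArg (rs (PC J f hU F) le_top) ((app_eq h (genS J L l)).trans (hγ l))

theorem isProperOver_support {C : Type u} [CommRing C] {W : Scheme.{u}} [W.Over (Spec (CommRingCat.of C))]
    [IsProper (W ↘ Spec (CommRingCat.of C))] [IsLocallyNoetherian W] {M N : W.Modules} (hM : Coh.IsCoh M)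
    (hN : Coh.IsCoh N) :
    ClSub.IsProperOver (W ↘ Spec (CommRingCat.of C)) (CohB1.support M ∩ CohB1.support N) :=
  HomSh.isProperOver_mono _ ⟨isClosed_univ, inferInstance⟩
    ((CohSupport.isClosed_support _ hM.2).inter (CohSupport.isClosed_support _ hN.2)) (Set.subset_univ _)

include hf hF hG hE hev hevs hevk hu in
omit hua hus in
/-- The comparison is an isomorphism. -/
theorem isIso_ψ (ψ : NL J f hU L ⟶ PC J f hU F)
    (hψ : ∀ (W' : (XC J f hU).Opens) (l : L), ψ.app W' (genN J f hU L W' l) = rs _ le_top (u l)) :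
    IsIso ψ := by
  obtain ⟨hNC, hXN, hP, hcomp⟩ := noetherian_XC J f hU hF
  haveI := hNC
  haveI := hXN
  haveI := hcomp
  let C := CU J U
  let I := JC J U
  have hT : Coh.IsCoh (TL J (U := U) L) :=
    ⟨Groth.L18.TildeF.isQCoh_tilde _, (Groth.L18.GrT.tildeFT_iff _ _).2 ‹_›⟩
  have hN : Coh.IsCoh (NL J f hU L) := AffineBC.isCoh_pullback _ hT
  haveI : Coh.IsQCoh (NL J f hU L) := hN.1
  haveI : Coh.IsQCoh (PC J f hU F) := hP.1
  let I₀ := {W : X.affineOpens // W.1 ≤ f ⁻¹ᵁ U}
  let V : I₀ → (XC J f hU).Opens := fun W => hC J f hU ⁻¹ᵁ W.1.1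
  have hV : ∀ x, ∃ i, x ∈ V i := fun x => by
    obtain ⟨_, ⟨W, hW, rfl⟩, hxW, hWV⟩ :=
      X.isBasis_affineOpens.exists_subset_of_mem_open (hD_preimage hU f C (Set.mem_univ x)) (f ⁻¹ᵁ U).2
    exact ⟨⟨⟨W, hW⟩, hWV⟩, hxW⟩
  have hVa : ∀ i, IsAffineOpen (V i) := fun i => (isPushout_XD hU f C i.1.2 i.2).1
  haveI : Mono ψ := by
    refine Preadditive.mono_of_kernel_zero ?_
    have hK : Coh.IsCoh (kernel ψ) := (CohKernel.isCoh_kernel_cokernel hN hP ψ).1
    haveI : Coh.IsQCoh (kernel ψ) := hK.1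
    have h0 : ∀ m, kernel.ι ψ ≫ modPowπ I (m + 1) (NL J f hU L) = 0 := fun m =>
      hom_eq_zero_of_cover _ V hV fun i W hW hWV x =>
        app_eq_zero_of_affine _ (hVa i) (fun y => by
          refine inj_level J f hU hf hF G hG b E hE L ev hev hevs hevk u hu ψ hψ i.1.2 i.2 m _ ?_
          have h := app_eq (kernel.condition ψ) y
          show (modPowπ I (m + 1) (PC J f hU F)).app (V i) (ψ.app (V i) ((kernel.ι ψ).app (V i) y)) = 0
          rw [show ψ.app (V i) ((kernel.ι ψ).app (V i) y) = 0 from h, map_zero]) hWV x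
    obtain ⟨φ, -, huniq⟩ := HomSh.existsUnique_hom I hK hN (isProperOver_support hK hN) (fun _ => 0)
      fun n => zero_comp
    exact (huniq _ fun n => (h0 n).symm).trans (huniq _ fun n => zero_comp.symm).symm
  haveI : Epi ψ := by
    refine Preadditive.epi_of_cokernel_zero ?_
    let Q := cokernel ψ
    have hQ : Coh.IsCoh Q := (CohKernel.isCoh_kernel_cokernel hN hP ψ).2
    haveI : Coh.IsQCoh Q := hQ.1
    haveI : Epi (cokernel.π ψ) := coequalizer.π_epi
    have h0 : ∀ m, modPowπ I (m + 1) Q = 0 := fun m =>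
      hom_eq_zero_of_cover _ V hV fun i W hW hWV x =>
        app_eq_zero_of_affine _ (hVa i) (fun y => by
          obtain ⟨y, rfl⟩ := AffineBC.surjective_app_of_epi (cokernel.π ψ) (hVa i) y
          obtain ⟨t, ht⟩ := surj_level J f hU hf hF G hG b E hE L ev hev u hu ψ hψ i.1.2 i.2 m y
          have e : ∀ z, (modPowπ I (m + 1) Q).app (V i) ((cokernel.π ψ).app (V i) z) =
              (redMap I (m + 1) (cokernel.π ψ)).app (V i) ((modPowπ I (m + 1) (PC J f hU F)).app (V i) z) :=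
            fun z => (app_eq (π_redMap I (m + 1) (cokernel.π ψ)) z).symm
          rw [e, ← ht, ← e, show (cokernel.π ψ).app (V i) (ψ.app (V i) t) = 0 from
            app_eq (cokernel.condition ψ) t, map_zero]) hWV x
    obtain ⟨φ, -, huniq⟩ := HomSh.existsUnique_hom I hQ hQ (isProperOver_support hQ hQ) (fun _ => 0)
      fun n => zero_comp
    have e := (huniq (𝟙 Q) fun n => by rw [Category.id_comp, h0 n]).trans
      (huniq 0 fun n => zero_comp.symm).symm
    rw [← Category.comp_id (cokernel.π ψ), e, comp_zero]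
  exact isIso_of_mono_of_epi ψ

variable {U₀ : Y.Opens} (hU₀ : IsIso (f ∣_ U₀)) (a : Γ(Y, U)) (ha : Y.basicOpen a ≤ U₀)

include hf hF hG hE hev hevs hevk hu hua hus hU₀ ha in
/-- Kernel and cokernel of the comparison on sections are torsion. -/
theorem exists_torsion : ∃ t : ℕ,
    (∀ l, u l = 0 → algebraMap Γ(Y, U) (CU J U) a ^ t • l = 0) ∧
    ∀ p, ∃ l, u l = scal (CU J U) (XC J f hU) ⊤ (algebraMap Γ(Y, U) (CU J U) a ^ t) • p := by
  obtain ⟨ψ, hψ⟩ := exists_ψ J f hU L u hua hus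
  haveI := isIso_ψ J f hU hf hF G hG b E hE L ev hev hevs hevk u hu ψ hψ
  obtain ⟨hNC, hXN, hP, -⟩ := noetherian_XC J f hU hF
  haveI := hNC
  haveI := hXN
  haveI : Coh.IsQCoh (PC J f hU F) := hP.1
  haveI : Coh.IsQCoh (TL J (U := U) L) := Groth.L18.TildeF.isQCoh_tilde _
  let C := CU J U
  let q := qC J f hU
  let S := Spec (CommRingCat.of C)
  let a' : C := algebraMap Γ(Y, U) C a
  let r : Γ(S, ⊤) := (Scheme.ΓSpecIso (CommRingCat.of C)).inv a'
  have hD : S.basicOpen r = PrimeSpectrum.basicOpen (R := CommRingCat.of C) a' := basicOpen_eq_of_affine _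
  haveI : IsIso (q ∣_ S.basicOpen r) := by
    rw [hD]
    exact isIso_XD_restrict hU f C hU₀ a ha
  let W₀ := q ⁻¹ᵁ S.basicOpen r
  have hA : IsAffineOpen (S.basicOpen r) := (isAffineOpen_top S).basicOpen r
  have hW₀ : IsAffineOpen W₀ := by
    haveI : IsAffine (S.basicOpen r).toScheme := hA
    exact IsAffine.of_isIso (q ∣_ S.basicOpen r)
  have happ : Function.Bijective (q.appLE (S.basicOpen r) W₀ le_rfl) := by
    rw [← Scheme.Hom.app_eq_appLE]
    have h1 : IsIso ((q ∣_ S.basicOpen r).appTop) := inferInstance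
    rw [morphismRestrict_appTop] at h1
    haveI := h1
    have h2 : IsIso (q.app ((S.basicOpen r).ι ''ᵁ ⊤)) := @IsIso.of_isIso_comp_right _ _ _ _ _ (q.app ((S.basicOpen r).ι ''ᵁ ⊤)) _ inferInstance h1
    rw [Scheme.Opens.ι_image_top] at h2
    exact ConcreteCategory.bijective_of_isIso _
  let pr₀ := pr q (le_rfl : W₀ ≤ q ⁻¹ᵁ S.basicOpen r) (TL J (U := U) L)
  have hpr : Function.Bijective pr₀ := by
    let φ := RingEquiv.ofBijective (q.appLE (S.basicOpen r) W₀ le_rfl).hom happ
    letI : Algebra Γ(S, S.basicOpen r) Γ(XC J f hU, W₀) := (q.appLE (S.basicOpen r) W₀ le_rfl).hom.toAlgebra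
    letI := Module.compHom Γ(NL J f hU L, W₀) (q.appLE (S.basicOpen r) W₀ le_rfl).hom
    haveI : IsScalarTower Γ(S, S.basicOpen r) Γ(XC J f hU, W₀) Γ(NL J f hU L, W₀) :=
      IsScalarTower.of_algebraMap_smul fun _ _ => rfl
    have hb := AffineBC.isBaseChange_pull q (TL J (U := U) L) hA hW₀ (le_rfl : W₀ ≤ q ⁻¹ᵁ S.basicOpen r)
    refine ⟨(injective_iff_map_eq_zero _).2 fun y hy => ?_, fun z => ?_⟩
    · let B : Γ(XC J f hU, W₀) →ₗ[Γ(S, S.basicOpen r)] Γ(TL J (U := U) L, S.basicOpen r) →ₗ[Γ(S, S.basicOpen r)]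
          Γ(TL J (U := U) L, S.basicOpen r) :=
        LinearMap.mk₂ _ (fun s x => φ.symm s • x) (fun s t x => by rw [map_add, add_smul])
          (fun c s x => by
            rw [Algebra.smul_def, map_mul, mul_smul,
              show φ.symm (algebraMap _ Γ(XC J f hU, W₀) c) = c from φ.symm_apply_apply c])
          (fun s x y => smul_add _ _ _) (fun c s x => smul_comm _ _ _)
      have h := congrArg (fun t => TensorProduct.lift B (hb.equiv.symm t))
        (show AffineBC.pullRes q (TL J (U := U) L) le_rfl y = 0 from hy)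
      rw [hb.equiv_symm_apply, map_zero, map_zero] at h
      have h' : φ.symm 1 • y = 0 := h
      rwa [map_one, one_smul] at h'
    · refine IsTensorProduct.inductionOn hb z ⟨0, map_zero _⟩ (fun s y => ⟨φ.symm s • y, ?_⟩)
        fun x y ⟨x', hx⟩ ⟨y', hy⟩ => ⟨x' + y', by rw [map_add, hx, hy]⟩
      show pr₀ (φ.symm s • y) = s • pr₀ y
      rw [pr_smul]
      exact congrArg (· • pr₀ y) (φ.apply_symm_apply s)
  have hgen : ∀ l, pr₀ (rs _ (le_top : S.basicOpen r ≤ ⊤) (genS J L l)) = genN J f hU L W₀ l := fun l => by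
    show pr q _ _ (rs _ _ (genS J L l)) = _
    rw [pr_rs q (show W₀ ≤ q ⁻¹ᵁ ⊤ from le_top) _ le_top le_rfl, rs_self]
    rfl
  have hgl : ∀ (k : ℕ) (l : L), r ^ k • genS J (U := U) L l = genS J L (a' ^ k • l) := fun k l => by
    rw [genS_smul, map_pow]
  -- kernel
  have hker : ∀ l, u l = 0 → ∃ k : ℕ, a' ^ k • l = 0 := fun l hl => by
    have h0 : genN J f hU L W₀ l = 0 := by
      have h := congrArg ((inv ψ).app W₀) (hψ W₀ l)
      rw [hl, show rs (PC J f hU F) (le_top : W₀ ≤ ⊤) 0 = 0 from map_zero _, map_zero] at h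
      exact (app_eq (IsIso.hom_inv_id ψ) _).symm.trans h
    obtain ⟨k, hk⟩ := QCohSect.exists_pow_smul_eq_zero (isAffineOpen_top S) (TL J (U := U) L) r (genS J L l)
      (hpr.1 ((hgen l).trans (h0.trans (map_zero pr₀).symm)))
    refine ⟨k, ?_⟩
    haveI : IsIso (tilde.toOpen (R := CommRingCat.of C) (LM J U L) ⊤) := tilde.isIso_toOpen_top
    have hinj : Function.Injective (genS J (U := U) L) :=
      (ConcreteCategory.bijective_of_isIso (tilde.toOpen (R := CommRingCat.of C) (LM J U L) ⊤)).1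
    refine hinj ?_
    rw [← hgl, hk]
    exact (map_zero (tilde.toOpen (R := CommRingCat.of C) (LM J U L) ⊤).hom).symm
  -- cokernel
  have hcok : ∀ p, ∃ (k : ℕ) (l : L), u l = scal C (XC J f hU) ⊤ (a' ^ k) • p := fun p => by
    obtain ⟨y, hy⟩ := hpr.2 ((inv ψ).app W₀ (rs _ le_top p))
    obtain ⟨k, z, hz⟩ := QCohSect.exists_pow_smul_eq_res (isAffineOpen_top S) (TL J (U := U) L) r y
    obtain ⟨l, rfl⟩ := genS_surjective J L z
    let s := scal C (XC J f hU) ⊤ a'
    have hs : (XC J f hU).basicOpen s ≤ W₀ := by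
      have : W₀ = (XC J f hU).basicOpen (q.app ⊤ r) := Scheme.preimage_basicOpen q r
      rw [this]
      exact ((congrArg (XC J f hU).basicOpen (Groth.L18.Frame.ro_self (le_rfl : (⊤ : (XC J f hU).Opens) ≤ ⊤)
        (q.appTop r))).trans_le le_rfl)
    have h1 : rs _ (le_top : W₀ ≤ ⊤) (u l) = rs (PC J f hU F) le_top (s ^ k • p) := by
      rw [← hψ, ← hgen, hz, pr_smul, Scheme.Modules.Hom.app_smul, hy]
      rw [show ψ.app W₀ ((inv ψ).app W₀ (rs _ le_top p)) = rs _ le_top p from app_eq (IsIso.inv_hom_id ψ) _,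
        rs_smul]
      congr 1
      show q.appLE (S.basicOpen r) W₀ le_rfl ((S.presheaf.map (homOfLE _).op).hom (r ^ k)) =
        ((XC J f hU).presheaf.map (homOfLE _).op).hom (s ^ k)
      rw [map_pow, map_pow, map_pow]
      refine congrArg (· ^ k) ?_
      show q.appLE (S.basicOpen r) W₀ le_rfl (ro _ r) = ro le_top (ro le_rfl (q.appTop r))
      rw [Groth.L18.Frame.ro_self]
      exact ConcreteCategory.congr_hom (Scheme.Hom.map_appLE q le_rfl (homOfLE (le_top : S.basicOpen r ≤ ⊤)).op) r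
    obtain ⟨k', hk'⟩ := QcqsPush.exists_pow_smul_eq_zero (PC J f hU F) (U := ⊤) isCompact_univ s
      (u l - s ^ k • p) (by
        refine (map_sub ((PC J f hU F).presheaf.map (homOfLE ((XC J f hU).basicOpen_le s)).op).hom _ _).trans (sub_eq_zero.2 ?_)
        have h2 := congrArg (rs (PC J f hU F) hs) h1
        rwa [rs_rs, rs_rs] at h2)
    refine ⟨k' + k, a' ^ k' • l, ?_⟩
    rw [hus, map_pow, map_pow, pow_add, mul_smul, ← sub_eq_zero, ← smul_sub]
    exact hk'
  -- uniformity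
  letI : Module C Γ(PC J f hU F, ⊤) := Module.compHom _ (scal C (XC J f hU) ⊤)
  haveI : Module.Finite C Γ(PC J f hU F, ⊤) := sect_finite hP
  let uL : L →ₗ[C] Γ(PC J f hU F, ⊤) := { toFun := u, map_add' := hua, map_smul' := hus }
  haveI : IsNoetherian C L := isNoetherian_of_isNoetherianRing_of_finite C L
  obtain ⟨s₁, hs₁⟩ := IsNoetherian.noetherian (LinearMap.ker uL)
  choose k₁ hk₁ using fun l : s₁ => hker l.1
    (LinearMap.mem_ker.1 (hs₁ ▸ Submodule.subset_span l.2 : l.1 ∈ LinearMap.ker uL))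
  obtain ⟨s₂, hs₂⟩ := Module.Finite.fg_top (R := C) (M := Γ(PC J f hU F, ⊤))
  choose k₂ hk₂ using fun p : s₂ => hcok p.1
  let t := s₁.attach.sup k₁ + s₂.attach.sup k₂
  refine ⟨t, fun l hl => ?_, fun p => ?_⟩
  · have hmem : l ∈ Submodule.span C (s₁ : Set L) := hs₁ ▸ LinearMap.mem_ker.2 hl
    clear hl
    induction hmem using Submodule.span_induction with
    | mem l hl' =>
      have hle : k₁ ⟨l, hl'⟩ ≤ t := (Finset.le_sup (Finset.mem_attach _ _)).trans (Nat.le_add_right _ _)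
      rw [← Nat.sub_add_cancel hle, pow_add, mul_smul, hk₁ ⟨l, hl'⟩, smul_zero]
    | zero => exact smul_zero _
    | add x y _ _ hx hy => rw [smul_add, hx, hy, add_zero]
    | smul c x _ hx => rw [smul_comm, hx, smul_zero]
  · suffices h : a' ^ t • p ∈ LinearMap.range uL by
      obtain ⟨l, hl⟩ := h
      exact ⟨l, hl⟩
    have hp : p ∈ Submodule.span C (s₂ : Set Γ(PC J f hU F, ⊤)) := hs₂ ▸ Submodule.mem_top
    induction hp using Submodule.span_induction with
    | mem p hp' =>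
      obtain ⟨l, hl⟩ := hk₂ ⟨p, hp'⟩
      have hle : k₂ ⟨p, hp'⟩ ≤ t := (Finset.le_sup (Finset.mem_attach _ _)).trans (Nat.le_add_left _ _)
      rw [← Nat.sub_add_cancel hle, pow_add, mul_smul]
      exact Submodule.smul_mem _ _ ⟨l, hl⟩
    | zero => rw [smul_zero]; exact zero_mem _
    | add x y _ _ h h' => rw [smul_add]; exact add_mem h h'
    | smul c x _ h => rw [smul_comm]; exact Submodule.smul_mem _ _ h

end Groth.L16.Exist
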