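import Groth.Agent.S0543
import Groth.Agent.S0797
import Mathlib.RingTheory.AdicCompletion.Completeness
import Mathlib.RingTheory.AdicCompletion.Algebra
import Mathlib.RingTheory.Filtration
import Mathlib.RingTheory.Nakayama

/-!
Inverse systems of finite modules over the thickenings of an ideal, through the completed ring.
-/

set_option autoImplicit false
set_option linter.style.haveILetI false

universe u

noncomputable section

namespace Groth.L16.Exist

variable {B : Type u} [CommRing B] (J : Ideal B) (M : ℕ → Type u) [∀ n, AddCommGroup (M n)]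
  [∀ n, Module B (M n)] (f : ∀ n, M (n + 1) →ₗ[B] M n)

/-- Compatible families. -/
def lim : Submodule B (∀ n, M n) where
  carrier := {g | ∀ n, f n (g (n + 1)) = g n}
  add_mem' {g g'} hg hg' n := by
    show f n (g (n + 1) + g' (n + 1)) = g n + g' n
    rw [map_add, hg, hg']
  zero_mem' n := map_zero _
  smul_mem' b g hg n := by
    show f n (b • g (n + 1)) = b • g n
    rw [map_smul, hg]

theorem mem_lim {g : ∀ n, M n} : g ∈ lim M f ↔ ∀ n, f n (g (n + 1)) = g n := Iff.rfl

variable (hk : ∀ n, ∀ b ∈ J ^ (n + 1), ∀ x : M n, b • x = 0)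

include hk in
theorem isTorsion (n : ℕ) : Module.IsTorsionBySet B (M n) ((J ^ (n + 1) : Ideal B) : Set B) :=
  fun x b => hk n b b.2 x

/-- The completed ring acts on each level. -/
@[reducible] def cmod (n : ℕ) : Module (AdicCompletion J B) (M n) :=
  letI := (isTorsion J M hk n).module
  Module.compHom (M n) (AdicCompletion.evalₐ J (n + 1)).toRingHom

theorem cmod_smul (n : ℕ) (c : AdicCompletion J B) (r : B)
    (h : AdicCompletion.evalₐ J (n + 1) c = Ideal.Quotient.mk _ r) (x : M n) :
    letI := cmod J M hk n; c • x = r • x := by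
  letI := (isTorsion J M hk n).module
  show (AdicCompletion.evalₐ J (n + 1)) c • x = r • x
  rw [h]
  exact (isTorsion J M hk n).mk_smul r x

theorem cmod_tower (n : ℕ) :
    letI := cmod J M hk n; IsScalarTower B (AdicCompletion J B) (M n) := by
  letI := cmod J M hk n
  refine IsScalarTower.of_algebraMap_smul fun b x => cmod_smul J M hk n _ b ?_ x
  rw [AlgHom.commutes]
  rfl

/-- Linearity over the completed ring of a map into a killed module. -/
theorem cmod_map (N : ℕ → Type u) [∀ n, AddCommGroup (N n)] [∀ n, Module B (N n)]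
    (hkN : ∀ n, ∀ b ∈ J ^ (n + 1), ∀ x : N n, b • x = 0) (n : ℕ) (φ : M n →ₗ[B] N n)
    (c : AdicCompletion J B) (x : M n) :
    letI := cmod J M hk n; letI := cmod J N hkN n; φ (c • x) = c • φ x := by
  letI := cmod J M hk n
  letI := cmod J N hkN n
  obtain ⟨r, hr⟩ := Ideal.Quotient.mk_surjective (AdicCompletion.evalₐ J (n + 1) c)
  rw [cmod_smul J M hk n c r hr.symm, cmod_smul J N hkN n c r hr.symm, map_smul]

theorem cmod_f (n : ℕ) (c : AdicCompletion J B) (x : M (n + 1)) :
    letI := cmod J M hk n; letI := cmod J M hk (n + 1); f n (c • x) = c • f n x := by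
  letI := cmod J M hk n
  letI := cmod J M hk (n + 1)
  obtain ⟨r, hr⟩ := Ideal.Quotient.mk_surjective (AdicCompletion.evalₐ J (n + 1 + 1) c)
  rw [cmod_smul J M hk (n + 1) c r hr.symm, cmod_smul J M hk n c r, map_smul]
  obtain ⟨a, rfl⟩ := AdicCompletion.mk_surjective J B c
  rw [AdicCompletion.evalₐ_mk] at hr ⊢
  rw [Ideal.Quotient.eq] at hr ⊢
  have h1 : a.1 (n + 1 + 1) - a.1 (n + 1) ∈ J ^ (n + 1) := by
    have := a.2 (Nat.le_succ (n + 1))
    rw [SModEq.sub_mem, smul_eq_mul, Ideal.mul_top] at this
    simpa using neg_mem this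
  have h2 := Ideal.pow_le_pow_right (I := J) (Nat.le_succ (n + 1)) hr
  have := neg_mem (add_mem h2 h1)
  simpa using this

/-- The completed ring acts on compatible families. -/
def climit : letI := fun n => cmod J M hk n; Submodule (AdicCompletion J B) (∀ n, M n) :=
  letI := fun n => cmod J M hk n
  { carrier := {g | ∀ n, f n (g (n + 1)) = g n}
    add_mem' := fun {g g'} hg hg' n => by
      show f n (g (n + 1) + g' (n + 1)) = g n + g' n
      rw [map_add, hg, hg']
    zero_mem' := fun n => map_zero _
    smul_mem' := fun c g hg n => by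
      show f n (c • g (n + 1)) = c • g n
      rw [cmod_f, hg] }

theorem isNoetherian_completion [IsNoetherianRing B] : IsNoetherianRing (AdicCompletion J B) :=
  Groth.Agent.S0543.result B J

theorem isComplete_completion [IsNoetherianRing B] :
    IsAdicComplete (J.map (algebraMap B (AdicCompletion J B))) (AdicCompletion J B) :=
  (IsAdicComplete.map_algebraMap_iff _ _).mpr (AdicCompletion.isAdicComplete (IsNoetherian.noetherian J))

theorem mem_map_pow_smul {n : ℕ} {N : Type u} [AddCommGroup N] [Module B N] [Module (AdicCompletion J B) N]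
    [IsScalarTower B (AdicCompletion J B) N] (x : N) :
    x ∈ (J.map (algebraMap B (AdicCompletion J B))) ^ n • (⊤ : Submodule (AdicCompletion J B) N) ↔
      x ∈ J ^ n • (⊤ : Submodule B N) := by
  rw [← Ideal.map_pow, ← Submodule.restrictScalars_mem B]
  exact Iff.of_eq (congrArg (x ∈ ·) (Ideal.smul_restrictScalars (J ^ n) ⊤))

variable [IsNoetherianRing B] [∀ n, Module.Finite B (M n)] (hf : ∀ n, Function.Surjective (f n))
  (hker : ∀ n, ∀ x, f n x = 0 → x ∈ J ^ (n + 1) • (⊤ : Submodule B (M (n + 1))))

include hf hker in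
theorem climit_spec :
    letI := fun n => cmod J M hk n
    Module.Finite (AdicCompletion J B) (climit J M f hk) ∧
      ∀ n, Function.Surjective (fun g : climit J M f hk => g.1 n) ∧
        ∀ g : climit J M f hk, g.1 n = 0 →
          g ∈ (J.map (algebraMap B (AdicCompletion J B))) ^ (n + 1) •
            (⊤ : Submodule (AdicCompletion J B) (climit J M f hk)) := by
  letI := fun n => cmod J M hk n
  haveI := fun n => cmod_tower J M hk n
  haveI := isNoetherian_completion J
  haveI := isComplete_completion J
  haveI : ∀ n, Module.Finite (AdicCompletion J B) (M n) := fun n =>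
    Module.Finite.of_restrictScalars_finite B _ _
  let fC : ∀ n, M (n + 1) →ₗ[AdicCompletion J B] M n := fun n =>
    { toFun := f n, map_add' := map_add _, map_smul' := fun c x => cmod_f J M f hk n c x }
  obtain ⟨h1, h2⟩ := Groth.Agent.S0797.result (AdicCompletion J B) (J.map (algebraMap _ _)) M fC hf
    (fun n => by
      rw [eq_bot_iff]
      intro x hx
      rw [mem_map_pow_smul] at hx
      refine Submodule.smul_induction_on hx (fun b hb y _ => by simp [hk n b hb y]) (fun a b ha hb => ?_)
      exact add_mem ha hb)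
    (fun n => by
      ext x
      rw [LinearMap.mem_ker, mem_map_pow_smul]
      refine ⟨hker n x, fun hx => ?_⟩
      refine Submodule.smul_induction_on hx (fun b hb y _ => ?_) (fun a b ha hb => by
        rw [map_add, ha, hb, add_zero])
      show f n (b • y) = 0
      rw [map_smul, hk n b hb])
    (climit J M f hk) (fun x => Iff.rfl)
  exact ⟨h1, fun n => ⟨(h2 n).1, fun g hg => (h2 n).2 ▸ (LinearMap.mem_ker.2 hg)⟩⟩

include hk hf hker in
/-- Every element extends to a compatible family. -/
theorem exists_family (n : ℕ) (x : M n) : ∃ g ∈ lim M f, g n = x := by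
  letI := fun n => cmod J M hk n
  obtain ⟨⟨g, hg⟩, h⟩ := ((climit_spec J M f hk hf hker).2 n).1 x
  exact ⟨g, hg, h⟩

include hk hf hker in
/-- Families vanishing at a level are combinations of families with coefficients in the ideal. -/
theorem mem_pow_smul_lim (n : ℕ) {g : ∀ n, M n} (hg : g ∈ lim M f) (h : g n = 0) :
    g ∈ J ^ (n + 1) • lim M f := by
  letI := fun n => cmod J M hk n
  haveI := fun n => cmod_tower J M hk n
  have h1 := (mem_map_pow_smul J _).1 (((climit_spec J M f hk hf hker).2 n).2 ⟨g, hg⟩ h)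
  let ι : climit J M f hk →ₗ[B] (∀ n, M n) := (climit J M f hk).subtype.restrictScalars B
  have h2 := Submodule.mem_map_of_mem (f := ι) h1
  rw [Submodule.map_smul''] at h2
  refine Submodule.smul_mono le_rfl ?_ h2
  rintro _ ⟨y, -, rfl⟩
  exact y.2

variable (M' : ℕ → Type u) [∀ n, AddCommGroup (M' n)] [∀ n, Module B (M' n)]
  (f' : ∀ n, M' (n + 1) →ₗ[B] M' n) (hk' : ∀ n, ∀ b ∈ J ^ (n + 1), ∀ x : M' n, b • x = 0)
  (α : ∀ n, M n →ₗ[B] M' n)

include hk hk' hf hker in
/-- Artin–Rees for the completed modules. -/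
theorem exists_artin_rees (K : Ideal B) (T : ℕ)
    (hT : ∀ g ∈ lim M f, (∀ n, α n (g n) = 0) → ∀ a ∈ K ^ T, a • g = 0) :
    ∃ e : ℕ, ∀ g ∈ lim M f, (∀ n, α n (g n) = 0) →
      (∀ n, g n ∈ K ^ e • (⊤ : Submodule B (M n))) → g = 0 := by
  letI := fun n => cmod J M hk n
  letI := fun n => cmod J M' hk' n
  haveI := fun n => cmod_tower J M hk n
  haveI := isNoetherian_completion J
  haveI := isComplete_completion J
  obtain ⟨hfin, hspec⟩ := climit_spec J M f hk hf hker
  let C := AdicCompletion J B
  let L := climit J M f hk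
  haveI : Module.Finite C L := hfin
  let P : Submodule C L :=
    { carrier := {g | ∀ n, α n (g.1 n) = 0}
      add_mem' := fun {g g'} hg hg' n => by
        show α n (g.1 n + g'.1 n) = 0
        rw [map_add, hg, hg', add_zero]
      zero_mem' := fun n => map_zero _
      smul_mem' := fun c g hg n => by
        show α n (c • g.1 n) = 0
        rw [cmod_map J M hk M' hk' n, hg, smul_zero] }
  let KC : Ideal C := K.map (algebraMap B C)
  obtain ⟨c, hc⟩ := Ideal.exists_pow_inf_eq_pow_smul KC P
  refine ⟨T + c, fun g hg hα hge => ?_⟩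
  -- closedness
  let gL : L := ⟨g, hg⟩
  have hmem : gL ∈ KC ^ (T + c) • (⊤ : Submodule C L) := by
    let Q := L ⧸ (KC ^ (T + c) • (⊤ : Submodule C L))
    let Ĵ : Ideal C := J.map (algebraMap B C)
    have hq : (Submodule.Quotient.mk gL : Q) ∈ (⨅ n : ℕ, Ĵ ^ n • (⊤ : Submodule C Q)) := by
      rw [Submodule.mem_iInf]
      intro n
      have hn : g n ∈ K ^ (T + c) • (⊤ : Submodule B (M n)) := hge n
      have hlift : ∃ y : L, y ∈ KC ^ (T + c) • (⊤ : Submodule C L) ∧ y.1 n = g n := by
        refine Submodule.smul_induction_on hn (fun a ha x _ => ?_) (fun a b ha hb => ?_)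
        · obtain ⟨y, hy⟩ := (hspec n).1 x
          refine ⟨algebraMap B C a • y, Submodule.smul_mem_smul ?_ trivial, ?_⟩
          · rw [← Ideal.map_pow]; exact Ideal.mem_map_of_mem _ ha
          · show algebraMap B C a • y.1 n = a • x
            rw [IsScalarTower.algebraMap_smul C a, show y.1 n = x from hy]
        · obtain ⟨y, hy, hy'⟩ := ha
          obtain ⟨z, hz, hz'⟩ := hb
          exact ⟨y + z, add_mem hy hz, congrArg₂ (· + ·) hy' hz'⟩
      obtain ⟨y, hy, hyn⟩ := hlift
      have h0 := (hspec n).2 (gL - y) (sub_eq_zero.2 hyn.symm)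
      have h1 : (Submodule.Quotient.mk gL : Q) = Submodule.Quotient.mk (gL - y) := by
        rw [Submodule.Quotient.eq, sub_sub_cancel]
        exact hy
      rw [h1]
      have h2 := Submodule.mem_map_of_mem (f := Submodule.mkQ (KC ^ (T + c) • (⊤ : Submodule C L))) h0
      rw [Submodule.map_smul''] at h2
      exact Submodule.smul_mono (Ideal.pow_le_pow_right (Nat.le_succ n)) le_top h2
    rw [Ideal.iInf_pow_smul_eq_bot_of_le_jacobson _ (IsAdicComplete.le_jacobson_bot _), Submodule.mem_bot,
      Submodule.Quotient.mk_eq_zero] at hq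
    exact hq
  have h3 : gL ∈ KC ^ (T + c) • (⊤ : Submodule C L) ⊓ P := ⟨hmem, hα⟩
  rw [hc (T + c) (Nat.le_add_left c T), Nat.add_sub_cancel] at h3
  have h4 : ∀ a ∈ KC ^ T, ∀ y ∈ P, a • y = 0 := by
    intro a ha y hy
    rw [← Ideal.map_pow] at ha
    induction ha using Submodule.span_induction with
    | mem a ha =>
      obtain ⟨b, hb, rfl⟩ := ha
      refine Subtype.ext (funext fun n => ?_)
      show algebraMap B C b • y.1 n = 0
      rw [IsScalarTower.algebraMap_smul C b]
      exact congrFun (hT y.1 y.2 hy b hb) n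
    | zero => exact zero_smul _ _
    | add a b _ _ h h' => rw [add_smul, h, h', add_zero]
    | smul a b _ h => rw [smul_eq_mul, mul_smul, h, smul_zero]
  have h5 : gL = 0 := by
    refine Submodule.smul_induction_on h3 (fun a ha y hy => h4 a ha y hy.2) (fun a b h h' => ?_)
    rw [h, h', add_zero]
  exact congrArg Subtype.val h5

variable [∀ n, Module.Finite B (M' n)] (hf' : ∀ n, Function.Surjective (f' n))
  (hker' : ∀ n, ∀ x, f' n x = 0 → x ∈ J ^ (n + 1) • (⊤ : Submodule B (M' (n + 1))))
  (hαf : ∀ n x, α n (f n x) = f' n (α (n + 1) x))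

include hk hk' hf hker hf' hker' hαf in
/-- A levelwise surjection injective on families is injective. -/
theorem injective_of_lim (hsurj : ∀ n, Function.Surjective (α n))
    (hinj : ∀ g ∈ lim M f, (∀ n, α n (g n) = 0) → g = 0) (n : ℕ) : Function.Injective (α n) := by
  letI := fun n => cmod J M hk n
  letI := fun n => cmod J M' hk' n
  haveI := fun n => cmod_tower J M hk n
  haveI := fun n => cmod_tower J M' hk' n
  haveI := isNoetherian_completion J
  haveI := isComplete_completion J
  obtain ⟨-, hspec⟩ := climit_spec J M f hk hf hker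
  obtain ⟨hfin', hspec'⟩ := climit_spec J M' f' hk' hf' hker'
  let C := AdicCompletion J B
  let L := climit J M f hk
  let L' := climit J M' f' hk'
  let Ĵ : Ideal C := J.map (algebraMap B C)
  let αL : L →ₗ[C] L' :=
    { toFun := fun g => ⟨fun n => α n (g.1 n), fun n => by
        show f' n (α (n + 1) (g.1 (n + 1))) = α n (g.1 n)
        rw [← hαf, g.2 n]⟩
      map_add' := fun g g' => Subtype.ext (funext fun n => map_add (α n) _ _)
      map_smul' := fun c g => Subtype.ext (funext fun n => cmod_map J M hk M' hk' n (α n) c _) }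
  haveI : Module.Finite C L' := hfin'
  have htop : LinearMap.range αL = ⊤ := by
    refine top_le_iff.1 (Submodule.le_of_le_smul_of_le_jacobson_bot (I := Ĵ) Module.Finite.fg_top
      (IsAdicComplete.le_jacobson_bot _) fun y _ => ?_)
    obtain ⟨x, hx⟩ := hsurj 0 (y.1 0)
    obtain ⟨g, hg⟩ := (hspec 0).1 x
    have h0 := (hspec' 0).2 (y - αL g) (sub_eq_zero.2 (hx.symm.trans (congrArg (α 0) hg.symm)))
    rw [zero_add, pow_one] at h0
    exact Submodule.mem_sup.2 ⟨αL g, ⟨g, rfl⟩, _, h0, add_sub_cancel _ _⟩
  refine (injective_iff_map_eq_zero _).2 fun x hx => ?_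
  obtain ⟨g, rfl⟩ := (hspec n).1 x
  have h1 := (hspec' n).2 (αL g) hx
  rw [← htop, ← Submodule.map_top, ← Submodule.map_smul''] at h1
  obtain ⟨z, hz, hze⟩ := h1
  have h2 := hinj (g - z).1 (g - z).2 fun m => by
    have := congrFun (congrArg Subtype.val hze) m
    show α m (g.1 m - z.1 m) = 0
    rw [map_sub, sub_eq_zero]
    exact this.symm
  have h3 : g.1 n = z.1 n := sub_eq_zero.1 (congrFun h2 n)
  show g.1 n = 0
  rw [h3]
  clear hze h2 h3 hx
  refine Submodule.smul_induction_on hz (fun c hc y _ => ?_) (fun a b ha hb => ?_)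
  · show c • y.1 n = 0
    rw [← Ideal.map_pow] at hc
    induction hc using Submodule.span_induction with
    | mem a ha =>
      obtain ⟨b, hb, rfl⟩ := ha
      rw [IsScalarTower.algebraMap_smul C b]
      exact hk n b hb _
    | zero => exact zero_smul _ _
    | add a b _ _ h h' => rw [add_smul, h, h', add_zero]
    | smul a b _ h => rw [smul_eq_mul, mul_smul, h, smul_zero]
  · show a.1 n + b.1 n = 0
    rw [ha, hb, add_zero]

end Groth.L16.Exist
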