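import Groth.Agent.L16.Exist.AlgComplete
import Groth.Agent.L18.SpecLine
import Groth.Agent.L19.ConormalAffine
import Groth.Agent.L16.QCohSections

/-!
Algebraisation of a system of invertible modules on the thickenings of a proper scheme over a complete ring.
-/

set_option autoImplicit false
set_option linter.style.haveILetI false
set_option backward.isDefEq.respectTransparency false
set_option backward.isDefEq.respectTransparency.types false

universe u

open CategoryTheory CategoryTheory.Limits AlgebraicGeometry TopologicalSpace Opposite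

noncomputable section

namespace Groth.L16.Exist.Adic

open Formal (smulMod modPow modPowπ)
open Groth.L18.Frame (rs ro rs_rs rs_smul rs_self ro_ro ro_mul IsFrame)
open AffineBC (scal)

/-- Sections over a basic open inside the locus where `u` is a unit, from a generator up to `u`. -/
theorem exists_smul_of_gen {X : Scheme.{u}} {M : X.Modules} [Coh.IsQCoh M] {V : X.Opens} (hV : IsAffineOpen V)
    (h : Γ(X, V)) {m : Γ(M, V)} {v : Γ(X, V)} (hv : ∀ y : Γ(M, V), ∃ c : Γ(X, V), v • y = c • m)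
    (hle : X.basicOpen h ≤ X.basicOpen v) (z : Γ(M, X.basicOpen h)) :
    ∃ a : Γ(X, X.basicOpen h), a • rs M (X.basicOpen_le h) m = z := by
  obtain ⟨n, y, hy⟩ := QCohSect.exists_pow_smul_eq_res hV M h z
  obtain ⟨c, hc⟩ := hv y
  have hvu : IsUnit (ro (X.basicOpen_le h) v) := by
    have h1 : IsUnit (ro (X.basicOpen_le v) v) := RingedSpace.isUnit_res_basicOpen X.toRingedSpace v
    rw [← ro_ro (X.basicOpen_le v) hle]
    exact h1.map (X.presheaf.map (homOfLE hle).op).hom
  have hu := hvu.mul (HomSh.isUnit_ro_pow h n)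
  refine ⟨↑hu.unit⁻¹ * ro (X.basicOpen_le h) c, ?_⟩
  rw [mul_smul, ← rs_smul, ← hc, rs_smul, hy, ← mul_smul, ← mul_smul, mul_assoc, IsUnit.val_inv_mul, one_smul]

variable {A : Type u} [CommRing A] [IsNoetherianRing A] {I : Ideal A} [IsAdicComplete I A] {X : Scheme.{u}}
  [X.Over (Spec (CommRingCat.of A))] [IsProper (X ↘ Spec (CommRingCat.of A))]
  {Xs : ℕ → Scheme.{u}} [∀ k, (Xs k).Over (Spec (CommRingCat.of A))]
  {p : (k : ℕ) → (Xs k ⟶ Spec (CommRingCat.of (A ⧸ I ^ (k + 1))))} {i : (k : ℕ) → (Xs k ⟶ Xs (k + 1))}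

omit [IsNoetherianRing A] [IsAdicComplete I A] [IsProper (X ↘ Spec (CommRingCat.of A))] in
theorem isUnit_germ_one_sub {U : X.Opens} {x : X} (hxU : x ∈ U)
    (hx : (X ↘ Spec (CommRingCat.of A)) x ∈ PrimeSpectrum.zeroLocus (I : Set A)) {r : Γ(X, U)}
    (hr : r ∈ I.map (scal A X U)) : IsUnit (X.presheaf.germ U x hxU (1 - r)) := by
  have hle' : I.map (scal A X U) ≤
      (IsLocalRing.maximalIdeal (X.presheaf.stalk x)).comap (X.presheaf.germ U x hxU).hom := by
    rw [Ideal.map_le_iff_le_comap]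
    intro a ha hunit
    have h3 : x ∈ X.basicOpen (scal A X U a) := (Scheme.mem_basicOpen _ _ _ hxU).2 hunit
    rw [scal, RingHom.comp_apply, RingHom.comp_apply] at h3
    erw [Scheme.basicOpen_res, Scheme.Hom.appTop] at h3
    have h4 := h3.2
    erw [← Scheme.preimage_basicOpen] at h4
    change (X ↘ Spec (CommRingCat.of A)) x ∈
      (Spec (CommRingCat.of A)).basicOpen ((Scheme.ΓSpecIso (CommRingCat.of A)).inv a) at h4
    rw [basicOpen_eq_of_affine'] at h4
    erw [Iso.inv_hom_id_apply] at h4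
    exact h4 (hx ha)
  rw [map_sub, map_one]
  exact (IsLocalRing.isUnit_or_isUnit_of_add_one (sub_add_cancel _ _)).resolve_right (hle' hr)

/-- A system of invertible modules on the thickenings of a proper scheme over a complete ring is algebraic. -/
theorem exists_line_algebraization (S : IsSys I Xs p i) (e : (k : ℕ) → (Xs k ⟶ X))
    (hcl : ∀ k, IsClosedImmersion (e k)) (he : ∀ k, e k = i k ≫ e (k + 1))
    (hcart : ∀ k, IsPullback (e k) (p k) (X ↘ Spec (CommRingCat.of A)) (CohB1.specQuot I k))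
    (L : (k : ℕ) → (Xs k).Modules) (hL : ∀ k, PicF.IsInvertible (L k))
    (φ : ∀ k, (Scheme.Modules.pullback (i k)).obj (L (k + 1)) ≅ L k) :
    ∃ M : X.Modules, PicF.IsInvertible M ∧ ∀ k, Nonempty ((Scheme.Modules.pullback (e k)).obj M ≅ L k) := by
  classical
  haveI : IsLocallyNoetherian X := LocallyOfFiniteType.isLocallyNoetherian (X ↘ Spec (CommRingCat.of A))
  haveI : CompactSpace X := QuasiCompact.compactSpace_of_compactSpace (X ↘ Spec (CommRingCat.of A))
  haveI : AlgebraicGeometry.IsNoetherian X := {}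
  haveI : IsLocallyNoetherian (Xs 0) := by
    haveI := hcl 0
    exact LocallyOfFiniteType.isLocallyNoetherian (e 0)
  haveI := isLocallyNoetherian S
  have hbase : ∀ k, e k ≫ (X ↘ Spec (CommRingCat.of A)) = Xs k ↘ Spec (CommRingCat.of A) := fun k =>
    (hcart k).w.trans (S.base k)
  have hLc : ∀ k, Coh.IsCoh (L k) := fun k => ProperFinite.isCoh_of_isInvertible (hL k)
  let G := pushSys e he L φ
  have hG : Formal.IsCohFormal I G := isCohFormal_pushSys e he L φ S hcl hbase hLc
  obtain ⟨M, hM, ⟨ε⟩⟩ := algebraisable I X G hG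
  haveI : Coh.IsQCoh M := hM.1
  refine ⟨M, ?_, fun k => ?_⟩
  swap
  · haveI := hcl k
    obtain ⟨q, -⟩ := exists_modPow_iso_unit (hcart k) (S.base k) hM
    haveI := Groth.L17.ClosedPush.isIso_counit (e k)
    let adj := Scheme.Modules.pullbackPushforwardAdjunction (e k)
    exact ⟨((asIso adj.counit).app ((Scheme.Modules.pullback (e k)).obj M)).symm ≪≫
      (Scheme.Modules.pullback (e k)).mapIso (q.symm ≪≫ ε.app (op k)) ≪≫ (asIso adj.counit).app (L k)⟩
  let w : ∀ k, M ⟶ (Coh.push (e k)).obj (L k) := fun k => modPowπ I (k + 1) M ≫ ε.hom.app (op k)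
  have hwsurj : ∀ k (V : X.Opens), IsAffineOpen V → Function.Surjective ((w k).app V) := fun k V hV t => by
    obtain ⟨t', rfl⟩ := (ConcreteCategory.bijective_of_isIso ((ε.app (op k)).hom.app V)).2 t
    obtain ⟨y, rfl⟩ := ((HomSh.modPow_spec I hM (k + 1)).2 V hV).1 t'
    exact ⟨y, rfl⟩
  have hwker : ∀ k (V : X.Opens), IsAffineOpen V → ∀ y, (w k).app V y = 0 →
      y ∈ (I.map (scal A X V)) ^ (k + 1) • (⊤ : Submodule Γ(X, V) Γ(M, V)) := fun k V hV y hy => by
    refine (((HomSh.modPow_spec I hM (k + 1)).2 V hV).2 y).1 ?_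
    exact (ConcreteCategory.bijective_of_isIso ((ε.app (op k)).hom.app V)).1 (hy.trans (map_zero _).symm)
  have loc : ∀ x : X, (X ↘ Spec (CommRingCat.of A)) x ∈ PrimeSpectrum.zeroLocus (I : Set A) →
      ∃ (W : X.Opens) (m : Γ(M, W)), x ∈ W ∧ IsFrame M W m := by
    intro x hx
    haveI := hcl 0
    have hx0 : x ∈ Set.range (e 0) := by
      have hx' : x ∈ Set.range (pullback.fst (X ↘ Spec (CommRingCat.of A)) (CohB1.specQuot I 0)) := by
        rw [Scheme.Pullback.range_fst, Set.mem_preimage,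
          show Set.range (CohB1.specQuot I 0) = Set.range (PrimeSpectrum.comap (Ideal.Quotient.mk (I ^ (0 + 1)))) from rfl,
          range_comap_of_surjective _ _ Ideal.Quotient.mk_surjective, Ideal.mk_ker,
          PrimeSpectrum.zeroLocus_pow I (Nat.succ_ne_zero 0)]
        exact hx
      obtain ⟨y, hy⟩ := hx'
      refine ⟨(hcart 0).isoPullback.inv y, ?_⟩
      rw [← hy, ← (hcart 0).isoPullback_inv_fst]
      exact (Scheme.Hom.comp_apply _ _ _).symm
    obtain ⟨z, rfl⟩ := hx0
    obtain ⟨W₀, e₀, hzW₀, he₀⟩ := Groth.L18.Frame.exists_frame (hL 0) z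
    obtain ⟨O, hO, hOW⟩ := (e 0).isClosedEmbedding.isInducing.isOpen_iff.1 W₀.2
    have hzO : e 0 z ∈ O := by
      have : z ∈ (e 0).base ⁻¹' O := by rw [hOW]; exact hzW₀
      exact this
    obtain ⟨_, ⟨V, hV, rfl⟩, hxV, hVO⟩ := X.isBasis_affineOpens.exists_subset_of_mem_open hzO hO
    have hVW : e 0 ⁻¹ᵁ V ≤ W₀ := fun y hy => by
      have : y ∈ (e 0).base ⁻¹' O := hVO hy
      show y ∈ W₀.carrier
      rw [← hOW]
      exact this
    haveI : Module.Finite Γ(X, V) Γ(M, V) := Groth.L20.ModStalk.finite_sections M hM hV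
    obtain ⟨m, hm⟩ := hwsurj 0 V hV (show Γ((Coh.push (e 0)).obj (L 0), V) from rs (L 0) hVW e₀)
    let IV := I.map (scal A X V)
    -- `m` generates near `x`
    let N : Submodule Γ(X, V) Γ(M, V) := Submodule.span Γ(X, V) {m}
    have hgen : (⊤ : Submodule Γ(X, V) (Γ(M, V) ⧸ N)) ≤ IV • ⊤ := by
      rintro q -
      obtain ⟨y, rfl⟩ := N.mkQ_surjective q
      obtain ⟨b₀, hb₀⟩ := he₀.exists_coeff hVW (show Γ(L 0, e 0 ⁻¹ᵁ V) from (w 0).app V y)
      obtain ⟨b, rfl⟩ := (e 0).app_surjective V hV b₀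
      have h0 : (w 0).app V (y - b • m) = 0 := by
        rw [map_sub, Scheme.Modules.Hom.app_smul, hm, sub_eq_zero]
        exact hb₀.symm
      have h1 := hwker 0 V hV _ h0
      rw [zero_add, pow_one] at h1
      have h2 := Submodule.mem_map_of_mem (f := N.mkQ) h1
      rw [map_sub, Submodule.map_smul''] at h2
      rw [show N.mkQ (b • m) = 0 from (Submodule.Quotient.mk_eq_zero N).2
        (N.smul_mem b (Submodule.subset_span rfl)), sub_zero] at h2
      exact Submodule.smul_mono le_rfl le_top h2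
    obtain ⟨r, hr, hrm⟩ :=
      Submodule.exists_mem_and_smul_eq_self_of_fg_of_le_smul IV ⊤ (Module.Finite.fg_top) hgen
    let v := 1 - r
    have hv : ∀ y : Γ(M, V), ∃ c : Γ(X, V), v • y = c • m := fun y => by
      have h1 : N.mkQ (v • y) = 0 := by rw [map_smul, sub_smul, one_smul, hrm _ trivial, sub_self]
      obtain ⟨c, hc⟩ := Submodule.mem_span_singleton.1 ((Submodule.Quotient.mk_eq_zero N).1 h1)
      exact ⟨c, hc.symm⟩
    let V₁ := X.basicOpen v
    have hV₁ : IsAffineOpen V₁ := hV.basicOpen v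
    have hxV₁ : e 0 z ∈ V₁ := by
      rw [Scheme.mem_basicOpen _ _ _ hxV]
      exact isUnit_germ_one_sub hxV hx hr
    -- annihilators of `m` vanish near `x`
    haveI : IsNoetherianRing Γ(X, V) := IsLocallyNoetherian.component_noetherian ⟨V, hV⟩
    haveI : IsNoetherianRing Γ(X, V₁) := IsLocallyNoetherian.component_noetherian ⟨V₁, hV₁⟩
    let 𝔞 : Ideal Γ(X, V) := LinearMap.ker (LinearMap.toSpanSingleton Γ(X, V) Γ(M, V) m)
    obtain ⟨s, hs⟩ := IsNoetherian.noetherian 𝔞
    have hbad : ∀ b ∈ 𝔞, ∀ k, ro (X.basicOpen_le v) b ∈ (I.map (scal A X V₁)) ^ (k + 1) := by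
      intro b hb k
      haveI := hcl k
      rw [← Ideal.map_pow]
      refine ker_ideal_le (hcart k) ⟨V₁, hV₁⟩ ?_
      rw [Scheme.Hom.ker_apply, RingHom.mem_ker]
      let T := e k ⁻¹ᵁ V₁
      have hT : IsAffineOpen T := hV₁.preimage (e k)
      let d := (e k).app V₁ (ro (X.basicOpen_le v) b)
      let σ : Γ(L k, T) := (w k).app V₁ (rs M (X.basicOpen_le v) m)
      have hdσ : d • σ = 0 := by
        show ro (X.basicOpen_le v) b • (show Γ((Coh.push (e k)).obj (L k), V₁) from σ) = 0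
        show ro (X.basicOpen_le v) b • (w k).app V₁ (rs M (X.basicOpen_le v) m) = 0
        rw [← Scheme.Modules.Hom.app_smul, ← rs_smul, show b • m = 0 from hb]
        exact (congrArg ((w k).app V₁) (map_zero _)).trans (map_zero _)
      have hσ : ∀ t : Γ(L k, T), ∃ c : Γ(Xs k, T), c • σ = t := fun t => by
        obtain ⟨y, hy⟩ := hwsurj k V₁ hV₁ (show Γ((Coh.push (e k)).obj (L k), V₁) from t)
        obtain ⟨a, ha⟩ := exists_smul_of_gen hV v hv le_rfl y
        refine ⟨(e k).app V₁ a, ?_⟩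
        show a • (w k).app V₁ (rs M (X.basicOpen_le v) m) = t
        rw [← Scheme.Modules.Hom.app_smul, ha, hy]
      haveI : Coh.IsQCoh (L k) := (hLc k).1
      show d = 0
      have hloc : ∀ y : T, ∃ (h : Γ(Xs k, T)), y.1 ∈ (Xs k).basicOpen h ∧
          ro ((Xs k).basicOpen_le h) d = 0 := by
        intro y
        obtain ⟨W', e', hyW', he'⟩ := Groth.L18.Frame.exists_frame (hL k) y.1
        obtain ⟨h, hhW, hyh⟩ := hT.exists_basicOpen_le ⟨y.1, show y.1 ∈ W' from hyW'⟩ y.2
        refine ⟨h, hyh, ?_⟩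
        obtain ⟨a, ha⟩ := exists_smul_of_gen hT h (v := 1) (fun t => ⟨(hσ t).choose, by
          rw [one_smul, (hσ t).choose_spec]⟩)
          (by rw [(Xs k).basicOpen_of_isUnit isUnit_one]; exact (Xs k).basicOpen_le h) (rs (L k) hhW e')
        refine he'.inj hhW ?_
        rw [zero_smul, ← ha, smul_smul, mul_comm, mul_smul, ← rs_smul, hdσ]
        exact (congrArg (a • ·) (map_zero _)).trans (smul_zero a)
      choose h hyh hh using hloc
      refine TopCat.Sheaf.eq_of_locally_eq' (Xs k).sheaf (fun y : T => (Xs k).basicOpen (h y)) T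
        (fun y => homOfLE ((Xs k).basicOpen_le _))
        (fun y hy => Opens.mem_iSup.2 ⟨⟨y, hy⟩, hyh ⟨y, hy⟩⟩) _ _ fun y => ?_
      exact (hh y).trans (map_zero _).symm
    have hkr : ∀ b ∈ 𝔞, ∃ t ∈ I.map (scal A X V₁), (1 - t) * ro (X.basicOpen_le v) b = 0 := fun b hb => by
      obtain ⟨t, ht⟩ := (Ideal.mem_iInf_smul_pow_eq_bot_iff (I.map (scal A X V₁)) (ro (X.basicOpen_le v) b)).1
        (Submodule.mem_iInf _ |>.2 fun n => by
          cases n with
          | zero => simp
          | succ n => rw [smul_eq_mul, Ideal.mul_top]; exact hbad b hb n)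
      exact ⟨t, t.2, by rw [sub_mul, one_mul, ← smul_eq_mul (t : Γ(X, V₁)), ht, sub_self]⟩
    choose t htI ht using hkr
    let u : Γ(X, V₁) := ∏ b ∈ s.attach, (1 - t b.1 (hs ▸ Submodule.subset_span b.2))
    let V₂ := X.basicOpen u
    have hxV₂ : e 0 z ∈ V₂ := by
      rw [Scheme.mem_basicOpen _ _ _ hxV₁, map_prod]
      exact IsUnit.prod_iff.2 fun b _ => isUnit_germ_one_sub hxV₁ hx (htI _ _)
    have hle₂ : V₂ ≤ V := (X.basicOpen_le u).trans (X.basicOpen_le v)
    have hann : ∀ b ∈ 𝔞, ro hle₂ b = 0 := by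
      intro b hb
      rw [← hs] at hb
      induction hb using Submodule.span_induction with
      | mem b hb =>
        have hmem : b ∈ 𝔞 := hs ▸ Submodule.subset_span hb
        have h1 : u * ro (X.basicOpen_le v) b = 0 := by
          rw [show u = (1 - t b hmem) * ∏ c ∈ s.attach.erase ⟨b, hb⟩, (1 - t c.1 (hs ▸ Submodule.subset_span c.2))
            from (Finset.mul_prod_erase s.attach _ (Finset.mem_attach _ ⟨b, hb⟩)).symm, mul_right_comm, ht, zero_mul]
        have h2 := congrArg (ro (X.basicOpen_le u)) h1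
        rw [ro_mul, ro_ro, show ro (X.basicOpen_le u) (0 : Γ(X, V₁)) = 0 from map_zero _] at h2
        have hu : IsUnit (ro (X.basicOpen_le u) u) := RingedSpace.isUnit_res_basicOpen X.toRingedSpace u
        exact hu.mul_right_eq_zero.1 h2
      | zero => exact map_zero _
      | add y y' _ _ h h' =>
        show (X.presheaf.map (homOfLE hle₂).op) (y + y') = 0
        exact (map_add _ y y').trans ((congrArg₂ (· + ·) h h').trans (add_zero _))
      | smul d y _ h => rw [smul_eq_mul, ro_mul, h, mul_zero]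
    refine ⟨V₂, rs M hle₂ m, hxV₂, ?_⟩
    let B : { U : X.Opens // U ≤ V₂ → ∃ h : Γ(X, V), U = X.basicOpen h } → X.Opens := fun U => U.1
    refine Groth.L18.SpecLine.isFrame_of_basic B ?_ fun U hU => ?_
    · rw [Opens.isBasis_iff_nbhd]
      intro O y hy
      by_cases hy₂ : y ∈ V₂
      · obtain ⟨h, hhO, hyh⟩ := hV.exists_basicOpen_le (V := O) ⟨y, hy⟩ (hle₂ hy₂)
        exact ⟨_, ⟨⟨X.basicOpen h, fun _ => ⟨h, rfl⟩⟩, rfl⟩, hyh, hhO⟩
      · exact ⟨O, ⟨⟨O, fun hle => absurd (hle hy) hy₂⟩, rfl⟩, hy, le_rfl⟩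
    obtain ⟨U, hU'⟩ := U
    obtain ⟨h, rfl⟩ := hU' hU
    show Function.Bijective fun a : Γ(X, X.basicOpen h) => a • rs M hU (rs M hle₂ m)
    simp only [rs_rs]
    refine ⟨fun a a' haa => sub_eq_zero.1 ?_, fun y => exists_smul_of_gen hV h hv
      (hU.trans (X.basicOpen_le u)) y⟩
    have h0 : (a - a') • rs M (X.basicOpen_le h) m = 0 := by rw [sub_smul, sub_eq_zero]; exact haa
    generalize a - a' = d at h0 ⊢
    haveI := Groth.L19.Conormal.isQCoh_structureModule X
    obtain ⟨n, c, hc⟩ := QCohSect.exists_pow_smul_eq_res hV (Coh.structureModule X) h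
      (show Γ(Coh.structureModule X, X.basicOpen h) from d)
    let c' : Γ(X, V) := c
    have hc' : ro (X.basicOpen_le h) c' = ro (X.basicOpen_le h) (h ^ n) * d := hc
    obtain ⟨n', hn'⟩ := QCohSect.exists_pow_smul_eq_zero hV M h (c' • m) (by
      rw [rs_smul, hc', mul_smul, h0, smul_zero])
    have h1 : ro hle₂ (h ^ n' * c') = 0 := hann _ (by
      show (h ^ n' * c') • m = 0
      rw [mul_smul, hn'])
    have h2 := congrArg (ro hU) h1
    rw [ro_ro, ro_mul, hc', show ro hU (0 : Γ(X, V₂)) = 0 from map_zero _] at h2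
    exact (HomSh.isUnit_ro_pow h n).mul_right_eq_zero.1 ((HomSh.isUnit_ro_pow h n').mul_right_eq_zero.1 h2)
  refine Groth.L18.SpecLine.isInvertible_of_frames fun x => ?_
  let U : X.Opens := ⨆ T : { T : X.Opens // ∃ m : Γ(M, T), IsFrame M T m }, T.1
  have hU : U = ⊤ := eq_top_of_special_le I _ (X ↘ Spec (CommRingCat.of A)).isClosedMap U fun y hy => by
    obtain ⟨W, m, hyW, hm⟩ := loc y hy
    exact Opens.mem_iSup.2 ⟨⟨W, m, hm⟩, hyW⟩
  obtain ⟨⟨W, m, hm⟩, hxW⟩ := Opens.mem_iSup.1 (show x ∈ U from hU ▸ trivial)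
  exact ⟨W, m, hxW, hm⟩

end Groth.L16.Exist.Adic
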