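import Groth.Agent.L16.Exist.AlgClosed
import Groth.Agent.L16.Exist.Rigid
import Mathlib.AlgebraicGeometry.ZariskisMainTheorem

/-!
Isomorphisms of proper schemes over a complete ring are detected on the thickenings.
-/

set_option autoImplicit false
set_option linter.style.haveILetI false
set_option backward.isDefEq.respectTransparency false
set_option backward.isDefEq.respectTransparency.types false

universe u

open CategoryTheory CategoryTheory.Limits AlgebraicGeometry TopologicalSpace Opposite

noncomputable section

namespace Groth.L16.Exist.Adic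

open Formal (smulMod modPow modPowπ)
open AffineBC (scal)

theorem range_of_cart {A : Type u} [CommRing A] {I : Ideal A} {n : ℕ} {T X : Scheme.{u}} {t : T ⟶ X}
    {p : T ⟶ Spec (CommRingCat.of (A ⧸ I ^ (n + 1)))} {f : X ⟶ Spec (CommRingCat.of A)}
    (h : IsPullback t p f (CohB1.specQuot I n)) :
    Set.range t = f ⁻¹' PrimeSpectrum.zeroLocus (I : Set A) := by
  rw [← h.isoPullback_hom_fst, Scheme.Hom.comp_base, TopCat.coe_comp, Set.range_comp,
    Set.range_eq_univ.mpr h.isoPullback.hom.surjective, Set.image_univ, Scheme.Pullback.range_fst,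
    show Set.range (CohB1.specQuot I n) = Set.range (PrimeSpectrum.comap (Ideal.Quotient.mk (I ^ (n + 1)))) from rfl,
    range_comap_of_surjective _ _ Ideal.Quotient.mk_surjective, Ideal.mk_ker,
    PrimeSpectrum.zeroLocus_pow I (Nat.succ_ne_zero n)]

/-- A morphism of proper schemes over a complete ring which is an isomorphism on every thickening is an
isomorphism. -/
theorem isIso_of_thickenings {A : Type u} [CommRing A] [IsNoetherianRing A] (I : Ideal A) [IsAdicComplete I A]
    {W X : Scheme.{u}} [W.Over (Spec (CommRingCat.of A))] [X.Over (Spec (CommRingCat.of A))]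
    [IsProper (W ↘ Spec (CommRingCat.of A))] [IsProper (X ↘ Spec (CommRingCat.of A))]
    (π : W ⟶ X) (hπ : π ≫ (X ↘ Spec (CommRingCat.of A)) = W ↘ Spec (CommRingCat.of A)) {Ts : ℕ → Scheme.{u}}
    (p : (n : ℕ) → (Ts n ⟶ Spec (CommRingCat.of (A ⧸ I ^ (n + 1))))) (e : (n : ℕ) → (Ts n ⟶ W))
    (t : (n : ℕ) → (Ts n ⟶ X)) (he : ∀ n, IsPullback (e n) (p n) (W ↘ Spec (CommRingCat.of A)) (CohB1.specQuot I n))
    (ht : ∀ n, IsPullback (t n) (p n) (X ↘ Spec (CommRingCat.of A)) (CohB1.specQuot I n))
    (het : ∀ n, e n ≫ π = t n) : IsIso π := by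
  haveI : IsLocallyNoetherian X := LocallyOfFiniteType.isLocallyNoetherian (X ↘ Spec (CommRingCat.of A))
  haveI : CompactSpace X := QuasiCompact.compactSpace_of_compactSpace (X ↘ Spec (CommRingCat.of A))
  haveI : AlgebraicGeometry.IsNoetherian X := {}
  haveI : IsProper (π ≫ (X ↘ Spec (CommRingCat.of A))) := by rw [hπ]; infer_instance
  haveI : IsProper π := IsProper.of_comp π (X ↘ Spec (CommRingCat.of A))
  have hce : ∀ n, IsClosedImmersion (e n) := fun n =>
    haveI := isClosedImmersion_specQuot I n
    MorphismProperty.of_isPullback (P := @IsClosedImmersion) (he n).flip inferInstance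
  have hct : ∀ n, IsClosedImmersion (t n) := fun n =>
    haveI := isClosedImmersion_specQuot I n
    MorphismProperty.of_isPullback (P := @IsClosedImmersion) (ht n).flip inferInstance
  -- quasi-finiteness
  haveI : LocallyQuasiFinite π := by
    rw [← Scheme.Hom.quasiFiniteLocus_eq_top_iff]
    refine eq_top_of_special_le I (W ↘ Spec (CommRingCat.of A)) (W ↘ Spec (CommRingCat.of A)).isClosedMap _
      fun w hw => ?_
    show π.QuasiFiniteAt w
    rw [Scheme.Hom.quasiFiniteAt_iff_isOpen_singleton_asFiber]
    have hsub : (π ⁻¹' {π w}).Subsingleton := by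
      have key : ∀ v, π v = π w → ∃ z, e 0 z = v ∧ t 0 z = π w := fun v hv => by
        obtain ⟨z, hz⟩ : v ∈ Set.range (e 0) := by
          rw [range_of_cart (he 0), Set.mem_preimage]
          rw [← hπ, Scheme.Hom.comp_apply, hv, ← Scheme.Hom.comp_apply, hπ]
          exact hw
        exact ⟨z, hz, by rw [← het 0, Scheme.Hom.comp_apply, hz, hv]⟩
      intro a ha b hb
      obtain ⟨z, hz, hz'⟩ := key a ha
      obtain ⟨z', hy, hy'⟩ := key b hb
      haveI := hct 0
      rw [← hz, ← hy, (t 0).isClosedEmbedding.injective (hz'.trans hy'.symm)]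
    haveI : Subsingleton ↥(π ⁻¹' {π w}) := hsub.coe_sort
    haveI : Subsingleton ↥(π.fiber (π w)) :=
      (π.fiberHomeo (π w)).toEquiv.injective.subsingleton (β := π ⁻¹' {π w})
    exact isOpen_discrete _
  haveI : IsFinite π := IsFinite.of_isProper_of_locallyQuasiFinite π
  -- the comorphism
  let M := (Coh.push π).obj (Coh.structureModule W)
  let u : Coh.structureModule X ⟶ M := ClSub.unitToPush π
  haveI : IsLocallyNoetherian W := LocallyOfFiniteType.isLocallyNoetherian π
  have hOW : Coh.IsCoh (Coh.structureModule W) :=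
    ProperFinite.isCoh_of_isInvertible (Groth.L18.Ample.isInvertible_structureModule _)
  have hOX : Coh.IsCoh (Coh.structureModule X) :=
    ProperFinite.isCoh_of_isInvertible (Groth.L18.Ample.isInvertible_structureModule _)
  have hM : Coh.IsCoh M := isCoh_pushforward π hOW
  haveI : Coh.IsQCoh M := hM.1
  have hscal : ∀ (U : X.Opens) (a : A), π.app U (scal A X U a) = scal A W (π ⁻¹ᵁ U) a := fun U a => by
    show π.app U (X.presheaf.map (homOfLE le_top).op
      ((X ↘ Spec (CommRingCat.of A)).appTop ((Scheme.ΓSpecIso (CommRingCat.of A)).inv a))) = _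
    refine (ConcreteCategory.congr_hom (π.naturality (homOfLE (le_top : U ≤ ⊤)).op) _).trans ?_
    show _ = W.presheaf.map (homOfLE le_top).op
      ((W ↘ Spec (CommRingCat.of A)).appTop ((Scheme.ΓSpecIso (CommRingCat.of A)).inv a))
    rw [← hπ]
    rfl
  haveI : Epi u := by
    refine Preadditive.epi_of_cokernel_zero ?_
    have hC := (CohKernel.isCoh_kernel_cokernel hOX hM u).2
    haveI : Coh.IsQCoh (cokernel u) := hC.1
    haveI : Epi (cokernel.π u) := coequalizer.π_epi
    have h1 : modPowπ I 1 (cokernel u) = 0 := by
      refine AffineBC.hom_ext_affine _ _ fun U hU c => ?_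
      obtain ⟨m, rfl⟩ := AffineBC.surjective_app_of_epi (cokernel.π u) hU c
      haveI := hct 0
      obtain ⟨a, ha⟩ := (t 0).app_surjective U hU (show Γ(Ts 0, t 0 ⁻¹ᵁ U) from
        (Ts 0).presheaf.map (eqToHom (by rw [← het 0]; rfl)).op ((e 0).app (π ⁻¹ᵁ U) (show Γ(W, π ⁻¹ᵁ U) from m)))
      let d : Γ(W, π ⁻¹ᵁ U) := (show Γ(W, π ⁻¹ᵁ U) from m) - π.app U a
      have hd : d ∈ (I.map (scal A W (π ⁻¹ᵁ U))) := by
        have hVa : IsAffineOpen (π ⁻¹ᵁ U) := hU.preimage π
        have := ker_ideal_le (he 0) ⟨π ⁻¹ᵁ U, hVa⟩
        rw [pow_one] at this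
        refine this ?_
        haveI := hce 0
        rw [Scheme.Hom.ker_apply, RingHom.mem_ker, map_sub, sub_eq_zero]
        have e1 := ConcreteCategory.congr_hom (Scheme.Hom.congr_app (het 0) U) a
        rw [ConcreteCategory.comp_apply, Scheme.Hom.comp_app, ConcreteCategory.comp_apply] at e1
        rw [ha] at e1
        refine Eq.trans ?_ e1.symm
        symm
        refine (ConcreteCategory.comp_apply _ _ _).symm.trans ?_
        rw [← Functor.map_comp, ← op_comp, eqToHom_trans, eqToHom_refl, op_id]
        erw [CategoryTheory.Functor.map_id]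
        rfl
      have hsp : ∀ y ∈ I.map (scal A W (π ⁻¹ᵁ U)),
          (modPowπ I 1 M).app U (show Γ(M, U) from y) = 0 := by
        intro y hy
        suffices ∀ r : Γ(W, π ⁻¹ᵁ U), (modPowπ I 1 M).app U (show Γ(M, U) from r * y) = 0 by
          have h1 := this 1
          rwa [one_mul] at h1
        induction hy using Submodule.span_induction with
        | mem z hz =>
          obtain ⟨s, hs, rfl⟩ := hz
          intro r
          have e1 : (show Γ(M, U) from r * scal A W (π ⁻¹ᵁ U) s) = scal A X U s • (show Γ(M, U) from r) := by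
            show r * _ = π.app U (scal A X U s) * r
            rw [hscal, mul_comm]
          rw [e1, ← HomSh.smulMod_app]
          exact ConcreteCategory.congr_hom
            (congrArg (fun q => Scheme.Modules.Hom.app q U) (Rees.smulMod_modPowπ I M (by rwa [pow_one]))) _
        | zero =>
          intro r
          rw [mul_zero]
          exact map_zero _
        | add z z' _ _ h h' =>
          intro r
          rw [mul_add]
          exact (map_add _ _ _).trans (by rw [h r, h' r, add_zero])
        | smul r' z _ h =>
          intro r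
          rw [smul_eq_mul, ← mul_assoc]
          exact h (r * r')
      have hm0 : (modPowπ I 1 M).app U m = (modPowπ I 1 M).app U (u.app U a) :=
        sub_eq_zero.1 ((map_sub _ _ _).symm.trans (hsp d hd))
      have e2 : ∀ y, (cokernel.π u ≫ modPowπ I 1 (cokernel u)).app U y =
          (modPowπ I 1 M ≫ redMap I 1 (cokernel.π u)).app U y := fun y => by rw [π_redMap]
      show (cokernel.π u ≫ modPowπ I 1 (cokernel u)).app U m = 0
      rw [e2]
      show (redMap I 1 (cokernel.π u)).app U ((modPowπ I 1 M).app U m) = 0
      rw [hm0]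
      show (modPowπ I 1 M ≫ redMap I 1 (cokernel.π u)).app U (u.app U a) = 0
      rw [← e2]
      show (u ≫ cokernel.π u ≫ modPowπ I 1 (cokernel u)).app U a = 0
      rw [← Category.assoc, cokernel.condition, zero_comp]
      rfl
    have h2 := eq_zero_of_reduction (X ↘ Spec (CommRingCat.of A)).isClosedMap hC h1
    rw [← Category.comp_id (cokernel.π u), h2, comp_zero]
  haveI : Mono u := by
    refine Preadditive.mono_of_kernel_zero ?_
    have hK := (CohKernel.isCoh_kernel_cokernel hOX hM u).1
    have h0 : ∀ n, kernel.ι u ≫ modPowπ I (n + 1) (Coh.structureModule X) = 0 := fun n => by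
      refine AffineBC.hom_ext_affine _ _ fun U hU z => ?_
      let a : Γ(X, U) := (kernel.ι u).app U z
      show (modPowπ I (n + 1) (Coh.structureModule X)).app U a = 0
      have ha : π.app U a = 0 :=
        ConcreteCategory.congr_hom (congrArg (fun q => Scheme.Modules.Hom.app q U) (kernel.condition u)) z
      have hmem : a ∈ (I ^ (n + 1)).map (scal A X U) := by
        refine ker_ideal_le (ht n) ⟨U, hU⟩ ?_
        rw [Scheme.Hom.ker_apply, RingHom.mem_ker]
        have e1 := ConcreteCategory.congr_hom (Scheme.Hom.congr_app (het n) U) a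
        rw [ConcreteCategory.comp_apply, Scheme.Hom.comp_app, ConcreteCategory.comp_apply, ha, map_zero] at e1
        exact (ConcreteCategory.bijective_of_isIso ((Ts n).presheaf.map (eqToHom (by rw [het n])).op)).1
          (e1.symm.trans (map_zero _).symm)
      suffices hsp : ∀ y ∈ (I ^ (n + 1)).map (scal A X U),
          (modPowπ I (n + 1) (Coh.structureModule X)).app U (show Γ(Coh.structureModule X, U) from y) = 0 from hsp a hmem
      intro y hy
      induction hy using Submodule.span_induction with
      | mem y hy =>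
        obtain ⟨s, hs, rfl⟩ := hy
        have e1 : (show Γ(Coh.structureModule X, U) from scal A X U s) =
            scal A X U s • (show Γ(Coh.structureModule X, U) from (1 : Γ(X, U))) := by
          show scal A X U s = scal A X U s * (1 : Γ(X, U))
          rw [mul_one]
        rw [e1, ← HomSh.smulMod_app]
        exact ConcreteCategory.congr_hom
          (congrArg (fun q => Scheme.Modules.Hom.app q U) (Rees.smulMod_modPowπ I _ hs)) _
      | zero => exact map_zero _
      | add y y' _ _ h h' => exact (map_add _ _ _).trans (by rw [h, h', add_zero])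
      | smul r y _ h =>
        exact (Scheme.Modules.Hom.app_smul (modPowπ I (n + 1) (Coh.structureModule X)) r
          (show Γ(Coh.structureModule X, U) from y)).trans ((congrArg (r • ·) h).trans (smul_zero _))
    obtain ⟨φ, -, hu'⟩ := HomSh.existsUnique_hom I hK hOX (isProperOver_support hK hOX)
      (fun n => 0) (fun n => zero_comp)
    exact (hu' (kernel.ι u) fun n => (h0 n).symm).trans (hu' 0 fun n => zero_comp.symm).symm
  haveI : IsIso u := isIso_of_mono_of_epi u
  have hbij : ∀ U : X.affineOpens, Function.Bijective (π.app U.1) := fun U =>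
    ConcreteCategory.bijective_of_isIso (u.app U.1)
  haveI : IsClosedImmersion π :=
    isClosedImmersion_iff_isAffineHom.2 ⟨inferInstance, fun U hU => (hbij ⟨U, hU⟩).2⟩
  refine IsClosedImmersion.isIso_iff_ker_eq_bot.2 ?_
  have hker : π.ker = ⊥ := by
    ext1
    funext U
    rw [Scheme.Hom.ker_apply, Scheme.IdealSheafData.ideal_bot, Pi.bot_apply, eq_bot_iff]
    intro a ha
    exact (hbij U).1 ((RingHom.mem_ker.1 ha).trans (map_zero _).symm)
  exact hker

end Groth.L16.Exist.Adic
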