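import Groth.Agent.L16.Exist.AlgComplete
import Mathlib.AlgebraicGeometry.Morphisms.ClosedImmersion

/-!
A morphism over `A` from a thickening is a closed immersion when its restriction to the special fibre is.
-/

set_option autoImplicit false
set_option linter.style.haveILetI false
set_option backward.isDefEq.respectTransparency false
set_option backward.isDefEq.respectTransparency.types false

universe u

open CategoryTheory CategoryTheory.Limits AlgebraicGeometry TopologicalSpace Opposite

noncomputable section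

namespace Groth.L16.Exist.Adic

open AffineBC (scal)
open Groth.L18.Frame (ro)

variable {A : Type u} [CommRing A] {J : Ideal A}

theorem app_scal {Z X : Scheme.{u}} [Z.Over (Spec (CommRingCat.of A))] [X.Over (Spec (CommRingCat.of A))]
    (f : Z ⟶ X) (hf : f ≫ (X ↘ Spec (CommRingCat.of A)) = Z ↘ Spec (CommRingCat.of A)) (U : X.Opens) (a : A) :
    f.app U (scal A X U a) = scal A Z (f ⁻¹ᵁ U) a := by
  show f.app U (X.presheaf.map (homOfLE le_top).op
    ((X ↘ Spec (CommRingCat.of A)).appTop ((Scheme.ΓSpecIso (CommRingCat.of A)).inv a))) = _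
  refine (ConcreteCategory.congr_hom (f.naturality (homOfLE (le_top : U ≤ ⊤)).op) _).trans ?_
  show _ = Z.presheaf.map (homOfLE le_top).op
    ((Z ↘ Spec (CommRingCat.of A)).appTop ((Scheme.ΓSpecIso (CommRingCat.of A)).inv a))
  rw [← hf]
  rfl

theorem germ_scal {X : Scheme.{u}} [X.Over (Spec (CommRingCat.of A))] {U : X.Opens} {x : X} (hx : x ∈ U) (a : A) :
    X.presheaf.germ U x hx (scal A X U a) = X.presheaf.germ ⊤ x trivial (scal A X ⊤ a) := by
  rw [← scal_res a (le_top : U ≤ ⊤)]
  exact TopCat.Presheaf.germ_res_apply _ _ _ _ _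

variable {Xs : ℕ → Scheme.{u}} [∀ k, (Xs k).Over (Spec (CommRingCat.of A))]
  {p : (k : ℕ) → (Xs k ⟶ Spec (CommRingCat.of (A ⧸ J ^ (k + 1))))} {i : (k : ℕ) → (Xs k ⟶ Xs (k + 1))}

/-- Closed immersions are detected on the special fibre. -/
theorem isClosedImmersion_of_zero (S : IsSys J Xs p i) {X : Scheme.{u}} [X.Over (Spec (CommRingCat.of A))]
    {k : ℕ} (r : Xs k ⟶ X) (hr : r ≫ (X ↘ Spec (CommRingCat.of A)) = Xs k ↘ Spec (CommRingCat.of A))
    (h0 : IsClosedImmersion (j i k ≫ r)) : IsClosedImmersion r := by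
  haveI := isClosedImmersion_j S k
  haveI := h0
  let jk := j i k
  have hsurj : Function.Surjective jk.base := surjective_j S k
  let h : Xs 0 ≃ₜ Xs k := jk.isEmbedding.toHomeomorphOfSurjective hsurj
  have hb : (r.base : Xs k → X) = (jk ≫ r).base ∘ h.symm := by
    funext x
    show r.base x = r.base (jk.base (h.symm x))
    exact congrArg r.base (h.apply_symm_apply x).symm
  have hcl : IsClosed (Set.range r.base) := by
    rw [hb, Set.range_comp, h.symm.surjective.range_eq, Set.image_univ]
    exact (jk ≫ r).isClosedEmbedding.isClosed_range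
  haveI : SurjectiveOnStalks r := by
    refine ⟨fun x => ?_⟩
    obtain ⟨z, rfl⟩ := hsurj x
    let φ := r.stalkMap (jk z)
    let ψ := jk.stalkMap z
    have hcomp : Function.Surjective (φ ≫ ψ) := by
      have := (jk ≫ r).stalkMap_surjective z
      rw [Scheme.Hom.stalkMap_comp] at this
      exact this
    let χ : A →+* (Xs k).presheaf.stalk (jk z) :=
      ((Xs k).presheaf.germ ⊤ (jk z) trivial).hom.comp (scal A (Xs k) ⊤)
    have hχ : ∀ a, χ a ∈ φ.hom.range := fun a => by
      refine ⟨X.presheaf.germ ⊤ (r (jk z)) trivial (scal A X ⊤ a), ?_⟩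
      rw [Scheme.Hom.germ_stalkMap_apply, app_scal r hr]
      exact germ_scal _ a
    -- the kernel of the stalk map of the inclusion of the special fibre
    have hker : ∀ a, ψ a = 0 → a ∈ J.map χ := by
      intro a ha
      obtain ⟨V, hxV, s, rfl⟩ := TopCat.Presheaf.exists_germ_eq (F := (Xs k).presheaf) (x := jk z) a
      rw [Scheme.Hom.germ_stalkMap_apply] at ha
      obtain ⟨W', hzW', i₁, i₂, hW'⟩ := TopCat.Presheaf.germ_eq (Xs 0).presheaf z (show z ∈ jk ⁻¹ᵁ V from hxV)
        (show z ∈ jk ⁻¹ᵁ V from hxV) (jk.app V s) 0 (ha.trans (map_zero _).symm)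
      obtain ⟨O, hO, hOW'⟩ := jk.isEmbedding.isInducing.isOpen_iff.1 W'.2
      have hzO : jk z ∈ O := by
        have : z ∈ jk.base ⁻¹' O := hOW' ▸ hzW'
        exact this
      obtain ⟨_, ⟨V', hV', rfl⟩, hxV', hV'sub⟩ := (Xs k).isBasis_affineOpens.exists_subset_of_mem_open
        (show jk z ∈ (V : Set (Xs k)) ∩ O from ⟨hxV, hzO⟩) (V.2.inter hO)
      have hV'V : V' ≤ V := fun y hy => (hV'sub hy).1
      have hV'W : jk ⁻¹ᵁ V' ≤ W' := fun y hy => by
        have : y ∈ jk.base ⁻¹' O := (hV'sub hy).2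
        show y ∈ W'.carrier
        rw [← hOW']
        exact this
      have hs' : ro hV'V s ∈ jk.ker.ideal ⟨V', hV'⟩ := by
        rw [Scheme.Hom.ker_apply, RingHom.mem_ker]
        refine (ConcreteCategory.congr_hom (jk.naturality (homOfLE hV'V).op) s).trans ?_
        show (Xs 0).presheaf.map (homOfLE (jk.preimage_mono hV'V)).op (jk.app V s) = 0
        rw [show (homOfLE (jk.preimage_mono hV'V)).op = i₁.op ≫ (homOfLE hV'W).op from Subsingleton.elim _ _,
          Functor.map_comp, ConcreteCategory.comp_apply, hW', map_zero, map_zero]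
      have hmem := Ideal.mem_map_of_mem ((Xs k).presheaf.germ V' (jk z) hxV').hom
        (ker_ideal_le (j_cart S k) ⟨V', hV'⟩ hs')
      rw [Ideal.map_map] at hmem
      have hg : ((Xs k).presheaf.germ V' (jk z) hxV').hom.comp (scal A (Xs k) V') = χ :=
        RingHom.ext fun b => germ_scal hxV' b
      rw [hg, zero_add, pow_one] at hmem
      rw [show (Xs k).presheaf.germ V (jk z) hxV s = (Xs k).presheaf.germ V' (jk z) hxV' (ro hV'V s) from
        (TopCat.Presheaf.germ_res_apply _ _ _ _ _).symm]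
      exact hmem
    have hstep : ∀ a, ∃ b ∈ φ.hom.range, a - b ∈ J.map χ := fun a => by
      obtain ⟨c, hc⟩ := hcomp (ψ a)
      refine ⟨φ c, ⟨c, rfl⟩, hker _ ?_⟩
      rw [map_sub, sub_eq_zero]
      exact hc.symm
    have key : ∀ (m : ℕ), ∀ y ∈ (J ^ m).map χ, ∃ b ∈ φ.hom.range, y - b ∈ (J ^ (m + 1)).map χ := by
      intro m y hy
      induction hy using Submodule.span_induction with
      | mem y hy =>
        obtain ⟨t, -, rfl⟩ := hy
        exact ⟨χ t, hχ t, by rw [sub_self]; exact zero_mem _⟩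
      | zero => exact ⟨0, zero_mem _, by rw [sub_zero]; exact zero_mem _⟩
      | add y y' _ _ h h' =>
        obtain ⟨b, hb, hb'⟩ := h
        obtain ⟨c, hc, hc'⟩ := h'
        exact ⟨b + c, add_mem hb hc, by rw [add_sub_add_comm]; exact add_mem hb' hc'⟩
      | smul c y hy h =>
        obtain ⟨b, hb, hb'⟩ := h
        obtain ⟨c', hc', hc''⟩ := hstep c
        refine ⟨c' * b, mul_mem hc' hb, ?_⟩
        rw [smul_eq_mul, show c * y - c' * b = c' * (y - b) + (c - c') * y by ring]
        refine add_mem (Ideal.mul_mem_left _ _ hb') ?_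
        have := Ideal.mul_mem_mul hc'' (show y ∈ (J ^ m).map χ from hy)
        rwa [← Ideal.map_mul, ← pow_succ'] at this
    intro a
    have main : ∀ m, ∃ b ∈ φ.hom.range, a - b ∈ (J ^ m).map χ := by
      intro m
      induction m with
      | zero => exact ⟨0, zero_mem _, by rw [pow_zero, Ideal.one_eq_top, Ideal.map_top]; trivial⟩
      | succ m ih =>
        obtain ⟨b, hb, hb'⟩ := ih
        obtain ⟨c, hc, hc'⟩ := key m _ hb'
        exact ⟨b + c, add_mem hb hc, by rw [← sub_sub]; exact hc'⟩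
    obtain ⟨b, ⟨c, hc⟩, hb'⟩ := main (k + 1)
    have h0' : (J ^ (k + 1)).map χ = ⊥ := by
      rw [eq_bot_iff, Ideal.map_le_iff_le_comap]
      intro t ht
      rw [Ideal.mem_comap, Ideal.mem_bot]
      show (Xs k).presheaf.germ ⊤ (jk z) trivial (scal A (Xs k) ⊤ t) = 0
      rw [scal_eq_zero (p k) (S.base k) ht, map_zero]
    rw [h0', Ideal.mem_bot, sub_eq_zero] at hb'
    exact ⟨c, hc.trans hb'.symm⟩
  haveI : IsPreimmersion r :=
    { isEmbedding := by rw [hb]; exact (jk ≫ r).isEmbedding.comp h.symm.isEmbedding }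
  exact IsClosedImmersion.of_isPreimmersion r hcl

end Groth.L16.Exist.Adic
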