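import Groth.Agent.L16.Exist.TorsionFF
import Groth.Agent.L16.Exist.AlgImmersion
import Groth.Agent.L16.Exist.Systems

/-!
Maps from formal modules to completions with kernel and cokernel killed by a power of the ideal are algebraic.
-/

set_option autoImplicit false
set_option linter.style.haveILetI false
set_option backward.isDefEq.respectTransparency false
set_option backward.isDefEq.respectTransparency.types false

universe u

open CategoryTheory CategoryTheory.Limits AlgebraicGeometry TopologicalSpace Opposite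

noncomputable section

namespace Groth.L16.Exist

open Groth.L18.Frame (rs ro rs_rs rs_smul rs_self)
open Formal (smulMod smulFamily modPow modPowπ modPowTrans modPowπ_trans)
open AffineBC (scal)
open Existence (tr)

variable {A : Type u} [CommRing A] {X : Scheme.{u}} [X.Over (Spec (CommRingCat.of A))] (I : Ideal A)

/-- The ideal sheaf generated by an ideal of the base. -/
def baseIdeal : X.IdealSheafData := (CohB1.thickι (X ↘ Spec (CommRingCat.of A)) I 0).ker

theorem baseIdeal_ideal (U : X.affineOpens) : (baseIdeal I).ideal U = I.map (scal A X U.1) := by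
  let f := X ↘ Spec (CommRingCat.of A)
  haveI : IsClosedImmersion (CohB1.thickι f I 0) :=
    MorphismProperty.pullback_fst (P := @IsClosedImmersion) _ _ (Adic.isClosedImmersion_specQuot I 0)
  have hcart : IsPullback (CohB1.thickι f I 0) (CohB1.thickToBase f I 0) (X ↘ Spec (CommRingCat.of A))
      (CohB1.specQuot I 0) := IsPullback.of_hasPullback f (CohB1.specQuot I 0)
  refine le_antisymm ?_ ?_
  · have := Adic.ker_ideal_le hcart U
    rwa [pow_one] at this
  · refine Ideal.map_le_iff_le_comap.2 fun a ha => ?_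
    rw [Ideal.mem_comap, baseIdeal, Scheme.Hom.ker_apply, RingHom.mem_ker]
    letI : (CohB1.thick f I 0).Over (Spec (CommRingCat.of A)) :=
      ⟨CohB1.thickToBase f I 0 ≫ CohB1.specQuot I 0⟩
    exact (Adic.app_scal (CohB1.thickι f I 0) hcart.w U.1 a).trans
      (Adic.scal_eq_zero (CohB1.thickToBase f I 0) rfl (by rwa [zero_add, pow_one]) _)

theorem baseIdeal_pow_ideal (e : ℕ) (U : X.affineOpens) :
    ((baseIdeal I) ^ e).ideal U = (I.map (scal A X U.1)) ^ e := by
  rw [Scheme.IdealSheafData.ideal_pow, Pi.pow_apply, baseIdeal_ideal]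

theorem killedByIdeal_of_killed {e : ℕ} {M : X.Modules} (h : Formal.KilledBy (I ^ e) M) :
    ClSub.KilledByIdeal ((baseIdeal I) ^ e) M := fun U r hr y =>
  smul_eq_zero_of_smulMod I (E := M) (show Γ(M, U.1) from y) (fun a ha => by rw [h a ha]; rfl) r
    (baseIdeal_pow_ideal I e U ▸ hr)

theorem killed_of_killedByIdeal {e : ℕ} {M : X.Modules} [Coh.IsQCoh M]
    (h : ClSub.KilledByIdeal ((baseIdeal I) ^ e) M) : Formal.KilledBy (I ^ e) M := fun a ha =>
  AffineBC.hom_ext_affine _ _ fun U hU y => by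
    rw [HomSh.smulMod_app]
    refine h ⟨U, hU⟩ _ ?_ y
    rw [baseIdeal_pow_ideal, ← Ideal.map_pow]
    exact Ideal.mem_map_of_mem _ ha

theorem killed_mono {e e' : ℕ} (h : e ≤ e') {M : X.Modules} (hM : Formal.KilledBy (I ^ e) M) :
    Formal.KilledBy (I ^ e') M := fun a ha => hM a (Ideal.pow_le_pow_right h ha)

variable [AlgebraicGeometry.IsNoetherian X]

omit [AlgebraicGeometry.IsNoetherian X] in
/-- A formal module killed by a power of the ideal is the completion of a killed module. -/
theorem exists_killed_algebraization {F : ℕᵒᵖ ⥤ X.Modules} (hF : Formal.IsCohFormal I F) {c : ℕ}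
    (hc : ∀ n : ℕ, Formal.KilledBy (I ^ c) (F.obj (op n))) :
    ∃ M : X.Modules, Coh.IsCoh M ∧ Formal.KilledBy (I ^ c) M ∧ Nonempty (Formal.completion I M ≅ F) := by
  have hepi : ∀ {m n : ℕ} (h : m ≤ n), Epi (tr F m n h) := fun h => Existence.epi_tr hF h
  have hu : ∀ n, ∃ u : F.obj (op c) ⟶ F.obj (op n),
      tr F c (c + n) (Nat.le_add_right c n) ≫ u = tr F n (c + n) (Nat.le_add_left n c) := fun n =>
    Existence.exists_desc hF (Nat.le_add_right c n) _ fun a ha => by
      rw [hc (c + n) a (Ideal.pow_le_pow_right (Nat.le_succ c) ha), zero_comp]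
  choose u hu using hu
  have ha : ∀ n, ∃ a, modPowπ I (n + 1) (F.obj (op c)) ≫ a = u n := fun n =>
    Existence.modPow_desc I _ fun b hb => by rw [Rees.smulMod_naturality, hF.2.1 n b hb, comp_zero]
  choose a ha using ha
  have hv : ∀ n, ∃ v, tr F n (c + n) (Nat.le_add_left n c) ≫ v =
      tr F c (c + n) (Nat.le_add_right c n) ≫ modPowπ I (n + 1) (F.obj (op c)) := fun n =>
    Existence.exists_desc hF _ _ fun b hb => by
      rw [← Category.assoc, Rees.smulMod_naturality, Category.assoc, Rees.smulMod_modPowπ I _ hb, comp_zero]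
  choose v hv using hv
  refine ⟨F.obj (op c), hF.1 c, hc c, Existence.nonempty_iso_of_sequence (fun n => ⟨a n, v n, ?_, ?_⟩) fun n => ?_⟩
  · haveI := Existence.epi_modPowπ I (n + 1) (F.obj (op c))
    haveI := hepi (Nat.le_add_right c n)
    refine (cancel_epi (modPowπ I (n + 1) (F.obj (op c)))).1
      ((cancel_epi (tr F c (c + n) (Nat.le_add_right c n))).1 ?_)
    show _ ≫ modPowπ I (n + 1) _ ≫ a n ≫ v n = _ ≫ modPowπ I (n + 1) _ ≫ 𝟙 (modPow I (n + 1) (F.obj (op c)))
    rw [reassoc_of% ha n, reassoc_of% hu n, hv n]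
    exact congrArg (_ ≫ ·) (Category.comp_id _).symm
  · haveI := hepi (Nat.le_add_left n c)
    refine (cancel_epi (tr F n (c + n) (Nat.le_add_left n c))).1 ?_
    exact ((Category.assoc _ _ _).symm.trans ((congrArg (· ≫ a n) (hv n)).trans ((Category.assoc _ _ _).trans
      ((congrArg (_ ≫ ·) (ha n)).trans (hu n))))).trans (Category.comp_id _).symm
  · haveI := Existence.epi_modPowπ I (n + 1 + 1) (F.obj (op c))
    haveI := hepi (show c ≤ c + (n + 1) from Nat.le_add_right c (n + 1))
    rw [show (Formal.completion I (F.obj (op c))).map (homOfLE (Nat.le_succ n)).op =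
      modPowTrans I (n + 1) (F.obj (op c)) from Existence.completion_tr I _ n]
    refine (cancel_epi (modPowπ I (n + 1 + 1) (F.obj (op c)))).1
      ((cancel_epi (tr F c (c + (n + 1)) (Nat.le_add_right c (n + 1)))).1 ?_)
    show _ ≫ modPowπ I (n + 1 + 1) _ ≫ modPowTrans I (n + 1) _ ≫ a n =
      _ ≫ modPowπ I (n + 1 + 1) _ ≫ a (n + 1) ≫ tr F n (n + 1) (Nat.le_succ n)
    rw [reassoc_of% modPowπ_trans I (n + 1) (F.obj (op c)), ha n, reassoc_of% ha (n + 1),
      reassoc_of% hu (n + 1), ← Existence.tr_comp F (Nat.le_add_right c n) (show c + n ≤ c + (n + 1) by omega),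
      Category.assoc, hu n, Existence.tr_comp, Existence.tr_comp]

/-- The left half of algebraisation up to torsion. -/
theorem exists_algebraization_left {G : X.Modules} (hG : Coh.IsCoh G) {F : ℕᵒᵖ ⥤ X.Modules}
    (hF : Formal.IsCohFormal I F) (α : F ⟶ Formal.completion I G) (hα : Formal2.KerCokerKilledByIPow I α) :
    ∃ (F' : X.Modules) (a : F' ⟶ G) (β : F ≅ Formal.completion I F'), Coh.IsCoh F' ∧
      Formal2.KerCokerKilledByIPowHom I a ∧
      (∀ n, β.hom.app (op n) ≫ redMap I (n + 1) a = α.app (op n)) ∧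
      ∀ n : ℕ, modPowπ I (n + 1) F' ≫ β.inv.app (op n) ≫ α.app (op n) = a ≫ modPowπ I (n + 1) G := by
  obtain ⟨t, ht⟩ := hα
  obtain ⟨M, a, β, hM, -, hcomp, s, hk, hc⟩ := exists_algebraization_map (fun _ => True)
    (fun _ _ _ _ _ => trivial) (fun _ _ _ _ _ => trivial) (fun _ _ _ _ => trivial) (baseIdeal I) hF trivial
    (fun e => ⟨fun M N hM hN _ hMK _ ψ => by
      haveI : Coh.IsQCoh M := hM.1
      exact existsUnique_of_completion_torsion I hN (Or.inl (killed_of_killedByIdeal I hMK)) ψ,
    fun G' hG' _ hk => by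
      haveI : ∀ n, Coh.IsQCoh (G'.obj (op n)) := fun n => (hG'.1 n).1
      obtain ⟨M, hM, hMk, hE⟩ := exists_killed_algebraization I hG' fun n => killed_of_killedByIdeal I (hk n)
      exact ⟨M, hM, trivial, killedByIdeal_of_killed I hMk, hE⟩⟩)
    α hG trivial ⟨t, fun n => ⟨killedByIdeal_of_killed I (ht n).1, killedByIdeal_of_killed I (ht n).2⟩⟩
  have hK := CohKernel.isCoh_kernel_cokernel hM hG a
  haveI : Coh.IsQCoh (kernel a) := hK.1.1
  haveI : Coh.IsQCoh (cokernel a) := hK.2.1
  refine ⟨M, a, β, hM, ⟨s, killed_mono I (Nat.le_succ s) (killed_of_killedByIdeal I hk),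
    killed_mono I (Nat.le_succ s) (killed_of_killedByIdeal I hc)⟩, hcomp, fun n => ?_⟩
  rw [← hcomp n, ← Category.assoc (β.inv.app (op n)), ← NatTrans.comp_app, Iso.inv_hom_id, NatTrans.id_app]
  exact (congrArg (modPowπ I (n + 1) M ≫ ·) (Category.id_comp _)).trans (π_redMap I (n + 1) a)

end Groth.L16.Exist
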