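import Groth.Agent.L16.Exist.TorsionTools

/-!
Maps from completions to formal modules with kernel and cokernel killed by a power of the ideal are algebraic.
-/

set_option autoImplicit false
set_option linter.style.haveILetI false
set_option backward.isDefEq.respectTransparency false
set_option backward.isDefEq.respectTransparency.types false

universe u

open CategoryTheory CategoryTheory.Limits AlgebraicGeometry TopologicalSpace Opposite

noncomputable section

namespace Groth.L16.Exist

open Groth.L18.Frame (rs ro rs_rs rs_smul rs_self)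
open Formal (smulMod smulFamily modPow modPowπ modPowTrans modPowπ_trans)
open AffineBC (scal)
open Existence (tr)

variable {A : Type u} [CommRing A] {X : Scheme.{u}} [X.Over (Spec (CommRingCat.of A))] (I : Ideal A)

theorem smulMod_eq_zero_of_comp {M : X.Modules} {a : A} {N : X.Modules} (k : M ⟶ N) [Mono k]
    (h : k ≫ smulMod A N a = 0) : smulMod A M a = 0 := by
  rw [← cancel_mono k, zero_comp, Rees.smulMod_naturality]
  exact h

theorem smulMod_eq_zero_of_epi {M : X.Modules} {a : A} {N : X.Modules} (k : M ⟶ N) [Epi k]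
    (h : smulMod A M a ≫ k = 0) : smulMod A N a = 0 := by
  rw [← cancel_epi k, comp_zero, ← Rees.smulMod_naturality]
  exact h

theorem comp_smulMod_add_eq_zero {M N : X.Modules} (f : M ⟶ N) {k l : ℕ}
    (h : ∀ a ∈ I ^ k, ∀ b ∈ I ^ l, f ≫ smulMod A N a ≫ smulMod A N b = 0) :
    ∀ a ∈ I ^ (k + l), f ≫ smulMod A N a = 0 := by
  intro a ha
  refine Scheme.Modules.hom_ext _ _ fun U => ?_
  ext x
  show (smulMod A N a).app U (f.app U x) = 0
  rw [HomSh.smulMod_app]
  rw [pow_add] at ha
  refine Submodule.mul_induction_on ha (fun p hp q hq => ?_) fun p q hp hq => by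
    rw [map_add, add_smul, hp, hq, add_zero]
  rw [map_mul, mul_comm, mul_smul, ← HomSh.smulMod_app, ← HomSh.smulMod_app]
  exact app_eq (h p hp q hq) x

theorem redMap_smulMod (m : ℕ) (M : X.Modules) (a : A) :
    redMap I m (smulMod A M a) = smulMod A (modPow I m M) a := by
  haveI := Existence.epi_modPowπ I m M
  rw [← cancel_epi (modPowπ I m M), π_redMap, Rees.smulMod_naturality]

theorem redMap_add (m : ℕ) {M N : X.Modules} (φ ψ : M ⟶ N) :
    redMap I m (φ + ψ) = redMap I m φ + redMap I m ψ := by
  haveI := Existence.epi_modPowπ I m M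
  rw [← cancel_epi (modPowπ I m M), Preadditive.comp_add, π_redMap, π_redMap, π_redMap, Preadditive.add_comp]

theorem redMap_sub (m : ℕ) {M N : X.Modules} (φ ψ : M ⟶ N) :
    redMap I m (φ - ψ) = redMap I m φ - redMap I m ψ := by
  haveI := Existence.epi_modPowπ I m M
  rw [← cancel_epi (modPowπ I m M), Preadditive.comp_sub, π_redMap, π_redMap, π_redMap, Preadditive.sub_comp]

theorem cmap_app {M N : X.Modules} (φ : M ⟶ N) (n : ℕ) :
    (cmap I φ).app (op n) = redMap I (n + 1) φ := rfl

variable [AlgebraicGeometry.IsNoetherian X]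

/-- Algebraisation along a map of formal modules into completions is unique up to torsion: lifting maps. -/
theorem exists_lift_hom {G F' J : X.Modules} (hG : Coh.IsCoh G) (hF' : Coh.IsCoh F') (hJ : Coh.IsCoh J)
    (a' : F' ⟶ J) (d' : G ⟶ J) {e : ℕ} (hk : Formal.KilledBy (I ^ e) (kernel a'))
    (hc : Formal.KilledBy (I ^ e) (cokernel a')) (φ : Formal.completion I G ⟶ Formal.completion I F')
    (hφ : ∀ n, φ.app (op n) ≫ redMap I (n + 1) a' = redMap I (n + 1) d') :
    ∃ a : G ⟶ F', a ≫ a' = d' ∧ ∀ n, redMap I (n + 1) a = φ.app (op n) := by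
  haveI : HasFiniteBiproducts X.Modules := Abelian.hasFiniteBiproducts
  let N := G ⊞ F'
  have hN : Coh.IsCoh N := Devissage.isCoh_biprod hG hF'
  let m : N ⟶ J := biprod.fst ≫ d' - biprod.snd ≫ a'
  let m₁ := Abelian.factorThruImage m
  haveI : Coh.IsQCoh J := hJ.1
  have hQ3 : Coh.IsCoh (Abelian.image m) := CohSupport.isCoh_image hN m
  let σ₀ : Formal.completion I G ⟶ Formal.completion I N := cmap I biprod.inl + φ ≫ cmap I biprod.inr
  have hσ₀ : ∀ n, σ₀.app (op n) = (cmap I (biprod.inl : G ⟶ N)).app (op n) + φ.app (op n) ≫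
      (cmap I (biprod.inr : F' ⟶ N)).app (op n) := fun n => rfl
  have hσm : ∀ n, σ₀.app (op n) ≫ redMap I (n + 1) m₁ = 0 := fun n => by
    refine eq_zero_of_comp_mono I hQ3 hJ (Abelian.image.ι m) (isCohFormal_completion hG)
      (σ₀ ≫ cmap I m₁) (fun k => ?_) n
    rw [NatTrans.comp_app, cmap_app, Category.assoc, redMap_comp, Abelian.image.fac, hσ₀, cmap_app, cmap_app, Preadditive.add_comp,
      Category.assoc, redMap_comp, redMap_comp]
    simp only [m, Preadditive.comp_sub, biprod.inl_fst_assoc, biprod.inl_snd_assoc, biprod.inr_fst_assoc,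
      biprod.inr_snd_assoc, zero_comp, sub_zero, zero_sub]
    rw [show redMap I (k + 1) (-a') = -redMap I (k + 1) a' by
      rw [← zero_sub, redMap_sub, redMap_zero, zero_sub], Preadditive.comp_neg, hφ, add_neg_cancel]
  obtain ⟨σ, hσ, -⟩ := exists_lift_kernel hN hQ3 m₁ (isCohFormal_completion hG) σ₀ hσm
  let P := kernel m₁
  have hP : Coh.IsCoh P := (CohKernel.isCoh_kernel_cokernel hN hQ3 m₁).1
  let ι := kernel.ι m₁
  let p₁ : P ⟶ G := ι ≫ biprod.fst
  let p₂ : P ⟶ F' := ι ≫ biprod.snd
  have hσ1 : ∀ n, σ.app (op n) ≫ redMap I (n + 1) p₁ = 𝟙 (modPow I (n + 1) G) := fun n => by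
    rw [show redMap I (n + 1) p₁ = redMap I (n + 1) ι ≫ redMap I (n + 1) (biprod.fst : N ⟶ G) from
      (redMap_comp I _ _ _).symm, ← Category.assoc, hσ, hσ₀, cmap_app, cmap_app, Preadditive.add_comp, Category.assoc, redMap_comp,
      redMap_comp, biprod.inl_fst, biprod.inr_fst, redMap_id, redMap_zero, comp_zero, add_zero]
  have hσ2 : ∀ n, σ.app (op n) ≫ redMap I (n + 1) p₂ = φ.app (op n) := fun n => by
    rw [show redMap I (n + 1) p₂ = redMap I (n + 1) ι ≫ redMap I (n + 1) (biprod.snd : N ⟶ F') from
      (redMap_comp I _ _ _).symm, ← Category.assoc, hσ, hσ₀, cmap_app, cmap_app, Preadditive.add_comp, Category.assoc, redMap_comp,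
      redMap_comp, biprod.inl_snd, biprod.inr_snd, redMap_id, redMap_zero, zero_add]
    exact Category.comp_id _
  have hpm : p₁ ≫ d' = p₂ ≫ a' := by
    have h0 : ι ≫ m = 0 :=
      (congrArg (ι ≫ ·) (Abelian.image.fac m).symm).trans
        ((Category.assoc _ _ _).symm.trans ((congrArg (· ≫ _) (kernel.condition m₁)).trans zero_comp))
    simpa [m, p₁, p₂, sub_eq_zero] using h0
  haveI : Coh.IsQCoh G := hG.1
  haveI : Epi p₁ := by
    refine Preadditive.epi_of_cokernel_zero ?_
    haveI : Epi (cokernel.π p₁) := coequalizer.π_epi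
    have hC : Formal.KilledBy (I ^ e) (cokernel p₁) := fun b hb => by
      refine smulMod_eq_zero_of_epi (cokernel.π p₁) (AffineBC.hom_ext_affine _ _ fun U hU g => ?_)
      show (cokernel.π p₁).app U ((smulMod A G b).app U g) = 0
      have h1 : (cokernel.π a').app U (d'.app U ((smulMod A G b).app U g)) = 0 := by
        have e1 : smulMod A G b ≫ d' ≫ cokernel.π a' = 0 := by
          rw [← Category.assoc, Rees.smulMod_naturality, Category.assoc, Rees.smulMod_naturality, hc b hb,
            comp_zero, comp_zero]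
        exact app_eq e1 g
      obtain ⟨y, hy⟩ := HomSh.exists_of_cokernel_app_eq_zero hF' hJ a' hU h1
      let g' : Γ(G, U) := (smulMod A G b).app U g
      let w : Γ(N, U) := (biprod.inl : G ⟶ N).app U g' + (biprod.inr : F' ⟶ N).app U y
      have hw : m₁.app U w = 0 := by
        refine Acc.app_injective (Abelian.image.ι m) U ?_
        rw [map_zero]
        refine (app_eq (Abelian.image.fac m) w).trans ?_
        show m.app U w = 0
        rw [show m.app U w = (biprod.inl ≫ m).app U g' + (biprod.inr ≫ m).app U y from map_add _ _ _]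
        simp only [m, Preadditive.comp_sub, biprod.inl_fst_assoc, biprod.inl_snd_assoc, biprod.inr_fst_assoc,
          biprod.inr_snd_assoc, zero_comp, sub_zero, zero_sub]
        show d'.app U g' + -(a'.app U y) = 0
        rw [hy, add_neg_cancel]
      obtain ⟨z, hz⟩ := HomSh.exists_kernel_lift m₁ w hw
      have e2 : p₁.app U z = g' := by
        show (biprod.fst : N ⟶ G).app U (ι.app U z) = g'
        rw [hz, map_add, show (biprod.fst : N ⟶ G).app U ((biprod.inl : G ⟶ N).app U g') = g' from
            app_eq biprod.inl_fst g',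
          show (biprod.fst : N ⟶ G).app U ((biprod.inr : F' ⟶ N).app U y) = 0 from app_eq biprod.inr_fst y,
          add_zero]
      show (cokernel.π p₁).app U g' = 0
      rw [← e2]
      exact app_eq (cokernel.condition p₁) z
    have h1 : ∀ n, modPowπ I (n + 1) (cokernel p₁) = 0 := fun n => by
      have h2 : redMap I (n + 1) (cokernel.π p₁) = 0 := by
        rw [← Category.id_comp (redMap I (n + 1) (cokernel.π p₁)), ← hσ1 n, Category.assoc, redMap_comp,
          cokernel.condition, redMap_zero, comp_zero]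
      rw [← cancel_epi (cokernel.π p₁), comp_zero, ← π_redMap, h2, comp_zero]
    obtain ⟨r, hr⟩ := Existence.modPow_desc I (n := e + 1) (𝟙 (cokernel p₁)) fun b hb => by
      rw [Category.comp_id]
      exact hC b (Ideal.pow_le_pow_right (Nat.le_succ e) hb)
    have h3 : 𝟙 (cokernel p₁) = 0 := by rw [← hr, h1 e, zero_comp]
    rw [← Category.comp_id (cokernel.π p₁), h3, comp_zero]
  let T := kernel p₁
  let ιT := kernel.ι p₁
  have hT : Coh.IsCoh T := (CohKernel.isCoh_kernel_cokernel hP hG p₁).1
  have hTk : Formal.KilledBy (I ^ e) T := fun b hb => by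
    refine smulMod_eq_zero_of_comp ιT ?_
    rw [← cancel_mono ι, zero_comp, Category.assoc, Rees.smulMod_naturality]
    have h2 : (ιT ≫ p₂) ≫ smulMod A F' b = 0 := by
      have h3 : (ιT ≫ p₂) ≫ a' = 0 := by rw [Category.assoc, ← hpm, kernel.condition_assoc, zero_comp]
      rw [← kernel.lift_ι a' _ h3, Category.assoc, ← Rees.smulMod_naturality, hk b hb, zero_comp, comp_zero]
    apply biprod.hom_ext
    · simp only [Category.assoc, zero_comp, Rees.smulMod_naturality]
      rw [← Category.assoc ι, ← Category.assoc ιT, show ιT ≫ ι ≫ biprod.fst = 0 from kernel.condition p₁, zero_comp]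
    · simp only [Category.assoc, zero_comp, Rees.smulMod_naturality]
      rw [← Category.assoc ι, ← Category.assoc ιT]
      exact h2
  obtain ⟨ρ, hρ, -⟩ := exists_lift_kernel hP hG p₁ (isCohFormal_completion hP)
    (𝟙 (Formal.completion I P) - cmap I p₁ ≫ σ) fun n => by
      rw [NatTrans.app_sub, NatTrans.id_app, NatTrans.comp_app, cmap_app, Preadditive.sub_comp, Category.assoc,
        hσ1, sub_eq_zero]
      exact (Category.id_comp _).trans (Category.comp_id _).symm
  obtain ⟨r, hr, -⟩ := existsUnique_of_completion_torsion I hT (Or.inr hTk) ρ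
  have hred : ∀ n, redMap I (n + 1) r = ρ.app (op n) := fun n => by
    haveI := Existence.epi_modPowπ I (n + 1) P
    rw [← cancel_epi (modPowπ I (n + 1) P), π_redMap]
    exact (hr n).symm
  have hρι : ∀ n, ρ.app (op n) ≫ redMap I (n + 1) ιT =
      (𝟙 (Formal.completion I P) - cmap I p₁ ≫ σ).app (op n) := fun n => by
    exact hρ n
  have hιr : ιT ≫ r = 𝟙 T := by
    obtain ⟨ψ, -, hu⟩ := existsUnique_of_completion_torsion I hT (Or.inr hTk) (𝟙 (Formal.completion I T))
    have h1 : ∀ n, redMap I (n + 1) ιT ≫ ρ.app (op n) = 𝟙 (modPow I (n + 1) T) := fun n => by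
      have h2 := eq_zero_of_comp_mono I hT hP ιT (isCohFormal_completion hT) (cmap I ιT ≫ ρ - 𝟙 _) (fun k => by
        rw [NatTrans.app_sub, NatTrans.id_app, NatTrans.comp_app, cmap_app, Preadditive.sub_comp, Category.assoc,
          hρι, NatTrans.app_sub, NatTrans.id_app, NatTrans.comp_app, cmap_app, Preadditive.comp_sub, ← Category.assoc (redMap I (k + 1) ιT) (redMap I (k + 1) p₁), redMap_comp,
          kernel.condition, redMap_zero, zero_comp, sub_zero, sub_eq_zero]
        exact (Category.comp_id _).trans (Category.id_comp _).symm) n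
      rw [NatTrans.app_sub, NatTrans.id_app, NatTrans.comp_app, cmap_app, sub_eq_zero] at h2
      exact h2
    refine (hu (ιT ≫ r) fun n => ?_).trans (hu (𝟙 T) fun n => ?_).symm
    · rw [Category.assoc, ← π_redMap, ← Category.assoc, ← π_redMap, Category.assoc, hred, h1, NatTrans.id_app]
      rfl
    · rw [NatTrans.id_app, Category.id_comp]
      exact Category.comp_id _
  let s : G ⟶ P := Abelian.epiDesc p₁ (𝟙 P - r ≫ ιT) (by
    rw [Preadditive.comp_sub, Category.comp_id, ← Category.assoc, hιr, Category.id_comp, sub_self])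
  have hs : p₁ ≫ s = 𝟙 P - r ≫ ιT := Abelian.comp_epiDesc _ _ _
  have hs1 : s ≫ p₁ = 𝟙 G := by
    rw [← cancel_epi p₁, ← Category.assoc, hs, Preadditive.sub_comp, Category.id_comp, Category.assoc,
      kernel.condition, comp_zero, sub_zero, Category.comp_id]
  refine ⟨s ≫ p₂, by rw [Category.assoc, ← hpm, ← Category.assoc, hs1, Category.id_comp], fun n => ?_⟩
  have e1 : redMap I (n + 1) s = σ.app (op n) := by
    have h1 : redMap I (n + 1) p₁ ≫ redMap I (n + 1) s = redMap I (n + 1) p₁ ≫ σ.app (op n) := by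
      rw [redMap_comp, hs, redMap_sub, redMap_id, ← redMap_comp, hred, hρι, NatTrans.app_sub, NatTrans.id_app, NatTrans.comp_app, cmap_app]
      exact sub_sub_cancel _ _
    have h2 := congrArg (σ.app (op n) ≫ ·) h1
    simp only [← Category.assoc] at h2
    rw [hσ1] at h2
    exact (Category.id_comp _).symm.trans (h2.trans (Category.id_comp _))
  rw [← redMap_comp, e1, hσ2]

/-- The right half of algebraisation up to torsion. -/
theorem exists_algebraization_right {G : X.Modules} (hG : Coh.IsCoh G) {F : ℕᵒᵖ ⥤ X.Modules}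
    (hF : Formal.IsCohFormal I F) (α : Formal.completion I G ⟶ F) (hα : Formal2.KerCokerKilledByIPow I α) :
    ∃ (F' : X.Modules) (a : G ⟶ F') (β : Formal.completion I F' ≅ F), Coh.IsCoh F' ∧
      Formal2.KerCokerKilledByIPowHom I a ∧
      ∀ n : ℕ, modPowπ I (n + 1) G ≫ α.app (op n) = a ≫ modPowπ I (n + 1) F' ≫ β.hom.app (op n) := by
  classical
  haveI : HasFiniteBiproducts X.Modules := Abelian.hasFiniteBiproducts
  obtain ⟨t, ht⟩ := hα
  let c := t + 1
  obtain ⟨S, hS, hSk⟩ := exists_gens (X := X) I c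
  let σ : Fin S.card → A := fun i => (S.equivFin.symm i).1
  have hσ : ∀ i, σ i ∈ I ^ c := fun i => hS (S.equivFin.symm i).2
  have hgens : ∀ {M N : X.Modules} (f : M ⟶ N), (∀ i, f ≫ smulMod A N (σ i) = 0) →
      ∀ a ∈ I ^ c, f ≫ smulMod A N a = 0 := fun f hf => hSk f fun s hs => by
    have := hf (S.equivFin ⟨s, hs⟩)
    simpa [σ] using this
  have hpairs : ∀ {M N : X.Modules} (f : M ⟶ N), (∀ p : Fin S.card × Fin S.card,
      f ≫ smulMod A N (σ p.1 * σ p.2) = 0) → ∀ a ∈ I ^ (c + c), f ≫ smulMod A N a = 0 := by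
    intro M N f hf
    refine comp_smulMod_add_eq_zero I f fun a ha b hb => ?_
    rw [← Category.assoc]
    refine hgens _ (fun i => ?_) b hb
    rw [Category.assoc, Rees.smulMod_naturality, ← Category.assoc]
    refine hgens _ (fun j => ?_) a ha
    rw [Category.assoc, ← Rees.smulMod_mul]
    exact hf (j, i)
  choose βp hβ1 hβ2 using fun p : Fin S.card × Fin S.card =>
    exists_partial_inverse α (σ p.1) (σ p.2) (fun n => (ht n).1 _ (hσ p.2)) (fun n => (ht n).2 _ (hσ p.1))
  let H : X.Modules := ⨁ (fun _ : Fin S.card × Fin S.card => G)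
  have hH : Coh.IsCoh H := CohSupport.isCoh_of_iso (biproduct.isoCoproduct _).symm
    (Existence.isCoh_sigma (fun _ : Fin S.card × Fin S.card => G) fun _ => hG)
  let d : G ⟶ H := biproduct.lift fun p => smulMod A G (σ p.1 * σ p.2)
  let β : F ⟶ Formal.completion I H := ∑ p, βp p ≫ cmap I (biproduct.ι (fun _ : Fin S.card × Fin S.card => G) p)
  have hβ : ∀ n, β.app (op n) = ∑ p, (βp p).app (op n) ≫
      redMap I (n + 1) (biproduct.ι (fun _ : Fin S.card × Fin S.card => G) p) := fun n => by
    simp only [β, NatTrans.app_sum, NatTrans.comp_app, cmap_app]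
  have hβπ : ∀ n p, β.app (op n) ≫ redMap I (n + 1) (biproduct.π (fun _ : Fin S.card × Fin S.card => G) p) =
      (βp p).app (op n) := fun n p => by
    rw [hβ, Preadditive.sum_comp, Finset.sum_eq_single p]
    · rw [Category.assoc, redMap_comp, biproduct.ι_π_self, redMap_id]
      exact Category.comp_id _
    · intro q _ hq
      rw [Category.assoc, redMap_comp, biproduct.ι_π_ne _ hq, redMap_zero, comp_zero]
    · exact fun h => absurd (Finset.mem_univ p) h
  have hαβ : ∀ n, α.app (op n) ≫ β.app (op n) = redMap I (n + 1) d := fun n => by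
    rw [hβ, Preadditive.comp_sum, show d = _ from biproduct.lift_eq, redMap_sum]
    refine Finset.sum_congr rfl fun p _ => ?_
    rw [← Category.assoc, hβ1, ← redMap_comp, redMap_smulMod]
    rfl
  have hβker : ∀ n {M : X.Modules} (k : M ⟶ F.obj (op n)), k ≫ β.app (op n) = 0 →
      ∀ a ∈ I ^ (c + c), k ≫ smulMod A (F.obj (op n)) a = 0 := fun n M k hk => hpairs k fun p => by
    rw [← hβ2 p n, ← hβπ n p, Category.assoc, reassoc_of% hk, zero_comp]
  -- the subsheaf
  have hd := CohKernel.isCoh_kernel_cokernel hG hH d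
  let q := cokernel.π d
  haveI : Epi q := coequalizer.π_epi
  obtain ⟨e, Q', q', hq', hQ', hker, htf⟩ := exists_torsionFree_quot I hd.2
  haveI := hq'
  let q'' : H ⟶ Q' := q ≫ q'
  haveI : Epi q'' := epi_comp _ _
  have hdq : d ≫ q'' = 0 := by rw [cokernel.condition_assoc, zero_comp]
  have hγ : ∀ n, β.app (op n) ≫ redMap I (n + 1) q'' = 0 := fun n => by
    refine htf hF (β ≫ cmap I q'') c (fun a ha k => ?_) n
    rw [NatTrans.comp_app, cmap_app]
    have h0 : α.app (op k) ≫ β.app (op k) ≫ redMap I (k + 1) q'' = 0 := by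
      rw [reassoc_of% hαβ k, redMap_comp, hdq, redMap_zero]
    rw [← Rees.smulMod_naturality A (β.app (op k) ≫ redMap I (k + 1) q'') a, ← cokernel.π_desc (α.app (op k)) _ h0, ← Category.assoc,
      Rees.smulMod_naturality, (ht k).2 a ha, comp_zero, zero_comp]
  obtain ⟨ψ, hψ, -⟩ := exists_lift_kernel hH hQ' q'' hF β hγ
  let J := kernel q''
  have hJ : Coh.IsCoh J := (CohKernel.isCoh_kernel_cokernel hH hQ' q'').1
  haveI : Coh.IsQCoh J := hJ.1
  let d' : G ⟶ J := kernel.lift q'' d hdq
  have hd'ι : d' ≫ kernel.ι q'' = d := kernel.lift_ι _ _ _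
  have hαψ : ∀ n, α.app (op n) ≫ ψ.app (op n) = redMap I (n + 1) d' := fun n => by
    have h := eq_zero_of_comp_mono I hJ hH (kernel.ι q'') (isCohFormal_completion hG) (α ≫ ψ - cmap I d')
      (fun k => by
        rw [NatTrans.app_sub, NatTrans.comp_app, cmap_app, Preadditive.sub_comp, Category.assoc, hψ, redMap_comp,
          hd'ι, hαβ, sub_self]) n
    rwa [NatTrans.app_sub, NatTrans.comp_app, cmap_app, sub_eq_zero] at h
  have hd'c : ∀ b ∈ I ^ e, smulMod A J b ≫ cokernel.π d' = 0 := fun b hb => by
    refine AffineBC.hom_ext_affine _ _ fun U hU y => ?_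
    show (cokernel.π d').app U ((smulMod A J b).app U y) = 0
    have h1 : (kernel.ι q'' ≫ q) ≫ smulMod A (cokernel d) b = 0 :=
      hker _ (by rw [Category.assoc, kernel.condition]) b hb
    rw [Category.assoc, ← Rees.smulMod_naturality, ← Category.assoc, ← Rees.smulMod_naturality] at h1
    obtain ⟨g, hg⟩ := HomSh.exists_of_cokernel_app_eq_zero hG hH d hU
      (show (cokernel.π d).app U ((kernel.ι q'').app U ((smulMod A J b).app U y)) = 0 from app_eq h1 y)
    have h2 : d'.app U g = (smulMod A J b).app U y := by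
      refine Acc.app_injective (kernel.ι q'') U ((app_eq hd'ι g).trans ?_)
      exact hg
    rw [← h2]
    exact app_eq (cokernel.condition d') g
  have hψK : Formal2.KerCokerKilledByIPow I ψ := ⟨c + c + e, fun n => ⟨fun a ha => ?_, fun a ha => ?_⟩⟩
  rotate_left
  · refine smulMod_eq_zero_of_comp (kernel.ι (ψ.app (op n))) ?_
    refine hβker n _ ?_ a (Ideal.pow_le_pow_right (by omega) ha)
    rw [← hψ n, kernel.condition_assoc, zero_comp]
  · haveI : Epi (cokernel.π (ψ.app (op n))) := coequalizer.π_epi
    refine smulMod_eq_zero_of_epi (cokernel.π (ψ.app (op n))) ?_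
    haveI := Existence.epi_modPowπ I (n + 1) J
    rw [← cancel_epi (modPowπ I (n + 1) J), comp_zero, ← Category.assoc]
    show (modPowπ I (n + 1) J ≫ smulMod A (modPow I (n + 1) J) a) ≫ _ = 0
    rw [← Rees.smulMod_naturality, Category.assoc]
    have h0 : d' ≫ modPowπ I (n + 1) J ≫ cokernel.π (ψ.app (op n)) = 0 := by
      rw [← Category.assoc, ← π_redMap, ← hαψ n]
      simp only [Category.assoc, cokernel.condition, comp_zero]
    rw [← cokernel.π_desc d' _ h0, ← Category.assoc, hd'c a (Ideal.pow_le_pow_right (by omega) ha), zero_comp]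
  obtain ⟨F', a', E, hF', ⟨t', ht'k, ht'c⟩, hE, -⟩ := exists_algebraization_left I hJ hF ψ hψK
  obtain ⟨a, haa', hared⟩ := exists_lift_hom I hG hF' hJ a' d' ht'k ht'c (α ≫ E.hom) fun n => by
    rw [NatTrans.comp_app, Category.assoc, hE, hαψ]
  have hKa := CohKernel.isCoh_kernel_cokernel hG hF' a
  haveI : Coh.IsQCoh F' := hF'.1
  refine ⟨F', a, E.symm, hF', ⟨c + c + e + t', fun b hb => ?_, fun b hb => ?_⟩, fun n => ?_⟩
  · refine smulMod_eq_zero_of_comp (kernel.ι a) (hpairs _ (fun p => ?_) b (Ideal.pow_le_pow_right (by omega) hb))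
    have h0 : kernel.ι a ≫ d = 0 := by rw [← hd'ι, ← haa', Category.assoc, kernel.condition_assoc, zero_comp]
    have h1 := congrArg (· ≫ biproduct.π (fun _ : Fin S.card × Fin S.card => G) p) h0
    simpa [d, H] using h1
  · haveI : Epi (cokernel.π a) := coequalizer.π_epi
    refine smulMod_eq_zero_of_epi (cokernel.π a) ?_
    have hb' : b ∈ I ^ (e + (t' + 1)) := Ideal.pow_le_pow_right (by omega) hb
    have hmain : ∀ r ∈ I ^ e, ∀ r' ∈ I ^ (t' + 1), cokernel.π a ≫ smulMod A (cokernel a) r ≫
        smulMod A (cokernel a) r' = 0 := fun r hr r' hr' => by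
      refine AffineBC.hom_ext_affine _ _ fun U hU y => ?_
      rw [← reassoc_of% (Rees.smulMod_naturality A (cokernel.π a) r), ← Rees.smulMod_naturality]
      show (cokernel.π a).app U ((smulMod A F' r').app U ((smulMod A F' r).app U y)) = 0
      let y' : Γ(F', U) := (smulMod A F' r).app U y
      have h1 : (cokernel.π d').app U (a'.app U y') = 0 :=
        (congrArg ((cokernel.π d').app U) (app_eq (Rees.smulMod_naturality A a' r) y)).trans
          (app_eq (hd'c r hr) (a'.app U y))
      obtain ⟨g, hg⟩ := HomSh.exists_of_cokernel_app_eq_zero hG hJ d' hU h1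
      have h2 : a'.app U (y' - a.app U g) = 0 := by
        rw [map_sub, show a'.app U (a.app U g) = d'.app U g from app_eq haa' g, hg, sub_self]
      obtain ⟨k, hk⟩ := HomSh.exists_kernel_lift a' _ h2
      have h3 : (smulMod A F' r').app U ((kernel.ι a').app U k) = 0 := by
        rw [show (smulMod A F' r').app U ((kernel.ι a').app U k) =
          (kernel.ι a').app U ((smulMod A (kernel a') r').app U k) from
          app_eq (Rees.smulMod_naturality A (kernel.ι a') r').symm k, ht'k r' hr']
        exact map_zero _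
      rw [hk, map_sub, sub_eq_zero] at h3
      rw [h3, show (smulMod A F' r').app U (a.app U g) = a.app U ((smulMod A G r').app U g) from
        app_eq (Rees.smulMod_naturality A a r').symm g]
      exact app_eq (cokernel.condition a) _
    rw [Rees.smulMod_naturality]
    exact comp_smulMod_add_eq_zero I _ hmain b hb'
  · rw [← Category.assoc a, ← π_redMap, hared n, Category.assoc, NatTrans.comp_app, Category.assoc,
      show E.hom.app (op n) ≫ E.symm.hom.app (op n) = 𝟙 _ by rw [← NatTrans.comp_app]; simp]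
    rw [Category.comp_id]

end Groth.L16.Exist
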