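import Groth.Agent.L16.Exist.AlgLine
import Groth.Agent.L16.Exist.AdicSections
import Groth.Agent.L18.RelAmpleCrit
import Groth.Agent.L18.IdealModule

/-!
An invertible module on a proper scheme over a complete ring is ample when it is ample on the special fibre.
-/

set_option autoImplicit false
set_option linter.style.haveILetI false
set_option backward.isDefEq.respectTransparency false
set_option backward.isDefEq.respectTransparency.types false

universe u

open CategoryTheory CategoryTheory.Limits AlgebraicGeometry TopologicalSpace Opposite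

noncomputable section

namespace Groth.L16.Exist.Adic

open Formal (smulMod modPow modPowπ modPowTrans modPowπ_trans)
open Groth.L18.Frame (rs rs_self)
open AffineBC (scal)
open Groth.L00.Tensor (tensorIso tensorComm tensorPowIso)

variable {A : Type u} [CommRing A] [IsNoetherianRing A] {I : Ideal A} [IsAdicComplete I A] {X : Scheme.{u}}
  [X.Over (Spec (CommRingCat.of A))] [IsProper (X ↘ Spec (CommRingCat.of A))]
  {Xs : ℕ → Scheme.{u}} [∀ k, (Xs k).Over (Spec (CommRingCat.of A))]
  {p : (k : ℕ) → (Xs k ⟶ Spec (CommRingCat.of (A ⧸ I ^ (k + 1))))} {i : (k : ℕ) → (Xs k ⟶ Xs (k + 1))}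

/-- Global generation of large twists, from ampleness on the special fibre. -/
theorem exists_gg_twist (S : IsSys I Xs p i) (e : (k : ℕ) → (Xs k ⟶ X))
    (hcl : ∀ k, IsClosedImmersion (e k)) (he : ∀ k, e k = i k ≫ e (k + 1))
    (hcart : ∀ k, IsPullback (e k) (p k) (X ↘ Spec (CommRingCat.of A)) (CohB1.specQuot I k))
    (L : (k : ℕ) → (Xs k).Modules) (hL : ∀ k, PicF.IsInvertible (L k))
    (φ : ∀ k, (Scheme.Modules.pullback (i k)).obj (L (k + 1)) ≅ L k) (ha : CohB1.IsAmple (L 0))
    {M : X.Modules} (hMinv : PicF.IsInvertible M) (a : ∀ k, (Scheme.Modules.pullback (e k)).obj M ≅ L k)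
    {G : X.Modules} (hG : Coh.IsCoh G) :
    ∃ n₀ : ℕ, ∀ n : ℕ, n₀ ≤ n →
      Curv2.IsGloballyGenerated (CohB1.tensorMod G (CohB1.tensorPow M n)) := by
  classical
  haveI : IsLocallyNoetherian X := LocallyOfFiniteType.isLocallyNoetherian (X ↘ Spec (CommRingCat.of A))
  haveI : CompactSpace X := QuasiCompact.compactSpace_of_compactSpace (X ↘ Spec (CommRingCat.of A))
  haveI : AlgebraicGeometry.IsNoetherian X := {}
  haveI : IsProper (Xs 0 ↘ Spec (CommRingCat.of A)) := by
    haveI := hcl 0
    rw [← (hcart 0).w.trans (S.base 0)]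
    infer_instance
  haveI : IsLocallyNoetherian (Xs 0) := LocallyOfFiniteType.isLocallyNoetherian (Xs 0 ↘ Spec (CommRingCat.of A))
  haveI := isLocallyNoetherian S
  let F : (k : ℕ) → (Xs k).Modules := fun k => (Scheme.Modules.pullback (e k)).obj G
  have hF : ∀ k, Coh.IsCoh (F k) := fun k => AffineBC.isCoh_pullback (e k) hG
  let ψ : ∀ k, (Scheme.Modules.pullback (i k)).obj (F (k + 1)) ≅ F k := fun k =>
    (Scheme.Modules.pullbackComp (i k) (e (k + 1))).app G ≪≫ (Scheme.Modules.pullbackCongr (he k).symm).app G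
  obtain ⟨n₁, hη⟩ := exists_surjective_unit S F hF ψ L hL φ ha
  obtain ⟨n₂, hgg⟩ := exists_uniform_gg S F hF ψ L hL φ ha
  refine ⟨max n₁ n₂, fun n hn => ?_⟩
  refine Groth.L18.Ample.isGloballyGenerated_of_iso
    (F := CohB1.tensorMod (CohB1.tensorPow M n) G) (tensorComm _ _) ?_
  let H := CohB1.tensorMod (CohB1.tensorPow M n) G
  have hH : Coh.IsCoh H := by
    have hP := ProperFinite.isCoh_of_isInvertible (Groth.L18.Ample.isInvertible_tensorPow hMinv n)
    haveI : Coh.IsQCoh (CohB1.tensorPow M n) := hP.1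
    haveI : Coh.IsQCoh G := hG.1
    exact ⟨Groth.L00.Tensor.isQCoh_tensorMod _ _, Groth.L00.Tensor.isFT_tensorMod _ _ hP.2 hG.2⟩
  haveI : Coh.IsQCoh H := hH.1
  let β : ∀ k, (Scheme.Modules.pullback (e k)).obj H ≅ CohB1.tensorMod (CohB1.tensorPow (L k) n) (F k) := fun k =>
    (Groth.L29.DC.PullTensor.pullTensor (e k) (CohB1.tensorPow M n) G).symm ≪≫
      tensorIso (Groth.L18.Ample.pullPow (e k) M n ≪≫ tensorPowIso (a k) n) (Iso.refl _)
  -- the transition maps are surjective on global sections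
  have htrans : ∀ k, Function.Surjective ((modPowTrans I (k + 1) H).app ⊤) := by
    intro k
    haveI := hcl (k + 1)
    let f := i k ≫ e (k + 1)
    haveI : IsClosedImmersion f := by
      show IsClosedImmersion (i k ≫ e (k + 1))
      rw [← he k]; exact hcl k
    obtain ⟨q', hq'⟩ := exists_modPow_iso_unit (hcart (k + 1)) (S.base (k + 1)) hH
    obtain ⟨q, hq⟩ := exists_modPow_iso_unit (f := f)
      (show IsPullback (i k ≫ e (k + 1)) (p k) _ (CohB1.specQuot I k) by rw [← he k]; exact hcart k) (S.base k) hH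
    obtain ⟨ec, hec⟩ := exists_unit_comp (i k) (e (k + 1)) H
    haveI := Existence.epi_modPowπ I (k + 1 + 1) H
    have key : modPowTrans I (k + 1) H ≫ q.hom = q'.hom ≫
        (Coh.push (e (k + 1))).map ((Scheme.Modules.pullbackPushforwardAdjunction (i k)).unit.app _) ≫ ec.hom := by
      rw [← cancel_epi (modPowπ I (k + 1 + 1) H), ← Category.assoc, modPowπ_trans, hq, reassoc_of% hq']
      exact hec.symm
    intro y
    obtain ⟨y₁, hy₁⟩ := (ConcreteCategory.bijective_of_isIso (ec.hom.app ⊤)).2 (q.hom.app ⊤ y)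
    obtain ⟨y₂, hy₂⟩ := surjective_unit_top_of_iso (i k) (β (k + 1)).symm
      (hη n ((le_max_left _ _).trans hn) k) y₁
    obtain ⟨x, hx⟩ := (ConcreteCategory.bijective_of_isIso (q'.hom.app ⊤)).2 y₂
    refine ⟨x, (ConcreteCategory.bijective_of_isIso (q.hom.app ⊤)).1 ?_⟩
    refine (ConcreteCategory.congr_hom (congrArg (fun t => Scheme.Modules.Hom.app t ⊤) key) x).trans ?_
    show ec.hom.app ⊤ (((Scheme.Modules.pullbackPushforwardAdjunction (i k)).unit.app _).app ⊤ (q'.hom.app ⊤ x)) = _
    rw [hx]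
    exact (congrArg (ec.hom.app ⊤) hy₂).trans hy₁
  choose lift hlift using htrans
  have hsect : ∀ y₀ : Γ(modPow I (0 + 1) H, ⊤), ∃ z : Γ(H, ⊤), (modPowπ I (0 + 1) H).app ⊤ z = y₀ := fun y₀ => by
    let y : ∀ k, Γ(modPow I (k + 1) H, ⊤) := fun k =>
      Nat.rec (motive := fun k => Γ(modPow I (k + 1) H, ⊤)) y₀ (fun k yk => lift k yk) k
    obtain ⟨z, hz, -⟩ := sect_exists I hH y fun k => hlift k (y k)
    exact ⟨z, hz 0⟩
  -- finitely many generators
  haveI := sect_finite (C := A) (W := X) hH
  letI := Module.compHom Γ(H, ⊤) (scal A X ⊤)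
  obtain ⟨N, s, hs⟩ := Module.Finite.exists_fin (R := A) (M := Γ(H, ⊤))
  let π₀ : FlatMod.freeMod X N ⟶ H := Sigma.desc fun l => Groth.L16.homOfSection H (s l)
  haveI : Epi π₀ := by
    refine Preadditive.epi_of_cokernel_zero ?_
    have hC := (CohKernel.isCoh_kernel_cokernel (F := FlatMod.freeMod X N)
      (Existence.isCoh_sigma _ fun _ => ProperFinite.isCoh_of_isInvertible
        (Groth.L18.Ample.isInvertible_structureModule X)) hH π₀).2
    let c := cokernel.π π₀
    haveI : Epi c := coequalizer.π_epi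
    obtain ⟨red, hred⟩ := Existence.modPow_desc I (c ≫ modPowπ I (0 + 1) (cokernel π₀)) (n := 0 + 1)
      fun b hb => by
        rw [← Category.assoc, Rees.smulMod_naturality, Category.assoc, Rees.smulMod_modPowπ I _ hb, comp_zero]
    have hc : ∀ z : Γ(H, ⊤), c.app ⊤ z = 0 := by
      intro z
      have hz : z ∈ Submodule.span A (Set.range s) := hs ▸ Submodule.mem_top
      induction hz using Submodule.span_induction with
      | mem y hy =>
        obtain ⟨l, rfl⟩ := hy
        have h1 : Groth.L16.homOfSection H (s l) ≫ c = 0 := by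
          rw [← Sigma.ι_desc (fun l => Groth.L16.homOfSection H (s l)) l, Category.assoc]
          show _ ≫ π₀ ≫ c = 0
          rw [cokernel.condition, comp_zero]
        have h2 := ConcreteCategory.congr_hom (congrArg (fun t => Scheme.Modules.Hom.app t ⊤) h1) (1 : Γ(X, ⊤))
        refine Eq.trans ?_ h2
        show c.app ⊤ (s l) = c.app ⊤ ((Groth.L16.homOfSection H (s l)).app ⊤ (1 : Γ(X, ⊤)))
        rw [Groth.L16.homOfSection_app, one_smul]
        exact congrArg (c.app ⊤) (rs_self H le_rfl (s l)).symm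
      | zero => exact map_zero _
      | add y y' _ _ h h' => rw [map_add, h, h', add_zero]
      | smul d y _ h =>
        show c.app ⊤ (scal A X ⊤ d • y) = 0
        rw [Scheme.Modules.Hom.app_smul, h, smul_zero]
    have hggQ : Curv2.IsGloballyGenerated (modPow I (0 + 1) H) := by
      haveI := hcl 0
      obtain ⟨q, -⟩ := exists_modPow_iso_unit (hcart 0) (S.base 0) hH
      exact Groth.L18.Ample.isGloballyGenerated_of_iso q.symm (isGloballyGenerated_push (e 0)
        (Groth.L18.Ample.isGloballyGenerated_of_iso (β 0).symm (hgg n ((le_max_right _ _).trans hn) 0)))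
    have h0 : red = 0 := Groth.L18.Ample.eq_zero_of_killsGlobal hggQ red fun y => by
      obtain ⟨z, rfl⟩ := hsect y
      refine (ConcreteCategory.congr_hom (congrArg (fun t => Scheme.Modules.Hom.app t ⊤) hred) z).trans ?_
      show (modPowπ I (0 + 1) (cokernel π₀)).app ⊤ (c.app ⊤ z) = 0
      rw [hc z, map_zero]
    have h1 : modPowπ I 1 (cokernel π₀) = 0 := by
      rw [← cancel_epi c, comp_zero]
      exact hred.symm.trans (by rw [h0, comp_zero])
    have h2 := eq_zero_of_reduction (X ↘ Spec (CommRingCat.of A)).isClosedMap hC h1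
    rw [← Category.comp_id (cokernel.π π₀), h2, comp_zero]
  exact Groth.L18.Ample.isGloballyGenerated_of_freeMod π₀

/-- Ampleness is detected on the special fibre. -/
theorem isAmple_of_special (S : IsSys I Xs p i) (e : (k : ℕ) → (Xs k ⟶ X))
    (hcl : ∀ k, IsClosedImmersion (e k)) (he : ∀ k, e k = i k ≫ e (k + 1))
    (hcart : ∀ k, IsPullback (e k) (p k) (X ↘ Spec (CommRingCat.of A)) (CohB1.specQuot I k))
    (L : (k : ℕ) → (Xs k).Modules) (hL : ∀ k, PicF.IsInvertible (L k))
    (φ : ∀ k, (Scheme.Modules.pullback (i k)).obj (L (k + 1)) ≅ L k) (ha : CohB1.IsAmple (L 0))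
    {M : X.Modules} (hMinv : PicF.IsInvertible M) (a : ∀ k, (Scheme.Modules.pullback (e k)).obj M ≅ L k) :
    CohB1.IsAmple M := by
  haveI : IsLocallyNoetherian X := LocallyOfFiniteType.isLocallyNoetherian (X ↘ Spec (CommRingCat.of A))
  haveI : CompactSpace X := QuasiCompact.compactSpace_of_compactSpace (X ↘ Spec (CommRingCat.of A))
  refine Groth.L18.Ample.isAmple_of_ideals_gg hMinv fun K hK => ?_
  obtain ⟨n₀, hn⟩ := exists_gg_twist S e hcl he hcart L hL φ ha hMinv a (Groth.L18.IdealModule.isCoh_idealMod K hK)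
  exact ⟨n₀, hn (n₀ + 1) (Nat.le_succ _)⟩

end Groth.L16.Exist.Adic
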