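import Groth.Agent.L16.Exist.AlgEmbedding
import Groth.Agent.L16.Exist.AlgClosed
import Groth.Agent.L16.Exist.AlgAmple

/-!
Grothendieck's algebraisation theorem for a system with ample special fibre.
-/

set_option autoImplicit false
set_option linter.style.haveILetI false
set_option backward.isDefEq.respectTransparency false
set_option backward.isDefEq.respectTransparency.types false

universe u

open CategoryTheory CategoryTheory.Limits AlgebraicGeometry TopologicalSpace Opposite

noncomputable section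

namespace Groth.L16.Exist.Adic

variable {A : Type u} [CommRing A] [IsNoetherianRing A] {I : Ideal A} [IsAdicComplete I A]
  {Xs : ℕ → Scheme.{u}} [∀ k, (Xs k).Over (Spec (CommRingCat.of A))]
  {p : (k : ℕ) → (Xs k ⟶ Spec (CommRingCat.of (A ⧸ I ^ (k + 1))))} {i : (k : ℕ) → (Xs k ⟶ Xs (k + 1))}

/-- A system with ample special fibre is algebraic. -/
theorem exists_algebraization_ample (S : IsSys I Xs p i) [IsProper (Xs 0 ↘ Spec (CommRingCat.of A))]
    (L : (k : ℕ) → (Xs k).Modules) (hL : ∀ k, PicF.IsInvertible (L k))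
    (φ : ∀ k, (Scheme.Modules.pullback (i k)).obj (L (k + 1)) ≅ L k) (ha : CohB1.IsAmple (L 0)) :
    ∃ (Y : Scheme.{u}) (g : Y ⟶ Spec (CommRingCat.of A)) (M : Y.Modules) (e : (k : ℕ) → (Xs k ⟶ Y)),
      IsProper g ∧ PicF.IsInvertible M ∧ CohB1.IsAmple M ∧
      (∀ k, IsPullback (e k) (p k) g (CohB1.specQuot I k)) ∧ (∀ k, e k = i k ≫ e (k + 1)) ∧
      ∀ k, Nonempty ((Scheme.Modules.pullback (e k)).obj M ≅ L k) := by
  obtain ⟨n, r, hcl, hr, hbase⟩ := exists_embedding S L hL φ ha
  letI : (Groth.L18.PUP.P n A).Over (Spec (CommRingCat.of A)) := ⟨Groth.L18.PUP.pr n A⟩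
  haveI : IsProper (Groth.L18.PUP.P n A ↘ Spec (CommRingCat.of A)) :=
    inferInstanceAs (IsProper (CohB1.ProjSpace.toSpec n A))
  obtain ⟨Y, ι, e, hι, -, hecl, he, hcart⟩ := exists_closed_algebraization S r hcl hr hbase
  haveI := hι
  letI : Y.Over (Spec (CommRingCat.of A)) := ⟨ι ≫ (Groth.L18.PUP.P n A ↘ Spec (CommRingCat.of A))⟩
  haveI : IsProper (Y ↘ Spec (CommRingCat.of A)) :=
    inferInstanceAs (IsProper (ι ≫ (Groth.L18.PUP.P n A ↘ Spec (CommRingCat.of A))))
  obtain ⟨M, hM, ha'⟩ := exists_line_algebraization S e hecl he hcart L hL φ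
  let a : ∀ k, (Scheme.Modules.pullback (e k)).obj M ≅ L k := fun k => (ha' k).some
  exact ⟨Y, Y ↘ Spec (CommRingCat.of A), M, e, inferInstance, hM,
    isAmple_of_special S e hecl he hcart L hL φ ha hM a, hcart, he, fun k => ha' k⟩

end Groth.L16.Exist.Adic
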