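import Groth.Agent.L16.Exist.Rel
import Groth.Agent.L16.SchSupport
import Groth.Agent.L16.Acc

/-!
Completed maps, lifting into kernels, cokernels of formal modules and reduction to closed subschemes.
-/

set_option autoImplicit false
set_option linter.style.haveILetI false
set_option backward.isDefEq.respectTransparency false
set_option backward.isDefEq.respectTransparency.types false

universe u

open CategoryTheory CategoryTheory.Limits AlgebraicGeometry TopologicalSpace Opposite
open scoped TensorProduct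

noncomputable section

namespace Groth.L16.Exist

open Groth.L18.Frame (rs ro rs_rs rs_smul)
open Formal (smulMod smulFamily modPow modPowπ modPowTrans modPowπ_trans)
open AffineBC (scal)
open Existence (tr tr_comp tr_self)

variable {A : Type u} [CommRing A] {X : Scheme.{u}} [X.Over (Spec (CommRingCat.of A))] (I : Ideal A)

theorem app_eq {M N : X.Modules} {φ ψ : M ⟶ N} (h : φ = ψ) {U : X.Opens} (x : Γ(M, U)) :
    φ.app U x = ψ.app U x := by rw [h]

/-- The reduction of a morphism. -/
def redMap (m : ℕ) {M N : X.Modules} (φ : M ⟶ N) : modPow I m M ⟶ modPow I m N :=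
  cokernel.desc _ (φ ≫ modPowπ I m N) (by
    apply Sigma.hom_ext
    intro b
    rw [comp_zero, smulFamily, Sigma.ι_desc_assoc, ← Category.assoc, Rees.smulMod_naturality, Category.assoc,
      Rees.smulMod_modPowπ I N b.2, comp_zero])

theorem π_redMap (m : ℕ) {M N : X.Modules} (φ : M ⟶ N) : modPowπ I m M ≫ redMap I m φ = φ ≫ modPowπ I m N :=
  cokernel.π_desc _ _ _

theorem redMap_id (m : ℕ) (M : X.Modules) : redMap I m (𝟙 M) = 𝟙 _ := by
  haveI := Existence.epi_modPowπ I m M
  rw [← cancel_epi (modPowπ I m M), π_redMap, Category.id_comp, Category.comp_id]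

theorem redMap_zero (m : ℕ) (M N : X.Modules) : redMap I m (0 : M ⟶ N) = 0 := by
  haveI := Existence.epi_modPowπ I m M
  rw [← cancel_epi (modPowπ I m M), π_redMap, zero_comp, comp_zero]

theorem redMap_comp (m : ℕ) {M N P : X.Modules} (φ : M ⟶ N) (ψ : N ⟶ P) :
    redMap I m φ ≫ redMap I m ψ = redMap I m (φ ≫ ψ) := by
  haveI := Existence.epi_modPowπ I m M
  rw [← cancel_epi (modPowπ I m M), reassoc_of% π_redMap I m φ, π_redMap, π_redMap, Category.assoc]

theorem redMap_trans (n : ℕ) {M N : X.Modules} (φ : M ⟶ N) :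
    modPowTrans I n M ≫ redMap I n φ = redMap I (n + 1) φ ≫ modPowTrans I n N := by
  haveI := Existence.epi_modPowπ I (n + 1) M
  rw [← cancel_epi (modPowπ I (n + 1) M), reassoc_of% modPowπ_trans I n M, π_redMap,
    reassoc_of% π_redMap I (n + 1) φ, modPowπ_trans]

/-- A morphism of completions. -/
def cmap {M N : X.Modules} (φ : M ⟶ N) : Formal.completion I M ⟶ Formal.completion I N :=
  NatTrans.ofOpSequence (F := Formal.completion I M) (G := Formal.completion I N)
    (fun n => redMap I (n + 1) φ) fun n => by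
    rw [show (Formal.completion I M).map (homOfLE (Nat.le_succ n)).op = modPowTrans I (n + 1) M from
      Existence.completion_tr I M n, show (Formal.completion I N).map (homOfLE (Nat.le_succ n)).op =
      modPowTrans I (n + 1) N from Existence.completion_tr I N n]
    exact redMap_trans I (n + 1) φ

theorem modPow_app_tr (M : X.Modules) {n m : ℕ} (h : n ≤ m) {U : X.Opens} (x : Γ(M, U)) :
    (tr (Formal.completion I M) n m h).app U ((modPowπ I (m + 1) M).app U x) = (modPowπ I (n + 1) M).app U x :=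
  app_eq (Existence.π_completion_tr I M h) x

variable [AlgebraicGeometry.IsNoetherian X] {I}

/-- A map killed by a surjection lifts to the completion of its kernel. -/
theorem exists_lift_kernel {M Q : X.Modules} (hM : Coh.IsCoh M) (hQ : Coh.IsCoh Q) (q : M ⟶ Q) [Epi q]
    {G : ℕᵒᵖ ⥤ X.Modules} (hG : Formal.IsCohFormal I G) (β : G ⟶ Formal.completion I M)
    (hβ : ∀ n, β.app (op n) ≫ redMap I (n + 1) q = 0) :
    ∃ ψ : G ⟶ Formal.completion I (kernel q),
      (∀ n, ψ.app (op n) ≫ redMap I (n + 1) (kernel.ι q) = β.app (op n)) ∧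
      ((∀ n (U : X.Opens), IsAffineOpen U → ∀ y : Γ(kernel q, U), ∃ g : Γ(G.obj (op n), U),
          (β.app (op n)).app U g = (modPowπ I (n + 1) M).app U ((kernel.ι q).app U y)) →
        ∀ n, Epi (ψ.app (op n))) := by
  have hF : Coh.IsCoh (kernel q) := (CohKernel.isCoh_kernel_cokernel hM hQ q).1
  haveI : Coh.IsQCoh M := hM.1
  haveI : Coh.IsQCoh Q := hQ.1
  haveI : ∀ m, Coh.IsQCoh (modPow I m M) := fun m => (modPow_spec I hM m).1.1
  obtain ⟨ψ, hψ⟩ := exists_hom_completion hG hF
    (fun m U g y => (β.app (op m)).app U g = (modPowπ I (m + 1) M).app U ((kernel.ι q).app U y))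
    (fun m U g g' z z' h h' => (map_add _ g g').trans ((congrArg₂ (· + ·) h h').trans
      ((map_add ((modPowπ I (m + 1) M).app U).hom _ _).symm.trans
        (congrArg _ (map_add ((kernel.ι q).app U).hom z z').symm))))
    (fun m U r g z h => by
      rw [Scheme.Modules.Hom.app_smul, h, Scheme.Modules.Hom.app_smul, ← Scheme.Modules.Hom.app_smul])
    (fun m U V hVU g z h => by
      rw [HomSh.app_rs, HomSh.app_rs, HomSh.app_rs, h]
      rfl)
    (fun m U hU g => by
      obtain ⟨x, hx⟩ := ((modPow_spec I hM (m + 1)).2 U hU).1 ((β.app (op m)).app U g)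
      have h0 : (modPowπ I (m + 1) Q).app U (q.app U x) = 0 := by
        refine ((app_eq (π_redMap I (m + 1) q) x).symm).trans ?_
        show (redMap I (m + 1) q).app U ((modPowπ I (m + 1) M).app U x) = 0
        rw [hx]
        exact (app_eq (hβ m) g).trans rfl
      have h1 := (((modPow_spec I hQ (m + 1)).2 U hU).2 _).1 h0
      let qL : Γ(M, U) →ₗ[Γ(X, U)] Γ(Q, U) :=
        { toFun := q.app U, map_add' := map_add _, map_smul' := fun r y => q.app_smul r y }
      have h2 : qL x ∈ Submodule.map qL (I.map (scal A X U) ^ (m + 1) • ⊤) := by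
        rw [Submodule.map_smul'', Submodule.map_top, LinearMap.range_eq_top.2 (show Function.Surjective qL from
          AffineBC.surjective_app_of_epi q hU)]
        exact h1
      obtain ⟨w, hw, hwx⟩ := h2
      obtain ⟨y, hy⟩ := HomSh.exists_kernel_lift q (x - w) (by
        rw [map_sub]; exact sub_eq_zero.2 hwx.symm)
      refine ⟨y, ?_⟩
      rw [hy, map_sub, (((modPow_spec I hM (m + 1)).2 U hU).2 w).2 hw, sub_zero]
      exact hx.symm)
    (fun m U g z h => by
      refine ((app_eq (β.naturality (homOfLE (Nat.le_succ m)).op) g).trans ?_)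
      show (tr (Formal.completion I M) m (m + 1) (Nat.le_succ m)).app U ((β.app (op (m + 1))).app U g) = _
      rw [h]
      exact modPow_app_tr I M (Nat.le_succ m) _)
    (fun U hU n => by
      haveI : IsNoetherianRing Γ(X, U) := IsLocallyNoetherian.component_noetherian ⟨U, hU⟩
      haveI := Groth.L20.ModStalk.finite_sections M hM hU
      let ιL : Γ(kernel q, U) →ₗ[Γ(X, U)] Γ(M, U) :=
        { toFun := (kernel.ι q).app U, map_add' := map_add _, map_smul' := fun r y => (kernel.ι q).app_smul r y }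
      have hinj : Function.Injective ιL := by
        refine (injective_iff_map_eq_zero _).2 fun y hy => ?_
        haveI : Coh.IsQCoh (kernel q) := hF.1
        exact Acc.app_injective (kernel.ι q) U ((hy : (kernel.ι q).app U y = 0).trans (map_zero _).symm)
      obtain ⟨c, hc⟩ := Ideal.exists_pow_inf_eq_pow_smul (I.map (scal A X U)) (LinearMap.range ιL)
      refine ⟨n + c, Nat.le_add_right n c, fun z hz => ?_⟩
      rw [map_zero] at hz
      have h1 : ιL z ∈ I.map (scal A X U) ^ (n + c + 1) • (⊤ : Submodule Γ(X, U) Γ(M, U)) ⊓ LinearMap.range ιL :=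
        ⟨(((modPow_spec I hM (n + c + 1)).2 U hU).2 _).1 hz.symm, z, rfl⟩
      rw [hc (n + c + 1) (by omega), show n + c + 1 - c = n + 1 by omega] at h1
      have h2 : ιL z ∈ Submodule.map ιL (I.map (scal A X U) ^ (n + 1) • ⊤) := by
        rw [Submodule.map_smul'', Submodule.map_top]
        exact Submodule.smul_mono le_rfl inf_le_right h1
      obtain ⟨w, hw, hwz⟩ := h2
      rw [← hinj hwz]
      exact (((modPow_spec I hF (n + 1)).2 U hU).2 w).2 hw)
  refine ⟨ψ, fun n => AffineBC.hom_ext_affine _ _ fun U hU x => ?_, fun hhit n => ?_⟩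
  · obtain ⟨m₀, hm₀, hm₀'⟩ := hψ U hU n
    obtain ⟨g, rfl⟩ := tr_surjective hG hm₀ hU x
    obtain ⟨x', hx'⟩ := ((modPow_spec I hM (m₀ + 1)).2 U hU).1 ((β.app (op m₀)).app U g)
    have h0 : (modPowπ I (m₀ + 1) Q).app U (q.app U x') = 0 := by
      refine ((app_eq (π_redMap I (m₀ + 1) q) x').symm).trans ?_
      show (redMap I (m₀ + 1) q).app U ((modPowπ I (m₀ + 1) M).app U x') = 0
      rw [hx']
      exact (app_eq (hβ m₀) g).trans rfl
    have h1 := (((modPow_spec I hQ (m₀ + 1)).2 U hU).2 _).1 h0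
    let qL : Γ(M, U) →ₗ[Γ(X, U)] Γ(Q, U) :=
      { toFun := q.app U, map_add' := map_add _, map_smul' := fun r y => q.app_smul r y }
    have h2 : qL x' ∈ Submodule.map qL (I.map (scal A X U) ^ (m₀ + 1) • ⊤) := by
      rw [Submodule.map_smul'', Submodule.map_top, LinearMap.range_eq_top.2 (show Function.Surjective qL from
        AffineBC.surjective_app_of_epi q hU)]
      exact h1
    obtain ⟨w, hw, hwx⟩ := h2
    obtain ⟨y, hy⟩ := HomSh.exists_kernel_lift q (x' - w) (by
      rw [map_sub]; exact sub_eq_zero.2 hwx.symm)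
    have hR : (β.app (op m₀)).app U g = (modPowπ I (m₀ + 1) M).app U ((kernel.ι q).app U y) := by
      rw [hy, map_sub, (((modPow_spec I hM (m₀ + 1)).2 U hU).2 w).2 hw, sub_zero]
      exact hx'.symm
    show (redMap I (n + 1) (kernel.ι q)).app U ((ψ.app (op n)).app U _) = _
    rw [hm₀' m₀ hm₀ le_rfl g y hR]
    refine (app_eq (π_redMap I (n + 1) (kernel.ι q)) y).trans ?_
    show (modPowπ I (n + 1) M).app U ((kernel.ι q).app U y) = _
    rw [← modPow_app_tr I M hm₀, ← hR]
    exact (app_eq (β.naturality (homOfLE hm₀).op) g).symm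
  · refine ⟨fun u v huv => AffineBC.hom_ext_affine _ _ fun U hU t => ?_⟩
    obtain ⟨m₀, hm₀, hm₀'⟩ := hψ U hU n
    obtain ⟨y, rfl⟩ := ((modPow_spec I hF (n + 1)).2 U hU).1 t
    obtain ⟨g, hg⟩ := hhit m₀ U hU y
    rw [← hm₀' m₀ hm₀ le_rfl g y hg]
    exact app_eq huv _

/-- Levelwise cokernels of maps of formal modules. -/
theorem isCohFormal_cokernel {G H : ℕᵒᵖ ⥤ X.Modules} (hG : Formal.IsCohFormal I G) (hH : Formal.IsCohFormal I H)
    (α : G ⟶ H) (C : ℕᵒᵖ ⥤ X.Modules) (γ : H ⟶ C) (hγ : ∀ n, Epi (γ.app (op n)))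
    (hαγ : ∀ n, α.app (op n) ≫ γ.app (op n) = 0)
    (hdesc : ∀ n {T : X.Modules} (t : H.obj (op n) ⟶ T), α.app (op n) ≫ t = 0 → ∃ t', γ.app (op n) ≫ t' = t)
    (hC : ∀ n, Coh.IsCoh (C.obj (op n))) : Formal.IsCohFormal I C := by
  have nat : ∀ n, tr H n (n + 1) (Nat.le_succ n) ≫ γ.app (op n) =
      γ.app (op (n + 1)) ≫ tr C n (n + 1) (Nat.le_succ n) := fun n => γ.naturality _
  refine ⟨hC, fun n b hb => ?_, fun n => ?_⟩
  · haveI := hγ n
    rw [← cancel_epi (γ.app (op n)), comp_zero, ← Rees.smulMod_naturality, hH.2.1 n b hb, zero_comp]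
  · have h1 : smulFamily (I ^ (n + 1)) (C.obj (op (n + 1))) ≫ C.map (homOfLE (Nat.le_succ n)).op = 0 := by
      apply Sigma.hom_ext
      intro b
      haveI := hγ (n + 1)
      rw [comp_zero, smulFamily, Sigma.ι_desc_assoc, ← cancel_epi (γ.app (op (n + 1))), comp_zero,
        ← Category.assoc, ← Rees.smulMod_naturality, Category.assoc, ← nat, ← Category.assoc,
        Existence.smul_tr hH _ b.2, zero_comp]
    refine ⟨h1, ?_⟩
    let δ : modPow I (n + 1) (C.obj (op (n + 1))) ⟶ C.obj (op n) := cokernel.desc _ _ h1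
    obtain ⟨v₀, hv₀⟩ := Existence.exists_desc hH (Nat.le_succ n)
      (γ.app (op (n + 1)) ≫ modPowπ I (n + 1) (C.obj (op (n + 1)))) fun b hb => by
        rw [← Category.assoc, Rees.smulMod_naturality, Category.assoc, Rees.smulMod_modPowπ I _ hb, comp_zero]
    obtain ⟨v, hv⟩ := hdesc n v₀ (by
      haveI := Existence.epi_tr hG (Nat.le_succ n)
      rw [← cancel_epi (tr G n (n + 1) (Nat.le_succ n)), comp_zero, ← Category.assoc,
        show tr G n (n + 1) (Nat.le_succ n) ≫ α.app (op n) = α.app (op (n + 1)) ≫ tr H n (n + 1) (Nat.le_succ n)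
          from α.naturality _, Category.assoc, hv₀, reassoc_of% hαγ (n + 1), zero_comp])
    haveI := hγ n
    haveI := hγ (n + 1)
    haveI := Existence.epi_tr hH (Nat.le_succ n)
    haveI := Existence.epi_modPowπ I (n + 1) (C.obj (op (n + 1)))
    have hδ : modPowπ I (n + 1) (C.obj (op (n + 1))) ≫ δ = tr C n (n + 1) (Nat.le_succ n) := cokernel.π_desc _ _ _
    show IsIso δ
    refine ⟨⟨v, ?_, ?_⟩⟩
    · refine (cancel_epi (modPowπ I (n + 1) (C.obj (op (n + 1))))).1 ((cancel_epi (γ.app (op (n + 1)))).1 ?_)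
      rw [reassoc_of% hδ, ← reassoc_of% nat n, hv, hv₀]
      exact congrArg (_ ≫ ·) (Category.comp_id _).symm
    · refine (cancel_epi (γ.app (op n))).1 ((cancel_epi (tr H n (n + 1) (Nat.le_succ n))).1 ?_)
      rw [reassoc_of% hv, reassoc_of% hv₀, hδ, ← nat]
      exact congrArg (_ ≫ ·) (Category.comp_id _).symm

end Groth.L16.Exist
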