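import Groth.Agent.L16.Exist.AdicSystem
import Groth.Agent.L16.Exist.Systems

/-!
Coherent systems of modules on an adic system of schemes: the graded pieces on the special fibre.
-/

set_option autoImplicit false
set_option linter.style.haveILetI false
set_option backward.isDefEq.respectTransparency false
set_option backward.isDefEq.respectTransparency.types false

universe u

open CategoryTheory CategoryTheory.Limits AlgebraicGeometry TopologicalSpace Opposite

noncomputable section

namespace Groth.L16.Exist.Adic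

open Formal (smulMod)
open Existence (Sn aE aE_mem aE_add aE_single pow_le_span)
open AffineBC (scal)

variable {A : Type u} [CommRing A] {J : Ideal A} {Xs : ℕ → Scheme.{u}}
  [∀ k, (Xs k).Over (Spec (CommRingCat.of A))]
  {p : (k : ℕ) → (Xs k ⟶ Spec (CommRingCat.of (A ⧸ J ^ (k + 1))))} {i : (k : ℕ) → (Xs k ⟶ Xs (k + 1))}
  (S : IsSys J Xs p i) (F : (k : ℕ) → (Xs k).Modules) (hF : ∀ k, Coh.IsCoh (F k))
  (ψ : ∀ k, (Scheme.Modules.pullback (i k)).obj (F (k + 1)) ≅ F k)

/-- The reduction to the previous level. -/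
abbrev c (k : ℕ) : F (k + 1) ⟶ (Coh.push (i k)).obj ((Scheme.Modules.pullback (i k)).obj (F (k + 1))) :=
  (Scheme.Modules.pullbackPushforwardAdjunction (i k)).unit.app (F (k + 1))

/-- The kernel of the reduction. -/
abbrev Kn (k : ℕ) : (Xs (k + 1)).Modules := kernel (c (i := i) F k)

/-- The graded pieces. -/
abbrev KK (k : ℕ) : (Xs 0).Modules := (Scheme.Modules.pullback (j i (k + 1))).obj (Kn (i := i) F k)

/-- The restriction to the special fibre. -/
def θ : ∀ n, (Scheme.Modules.pullback (j i n)).obj (F n) ≅ F 0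
  | 0 => (Scheme.Modules.pullbackId (Xs 0)).app (F 0)
  | n + 1 => ((Scheme.Modules.pullbackComp (j i n) (i n)).app (F (n + 1))).symm ≪≫
      (Scheme.Modules.pullback (j i n)).mapIso (ψ n) ≪≫ θ n

include S hF in
theorem sect_c [IsNoetherianRing A] (k : ℕ) (U : (Xs (k + 1)).affineOpens) :
    Function.Surjective ((c (i := i) F k).app U.1) ∧ ∀ x, (c (i := i) F k).app U.1 x = 0 →
      x ∈ (J ^ (k + 1)).map (scal A (Xs (k + 1)) U.1) • (⊤ : Submodule Γ(Xs (k + 1), U.1) Γ(F (k + 1), U.1)) := by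
  haveI := isClosedImmersion_i S k
  haveI : Coh.IsQCoh (F (k + 1)) := (hF (k + 1)).1
  obtain ⟨h1, h2⟩ := ηU_spec (i k) (F (k + 1)) U
  exact ⟨h1, fun x hx => Submodule.smul_mono_left (ker_ideal_le (S.cart k) U) (h2 x hx)⟩

include S hF in
theorem epi_c [IsNoetherianRing A] (k : ℕ) : Epi (c (i := i) F k) :=
  ⟨fun u v h => AffineBC.hom_ext_affine _ _ fun U hU m => by
    obtain ⟨y, rfl⟩ := (sect_c S F hF k ⟨U, hU⟩).1 m
    exact ConcreteCategory.congr_hom (congrArg (fun t => Scheme.Modules.Hom.app t U) h) y⟩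

include S in
theorem smul_c (k : ℕ) {a : A} (ha : a ∈ J ^ (k + 1)) : smulMod A (F (k + 1)) a ≫ c (i := i) F k = 0 := by
  rw [Rees.smulMod_naturality, Supp.smulMod_push (i k) (i_base S k),
    smulMod_eq_zero (p k) (S.base k) _ ha, Functor.map_zero, comp_zero]

include S in
/-- Multiplication into the kernel. -/
def s (k : ℕ) (a : A) (ha : a ∈ J ^ (k + 1)) : F (k + 1) ⟶ Kn (i := i) F k :=
  kernel.lift _ (smulMod A (F (k + 1)) a) (smul_c S F k ha)

theorem s_ι (k : ℕ) (a : A) (ha : a ∈ J ^ (k + 1)) : s S F k a ha ≫ kernel.ι _ = smulMod A (F (k + 1)) a :=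
  kernel.lift_ι _ _ _

theorem s_congr (k : ℕ) {a b : A} (hab : a = b) (ha : a ∈ J ^ (k + 1)) (hb : b ∈ J ^ (k + 1)) :
    s S F k a ha = s S F k b hb := by
  subst hab
  rfl

variable {r : ℕ} {a : Fin r → A} (hJ : J = Ideal.span (Set.range a))

include hJ in
theorem aE_mem' (n : ℕ) (e : Sn r n) : aE a e.1 ∈ J ^ (n + 1) :=
  (congrArg (fun k => J ^ k) e.2).le (aE_mem a (fun l => hJ ▸ Ideal.subset_span ⟨l, rfl⟩) e.1)

/-- The monomial multiples into the kernel. -/
def se (k : ℕ) (e : Sn r k) : F (k + 1) ⟶ Kn (i := i) F k := s S F k (aE a e.1) (aE_mem' hJ k e)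

include hF in
theorem epi_se [IsNoetherianRing A] (k : ℕ) : Epi (Sigma.desc (se S F hJ k)) := by
  rw [Preadditive.epi_iff_cancel_zero]
  intro T δ hδ
  have he : ∀ e : Sn r k, se S F hJ k e ≫ δ = 0 := fun e => by
    rw [← Sigma.ι_desc (se S F hJ k) e, Category.assoc, hδ, comp_zero]
  refine AffineBC.hom_ext_affine _ _ fun U hU z => ?_
  show δ.app U z = 0
  let ι' := kernel.ι (c (i := i) F k)
  let N : Submodule Γ(Xs (k + 1), U) Γ(F (k + 1), U) :=
    { carrier := {x | ∃ z, ι'.app U z = x ∧ δ.app U z = 0}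
      add_mem' := by
        rintro _ _ ⟨z, rfl, hz⟩ ⟨z', rfl, hz'⟩
        exact ⟨z + z', map_add _ _ _, by rw [map_add, hz, hz', add_zero]⟩
      zero_mem' := ⟨0, map_zero _, map_zero _⟩
      smul_mem' := by
        rintro b _ ⟨z, rfl, hz⟩
        exact ⟨b • z, ι'.app_smul b z, by rw [Scheme.Modules.Hom.app_smul, hz, smul_zero]⟩ }
  have h0 : (c (i := i) F k).app U (ι'.app U z) = 0 := by
    have := ConcreteCategory.congr_hom (congrArg (fun t => Scheme.Modules.Hom.app t U)
      (kernel.condition (c (i := i) F k))) z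
    exact this
  have hmem := (sect_c S F hF k ⟨U, hU⟩).2 _ h0
  have hle : (J ^ (k + 1)).map (scal A (Xs (k + 1)) U) • (⊤ : Submodule Γ(Xs (k + 1), U) Γ(F (k + 1), U)) ≤ N := by
    refine (Submodule.smul_mono_left (Ideal.map_mono (pow_le_span a hJ (k + 1)))).trans ?_
    rw [Ideal.map_span, Submodule.smul_le]
    intro b hb x _
    induction hb using Submodule.span_induction with
    | mem y hy =>
      obtain ⟨_, ⟨e, he', rfl⟩, rfl⟩ := hy
      refine ⟨(se S F hJ k ⟨e, he'⟩).app U x, ?_, ?_⟩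
      · refine (ConcreteCategory.congr_hom (congrArg (fun t => Scheme.Modules.Hom.app t U)
          (s_ι S F k (aE a e) (aE_mem' hJ k ⟨e, he'⟩))) x).trans ?_
        exact HomSh.smulMod_app _ _ _ _
      · exact ConcreteCategory.congr_hom (congrArg (fun t => Scheme.Modules.Hom.app t U) (he ⟨e, he'⟩)) x
    | zero => rw [zero_smul]; exact N.zero_mem
    | add y y' _ _ h h' => rw [add_smul]; exact N.add_mem h h'
    | smul b y _ h => rw [smul_assoc]; exact N.smul_mem b h
  obtain ⟨z', hz', hδz⟩ := hle hmem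
  rwa [Acc.app_injective ι' U hz'] at hδz

/-- The monomial surjections onto the graded pieces. -/
def μ (k : ℕ) (e : Sn r k) : F 0 ⟶ KK (i := i) F k :=
  (θ F ψ (k + 1)).inv ≫ (Scheme.Modules.pullback (j i (k + 1))).map (se S F hJ k e)

include hF in
theorem epi_μ [IsNoetherianRing A] (k : ℕ) : Epi (Sigma.desc (μ S F ψ hJ k)) := by
  let P := Scheme.Modules.pullback (j i (k + 1))
  haveI := epi_se S F hF hJ k
  haveI : PreservesColimitsOfSize.{u, u} P :=
    (Scheme.Modules.pullbackPushforwardAdjunction _).leftAdjoint_preservesColimits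
  haveI : PreservesColimitsOfSize.{0, 0} P := preservesColimitsOfSize_shrink.{0, u, 0, u} _
  let q : (∐ fun _ : Sn r k => F 0) ⟶ P.obj (∐ fun _ : Sn r k => F (k + 1)) :=
    Sigma.desc fun e => (θ F ψ (k + 1)).inv ≫ P.map (Sigma.ι (fun _ : Sn r k => F (k + 1)) e)
  haveI : Epi q := by
    refine ⟨fun u v h => ?_⟩
    rw [← cancel_epi (sigmaComparison P fun _ : Sn r k => F (k + 1))]
    apply Sigma.hom_ext
    intro e
    rw [ι_comp_sigmaComparison_assoc, ι_comp_sigmaComparison_assoc]
    have := congrArg (Sigma.ι (fun _ : Sn r k => F 0) e ≫ ·) h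
    simp only [q, Sigma.ι_desc_assoc, Category.assoc] at this
    exact (cancel_epi _).1 this
  have : Sigma.desc (μ S F ψ hJ k) = q ≫ P.map (Sigma.desc (se S F hJ k)) := by
    apply Sigma.hom_ext
    intro e
    rw [Sigma.ι_desc, Sigma.ι_desc_assoc, Category.assoc, ← P.map_comp, Sigma.ι_desc]
    rfl
  rw [this]
  exact epi_comp _ _

include S hF ψ in
theorem exists_shift_one [IsNoetherianRing A] (k : ℕ) (l : Fin r) :
    ∃ W : KK (i := i) F k ⟶ KK (i := i) F (k + 1), ∀ (e : Sn r k) (e' : Sn r (k + 1)),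
      e'.1 = Finsupp.single l 1 + e.1 → μ S F ψ hJ k e ≫ W = μ S F ψ hJ (k + 1) e' := by
  haveI := isClosedImmersion_i S (k + 1)
  let C := Coh.push (i (k + 1))
  let P := Scheme.Modules.pullback (i (k + 1))
  let adj := Scheme.Modules.pullbackPushforwardAdjunction (i (k + 1))
  haveI hiso : IsIso adj.counit := Groth.L17.ClosedPush.isIso_counit (i (k + 1))
  let c' : F (k + 2) ⟶ C.obj (F (k + 1)) := c (i := i) F (k + 1) ≫ C.map (ψ (k + 1)).hom
  haveI := epi_c S F hF (k + 1)
  haveI : Epi c' := epi_comp _ _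
  have hla : a l ∈ J := hJ ▸ Ideal.subset_span ⟨l, rfl⟩
  have hu : kernel.ι c' ≫ smulMod A (F (k + 2)) (a l) = 0 := by
    refine AffineBC.hom_ext_affine _ _ fun U hU z => ?_
    show (smulMod A (F (k + 2)) (a l)).app U ((kernel.ι c').app U z) = 0
    have h0 : (c (i := i) F (k + 1)).app U ((kernel.ι c').app U z) = 0 := by
      have h1 : kernel.ι c' ≫ c (i := i) F (k + 1) = 0 := by
        rw [← cancel_mono (C.map (ψ (k + 1)).hom), Category.assoc, kernel.condition, zero_comp]
      exact ConcreteCategory.congr_hom (congrArg (fun t => Scheme.Modules.Hom.app t U) h1) z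
    rw [HomSh.smulMod_app]
    refine Submodule.smul_induction_on ((sect_c S F hF (k + 1) ⟨U, hU⟩).2 _ h0) ?_ ?_
    · intro b hb x _
      rw [smul_smul]
      have hb0 : scal A (Xs (k + 2)) U (a l) * b = 0 := by
        induction hb using Submodule.span_induction with
        | mem y hy =>
          obtain ⟨t, ht, rfl⟩ := hy
          rw [← map_mul]
          refine scal_eq_zero (p (k + 2)) (S.base (k + 2)) ?_ U
          rw [pow_succ']
          exact Ideal.mul_mem_mul hla ht
        | zero => rw [mul_zero]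
        | add y y' _ _ h h' => rw [mul_add, h, h', add_zero]
        | smul d y _ h => rw [smul_eq_mul, mul_left_comm, h, mul_zero]
      rw [hb0, zero_smul]
    · intro x y hx hy
      rw [smul_add, hx, hy, add_zero]
  let u := Abelian.epiDesc c' (smulMod A (F (k + 2)) (a l)) hu
  have hcu : c' ≫ u = smulMod A (F (k + 2)) (a l) := Abelian.comp_epiDesc _ _ _
  have hmul : ∀ e : Sn r k, c' ≫ C.map (se S F hJ k e) ≫ C.map (kernel.ι (c (i := i) F k)) ≫ u =
      smulMod A (F (k + 2)) (a l * aE a e.1) := fun e => by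
    rw [← Functor.map_comp_assoc, se, s_ι, ← Supp.smulMod_push (i (k + 1)) (i_base S (k + 1)),
      ← Category.assoc, ← Rees.smulMod_naturality, Category.assoc, hcu, ← Rees.smulMod_mul]
  have hT : C.map (kernel.ι (c (i := i) F k)) ≫ u ≫ c (i := i) F (k + 1) = 0 := by
    haveI : PreservesColimitsOfSize.{u, u} C := Groth.L17.ClosedPush.preservesColimits_push (i (k + 1))
    haveI : PreservesColimitsOfSize.{0, 0} C := preservesColimitsOfSize_shrink.{0, u, 0, u} _
    haveI := epi_se S F hF hJ k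
    rw [← cancel_epi (C.map (Sigma.desc (se S F hJ k))), comp_zero,
      ← cancel_epi (sigmaComparison C fun _ : Sn r k => F (k + 1)), comp_zero]
    apply Sigma.hom_ext
    intro e
    rw [comp_zero, ι_comp_sigmaComparison_assoc, ← Functor.map_comp_assoc, Sigma.ι_desc,
      ← cancel_epi c', comp_zero]
    rw [reassoc_of% (hmul e)]
    refine smul_c S F (k + 1) ?_
    rw [pow_succ']
    exact Ideal.mul_mem_mul hla (aE_mem' hJ k e)
  let v : C.obj (Kn (i := i) F k) ⟶ Kn (i := i) F (k + 1) :=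
    kernel.lift _ (C.map (kernel.ι (c (i := i) F k)) ≫ u) (by rw [Category.assoc]; exact hT)
  have hv : ∀ (e : Sn r k) (e' : Sn r (k + 1)), e'.1 = Finsupp.single l 1 + e.1 →
      c' ≫ C.map (se S F hJ k e) ≫ v = se S F hJ (k + 1) e' := fun e e' he => by
    rw [← cancel_mono (kernel.ι (c (i := i) F (k + 1)))]
    have hv' : v ≫ kernel.ι (c (i := i) F (k + 1)) = C.map (kernel.ι (c (i := i) F k)) ≫ u := kernel.lift_ι _ _ _
    refine ((Category.assoc _ _ _).trans (congrArg (c' ≫ ·)
      ((Category.assoc _ _ _).trans (congrArg (C.map (se S F hJ k e) ≫ ·) hv')))).trans ?_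
    rw [hmul e, se, s_ι, he, aE_add, aE_single]
  let P' := Scheme.Modules.pullback (j i (k + 1))
  refine ⟨P'.map (inv (adj.counit.app (Kn (i := i) F k)) ≫ P.map v) ≫
    (Scheme.Modules.pullbackComp (j i (k + 1)) (i (k + 1))).hom.app (Kn (i := i) F (k + 1)), fun e e' he => ?_⟩
  have h1 : (ψ (k + 1)).hom ≫ se S F hJ k e ≫ inv (adj.counit.app (Kn (i := i) F k)) ≫ P.map v =
      P.map (se S F hJ (k + 1) e') := by
    rw [← hv e e' he, P.map_comp c', P.map_comp (C.map (se S F hJ k e)) v]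
    have hn : P.map (C.map (se S F hJ k e)) =
        adj.counit.app (F (k + 1)) ≫ se S F hJ k e ≫ inv (adj.counit.app (Kn (i := i) F k)) := by
      rw [← Category.assoc, IsIso.eq_comp_inv]
      exact adj.counit.naturality (se S F hJ k e)
    have hc : P.map c' ≫ adj.counit.app (F (k + 1)) = (ψ (k + 1)).hom := by
      rw [P.map_comp, Category.assoc]
      exact (congrArg (P.map (c (i := i) F (k + 1)) ≫ ·) (adj.counit.naturality (ψ (k + 1)).hom)).trans
        (adj.left_triangle_components_assoc (F (k + 2)) _)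
    rw [hn]
    simp only [Category.assoc]
    rw [reassoc_of% hc]
  simp only [μ]
  rw [show (θ F ψ (k + 2)).inv = ((θ F ψ (k + 1)).inv ≫ P'.map (ψ (k + 1)).inv) ≫
    (Scheme.Modules.pullbackComp (j i (k + 1)) (i (k + 1))).hom.app (F (k + 2)) from rfl]
  simp only [Category.assoc]
  refine congrArg ((θ F ψ (k + 1)).inv ≫ ·) ?_
  erw [← (Scheme.Modules.pullbackComp (j i (k + 1)) (i (k + 1))).hom.naturality (se S F hJ (k + 1) e')]
  show _ = P'.map (ψ (k + 1)).inv ≫ P'.map (P.map (se S F hJ (k + 1) e')) ≫ _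
  rw [← Category.assoc, ← Category.assoc, ← P'.map_comp, ← P'.map_comp, ← h1, Iso.inv_hom_id_assoc]

include S hF ψ in
theorem exists_shift [IsNoetherianRing A] (d : Fin r →₀ ℕ) (m n : ℕ) (h : d.degree + m = n) :
    ∃ W : KK (i := i) F m ⟶ KK (i := i) F n, ∀ (e : Sn r m) (e' : Sn r n),
      e'.1 = d + e.1 → μ S F ψ hJ m e ≫ W = μ S F ψ hJ n e' := by
  classical
  obtain ⟨N, hN⟩ : ∃ N, d.degree = N := ⟨_, rfl⟩
  induction N generalizing d n with
  | zero =>
    have hd : d = 0 := (Finsupp.degree_eq_zero_iff d).1 hN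
    obtain rfl : m = n := by omega
    refine ⟨𝟙 _, fun e e' he => ?_⟩
    rw [Category.comp_id, Subtype.ext (by rw [he, hd, zero_add]) (a1 := e') (a2 := e)]
  | succ N ih =>
    obtain ⟨l, hl⟩ : ∃ l, d l ≠ 0 := by
      by_contra h0
      push Not at h0
      have : d = 0 := Finsupp.ext h0
      rw [this, map_zero] at hN
      omega
    obtain ⟨d', rfl⟩ : ∃ d', d = Finsupp.single l 1 + d' :=
      le_iff_exists_add.1 (Finsupp.single_le_iff.2 (Nat.one_le_iff_ne_zero.2 hl))
    rw [map_add, Finsupp.degree_single] at hN h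
    obtain ⟨k, rfl⟩ : ∃ k, n = k + 1 := ⟨d'.degree + m, by omega⟩
    obtain ⟨W, hW⟩ := ih d' k (by omega) (by omega)
    obtain ⟨W', hW'⟩ := exists_shift_one S F hF ψ hJ k l
    refine ⟨W ≫ W', fun e e' he => ?_⟩
    have hde : (d' + e.1).degree = k + 1 := by rw [map_add, e.2]; omega
    rw [← Category.assoc, hW e ⟨d' + e.1, hde⟩ rfl]
    exact hW' ⟨d' + e.1, hde⟩ e' (by rw [he, add_assoc])

end Groth.L16.Exist.Adic
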