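import Groth.Agent.L16.Existence.Graded
import Groth.Agent.L16.Existence.AmpleVanish

/-!
A family of modules receiving monomial-indexed surjections from one coherent module, with shift maps between
them, consists of direct summands of one coherent module over a polynomial ring; uniform vanishing for it.
-/

set_option autoImplicit false
set_option linter.style.haveILetI false
set_option backward.isDefEq.respectTransparency false
set_option backward.isDefEq.respectTransparency.types false
set_option linter.overlappingInstances false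

universe u

open CategoryTheory CategoryTheory.Limits AlgebraicGeometry TopologicalSpace Opposite

noncomputable section

namespace Groth.L16.Exist.Adic

open Formal (smulMod)
open Existence (Sn φe isCoh_sigma exists_functional exists_desc_push)
open AffineBC (Xb gb η β)

variable {A : Type u} [CommRing A] [IsNoetherianRing A] {X : Scheme.{u}} [X.Over (Spec (CommRingCat.of A))]
  [QuasiCompact (X ↘ Spec (CommRingCat.of A))] [LocallyOfFiniteType (X ↘ Spec (CommRingCat.of A))]
  {r : ℕ} {F : X.Modules} (K : ℕ → X.Modules) (μ : ∀ n, Sn r n → (F ⟶ K n))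

/-- A family of modules with monomial-indexed surjections and shifts consists of retracts of the direct image
of one coherent module over a polynomial ring. -/
theorem exists_retract (hF : Coh.IsCoh F) (hK : ∀ n, Coh.IsCoh (K n))
    (hepi : ∀ n, Epi (Sigma.desc (μ n)))
    (hshift : ∀ (d : Fin r →₀ ℕ) (m n : ℕ), d.degree + m = n → ∃ W : K m ⟶ K n,
      ∀ (e : Sn r m) (e' : Sn r n), e'.1 = d + e.1 → μ m e ≫ W = μ n e') :
    ∃ M : (Xb A (MvPolynomial (Fin r) A) X).Modules, Coh.IsCoh M ∧
      ∀ n, ∃ (i : K n ⟶ (Coh.push (gb A (MvPolynomial (Fin r) A) X)).obj M) (p : _ ⟶ K n), i ≫ p = 𝟙 _ := by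
  classical
  let B := MvPolynomial (Fin r) A
  let g := gb A B X
  haveI : IsLocallyNoetherian X := LocallyOfFiniteType.isLocallyNoetherian (X ↘ Spec (CommRingCat.of A))
  haveI : LocallyOfFiniteType (Xb A B X ↘ Spec (CommRingCat.of B)) :=
    MorphismProperty.pullback_snd (P := @LocallyOfFiniteType) (X ↘ Spec (CommRingCat.of A)) _ inferInstance
  haveI : QuasiCompact (Xb A B X ↘ Spec (CommRingCat.of B)) :=
    MorphismProperty.pullback_snd (P := @QuasiCompact) (X ↘ Spec (CommRingCat.of A)) _ inferInstance
  haveI : IsLocallyNoetherian (Xb A B X) :=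
    LocallyOfFiniteType.isLocallyNoetherian (Xb A B X ↘ Spec (CommRingCat.of B))
  haveI : CompactSpace (Xb A B X) := QuasiCompact.compactSpace_of_compactSpace (Xb A B X ↘ Spec (CommRingCat.of B))
  haveI : AlgebraicGeometry.IsNoetherian (Xb A B X) := {}
  haveI : Coh.IsQCoh F := hF.1
  let H := (Scheme.Modules.pullback g).obj F
  have hH : Coh.IsCoh H := AffineBC.isCoh_pullback g hF
  choose c hc using fun e : Fin r →₀ ℕ => exists_functional B (X := X) F (MvPolynomial.lcoeff A e)
  let ψ : ∀ n, AffineBC.G A B X F ⟶ K n := fun n => ∑ e : Sn r n, c e.1 ≫ μ n e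
  have hψ : ∀ n (b : B), η A B X F ≫ β A B X F b ≫ ψ n =
      ∑ e : Sn r n, smulMod A F (MvPolynomial.coeff e.1 b) ≫ μ n e := fun n b => by
    simp only [ψ, Preadditive.comp_sum]
    refine Finset.sum_congr rfl fun e _ => ?_
    rw [← Category.assoc, ← Category.assoc, Category.assoc (η A B X F), hc]
    rfl
  let P : ∀ m, (∐ fun _ : Sn r m => F) ⟶ K m := fun m => Sigma.desc (μ m)
  let R : ℕ → X.Modules := fun m => kernel (P m)
  have hR : ∀ m, Coh.IsCoh (R m) := fun m => by
    haveI : Coh.IsQCoh (K m) := (hK m).1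
    exact CohSupport.isCoh_kernel (isCoh_sigma _ fun _ => hF) _
  let ρ : ∀ m, R m ⟶ AffineBC.G A B X F := fun m => kernel.ι (P m) ≫ Sigma.desc fun e : Sn r m => φe F e.1
  let adj := Scheme.Modules.pullbackPushforwardAdjunction g
  let j : ∀ m, (Scheme.Modules.pullback g).obj (R m) ⟶ H := fun m => (adj.homEquiv _ _).symm (ρ m)
  have hj : ∀ m, η A B X (R m) ≫ (Coh.push g).map (j m) = ρ m := fun m =>
    (adj.homEquiv_unit _ _ _).symm.trans (Equiv.apply_symm_apply _ _)
  -- the relations are killed by `ψ`
  have key : ∀ m n, (Coh.push g).map (j m) ≫ ψ n = 0 := by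
    intro m n
    haveI : Coh.IsQCoh (R m) := (hR m).1
    refine Rees.hom_zero_of_generators X (R m) B _ fun b => ?_
    have nat : β A B X (R m) b ≫ (Coh.push g).map (j m) = (Coh.push g).map (j m) ≫ β A B X F b := by
      rw [β, β, ← Functor.map_comp, ← Functor.map_comp, Rees.smulMod_naturality]
    rw [reassoc_of% nat, reassoc_of% hj m]
    have hW : ∀ b : B, ∃ W : K m ⟶ K n, ∀ e : Sn r m,
        (∑ e' : Sn r n, smulMod A F (MvPolynomial.coeff e'.1 (b * MvPolynomial.monomial e.1 1)) ≫ μ n e') =
          μ m e ≫ W := by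
      intro b
      induction b using MvPolynomial.induction_on' with
      | monomial d x =>
        by_cases hdn : d.degree + m = n
        · obtain ⟨W₀, hW₀⟩ := hshift d m n hdn
          refine ⟨W₀ ≫ smulMod A _ x, fun e => ?_⟩
          have hde : (d + e.1).degree = n + 1 := by rw [map_add, e.2]; omega
          rw [Finset.sum_eq_single (⟨d + e.1, hde⟩ : Sn r n) (fun e' _ he' => by
              rw [MvPolynomial.monomial_mul, MvPolynomial.coeff_monomial, if_neg
                (fun h => he' (Subtype.ext h.symm)), Rees.smulMod_zero, zero_comp])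
            (fun h => absurd (Finset.mem_univ _) h)]
          rw [MvPolynomial.monomial_mul, MvPolynomial.coeff_monomial, if_pos rfl, mul_one, ← Category.assoc,
            hW₀ e ⟨d + e.1, hde⟩ rfl]
          exact Rees.smulMod_naturality A _ x
        · refine ⟨0, fun e => ?_⟩
          rw [comp_zero]
          refine Finset.sum_eq_zero fun e' _ => ?_
          rw [MvPolynomial.monomial_mul, MvPolynomial.coeff_monomial, if_neg, Rees.smulMod_zero, zero_comp]
          intro h
          have := congrArg Finsupp.degree h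
          rw [map_add, e.2, e'.2] at this
          omega
      | add p q hp hq =>
        obtain ⟨W, hW⟩ := hp
        obtain ⟨W', hW'⟩ := hq
        refine ⟨W + W', fun e => ?_⟩
        rw [Preadditive.comp_add, ← hW, ← hW', ← Finset.sum_add_distrib]
        refine Finset.sum_congr rfl fun e' _ => ?_
        rw [add_mul, MvPolynomial.coeff_add, HomSh.smulMod_add, Preadditive.add_comp]
    obtain ⟨W, hW⟩ := hW b
    have e2 : (Sigma.desc fun e : Sn r m => φe F e.1) ≫ β A B X F b ≫ ψ n = P m ≫ W := by
      apply Sigma.hom_ext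
      intro e
      simp only [P, Sigma.ι_desc_assoc]
      rw [← hW e, ← hψ]
      simp only [φe, Category.assoc]
      rw [← reassoc_of% Rees.β_mul X F B b (MvPolynomial.monomial e.1 1)]
    simp only [ρ, Category.assoc]
    rw [e2, reassoc_of% kernel.condition (P m), zero_comp]
  -- finitely many relations suffice
  let D : ∀ N, (∐ fun m : Fin N => (Scheme.Modules.pullback g).obj (R m.1)) ⟶ H := fun N =>
    Sigma.desc fun m => j m.1
  have hD : ∀ N, Coh.IsCoh (∐ fun m : Fin N => (Scheme.Modules.pullback g).obj (R m.1)) := fun N =>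
    isCoh_sigma _ fun m => AffineBC.isCoh_pullback g (hR m.1)
  have hQ : ∀ N, Coh.IsCoh (cokernel (D N)) := fun N => (CohKernel.isCoh_kernel_cokernel (hD N) hH _).2
  have hjD : ∀ N m, m < N → j m ≫ cokernel.π (D N) = 0 := fun N m hm => by
    rw [show j m = Sigma.ι (fun m : Fin N => (Scheme.Modules.pullback g).obj (R m.1)) ⟨m, hm⟩ ≫ D N from
      (Sigma.ι_desc (fun m : Fin N => j m.1) ⟨m, hm⟩).symm, Category.assoc, cokernel.condition, comp_zero]
  have hmono : ∀ N N', N ≤ N' → kernelSubobject (cokernel.π (D N)) ≤ kernelSubobject (cokernel.π (D N')) := by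
    intro N N' h
    have h0 : D N ≫ cokernel.π (D N') = 0 := by
      apply Sigma.hom_ext
      intro m
      rw [Sigma.ι_desc_assoc, comp_zero]
      exact hjD N' m.1 (m.2.trans_le h)
    rw [← cokernel.π_desc (D N) (cokernel.π (D N')) h0]
    exact kernelSubobject_comp_le _ _
  obtain ⟨N, hN⟩ := Acc.exists_stable H hH
    ⟨fun N => kernelSubobject (cokernel.π (D N)), fun N N' h => hmono N N' h⟩ fun N =>
      (CohSupport.isCoh_of_iso (kernelSubobjectIso (cokernel.π (D N))).symm
        (CohKernel.isCoh_kernel_cokernel hH (hQ N) _).1).1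
  have hjN : ∀ m, j m ≫ cokernel.π (D N) = 0 := fun m => by
    by_cases hm : m < N
    · exact hjD N m hm
    · have h1 : (kernelSubobject (cokernel.π (D (m + 1)))).Factors (j m) :=
        (kernelSubobject_factors_iff _ _).2 (hjD (m + 1) m (Nat.lt_succ_self m))
      have h2 : kernelSubobject (cokernel.π (D (m + 1))) = kernelSubobject (cokernel.π (D N)) :=
        hN (m + 1) (by omega)
      rw [h2] at h1
      exact (kernelSubobject_factors_iff _ _).1 h1
  haveI : (Coh.push g).Additive := adj.right_adjoint_additive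
  have hDψ : ∀ n, (Coh.push g).map (D N) ≫ ψ n = 0 := fun n => by
    have hid : D N = ∑ m : Fin N, (Sigma.desc fun i : Fin N =>
        if h : i = m then eqToHom (congrArg (fun t : Fin N => (Scheme.Modules.pullback g).obj (R t.1)) h) else 0) ≫
          j m.1 := by
      refine Sigma.hom_ext _ _ fun i => ?_
      rw [Preadditive.comp_sum, Finset.sum_eq_single i]
      · simp [D]
      · intro m _ hm
        simp [Ne.symm hm]
      · simp
    rw [hid, Functor.map_sum, Preadditive.sum_comp]
    refine Finset.sum_eq_zero fun m _ => ?_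
    rw [Functor.map_comp, Category.assoc, key, comp_zero]
  choose ψ' hψ' using fun n => exists_desc_push g (hD N) hH (D N) (ψ n) (hDψ n)
  have hS : ∀ n, kernel.ι (P n) ≫
      (Sigma.desc fun e : Sn r n => φe F e.1) ≫ (Coh.push g).map (cokernel.π (D N)) = 0 := fun n => by
    rw [← Category.assoc, show kernel.ι (P n) ≫ (Sigma.desc fun e : Sn r n => φe F e.1) = ρ n from rfl,
      ← hj n, Category.assoc, ← Functor.map_comp, hjN n, Functor.map_zero, comp_zero]
  haveI hP : ∀ n, Epi (P n) := hepi
  refine ⟨cokernel (D N), hQ N, fun n => ⟨Abelian.epiDesc (P n) _ (hS n), ψ' n, ?_⟩⟩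
  rw [← cancel_epi (P n), ← Category.assoc, Abelian.comp_epiDesc, Category.comp_id]
  apply Sigma.hom_ext
  intro e
  simp only [P]
  rw [Category.assoc, hψ' n, Sigma.ι_desc_assoc, Sigma.ι_desc]
  simp only [φe, Category.assoc]
  rw [hψ, Finset.sum_eq_single e (fun e' _ he' => by
      rw [MvPolynomial.coeff_monomial, if_neg (fun h => he' (Subtype.ext h.symm)), Rees.smulMod_zero, zero_comp])
    (fun h => absurd (Finset.mem_univ _) h), MvPolynomial.coeff_monomial, if_pos rfl, Rees.smulMod_one,
    Category.id_comp]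

/-- Uniform vanishing of the twists of such a family on a proper scheme by an ample module. -/
theorem exists_uniform_vanishing {L : X.Modules} [IsProper (X ↘ Spec (CommRingCat.of A))] (hL : CohB1.IsAmple L)
    (hF : Coh.IsCoh F) (hK : ∀ n, Coh.IsCoh (K n))
    (hepi : ∀ n, Epi (Sigma.desc (μ n)))
    (hshift : ∀ (d : Fin r →₀ ℕ) (m n : ℕ), d.degree + m = n → ∃ W : K m ⟶ K n,
      ∀ (e : Sn r m) (e' : Sn r n), e'.1 = d + e.1 → μ m e ≫ W = μ n e') :
    ∃ d₀ : ℕ, ∀ d : ℕ, d₀ ≤ d → ∀ (m q : ℕ), 0 < q →
      Subsingleton (Coh.HH X (CohB1.tensorMod (CohB1.tensorPow L d) (K m)) q) := by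
  obtain ⟨M, hM, hret⟩ := exists_retract (A := A) K μ hF hK hepi hshift
  let B := MvPolynomial (Fin r) A
  let g := gb A B X
  have hLB : CohB1.IsAmple ((Scheme.Modules.pullback g).obj L) :=
    Groth.L18.Ample.isAmple_pullback_of_isAffineHom g hL
  haveI : Coh.IsQCoh M := hM.1
  obtain ⟨d₀, hd₀⟩ := Existence.exists_vanishing_of_isAmple (A := B) hLB hM
  refine ⟨d₀, fun d hd m q hq => ?_⟩
  let O := CohB1.tensorPow L d
  have hinv := Groth.L18.Ample.isInvertible_tensorPow (L := L) hL.1 d
  have hO : FlatMod.IsFinLocFree O := Existence.isFinLocFree_of_isInvertible hinv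
  let T := Groth.L00.Tensor.tensorLeftF O
  obtain ⟨i, p, hip⟩ := hret m
  refine Existence.subsingleton_of_retract (T.map i) (T.map p)
    (by rw [← T.map_comp, hip, CategoryTheory.Functor.map_id]) q ?_
  refine ProjSpace.subsingleton_of_iso ((Groth.L17.ProjFormula.projIso g O hO).app M) q ?_
  haveI : IsLocallyNoetherian X := LocallyOfFiniteType.isLocallyNoetherian (X ↘ Spec (CommRingCat.of A))
  haveI : Coh.IsQCoh O := (ProperFinite.isCoh_of_isInvertible hinv).1
  haveI := AffineBC.isQCoh_pullback g O
  haveI := Groth.L00.Tensor.isQCoh_tensorMod ((Scheme.Modules.pullback g).obj O) M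
  obtain ⟨e₃⟩ := Groth.L17.nonempty_HH_push_of_isAffineHom g
    (CohB1.tensorMod ((Scheme.Modules.pullback g).obj O) M) q
  have h0 := ProjSpace.subsingleton_of_iso
    ((Groth.L00.Tensor.tensorRightF M).mapIso (Groth.L18.Ample.pullPow g L d)) q (hd₀ d hd q hq)
  exact @Equiv.subsingleton _ _ e₃.symm.toEquiv h0

end Groth.L16.Exist.Adic
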