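import Groth.Agent.L16.Exist.Kernel

/-!
Reduction to closed subschemes, and algebraisation from a map with kernel and cokernel killed by powers of an ideal.
-/

set_option autoImplicit false
set_option linter.style.haveILetI false
set_option backward.isDefEq.respectTransparency false
set_option backward.isDefEq.respectTransparency.types false

universe u

open CategoryTheory CategoryTheory.Limits AlgebraicGeometry TopologicalSpace Opposite
open scoped TensorProduct

noncomputable section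

namespace Groth.L16.Exist

open Groth.L18.Frame (rs ro rs_rs rs_smul rs_self)
open Formal (smulMod smulFamily modPow modPowπ modPowTrans modPowπ_trans)
open AffineBC (scal)
open Existence (tr tr_comp tr_self)

section Subscheme

variable {X Z : Scheme.{u}} (i : Z ⟶ X) [IsClosedImmersion i]

/-- Restriction to a closed subscheme, seen on the ambient scheme. -/
abbrev PP : X.Modules ⥤ X.Modules := Scheme.Modules.pullback i ⋙ Coh.push i

/-- The reduction map. -/
abbrev ηU (M : X.Modules) : M ⟶ (PP i).obj M :=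
  (Scheme.Modules.pullbackPushforwardAdjunction i).unit.app M

theorem ηU_natural {M N : X.Modules} (φ : M ⟶ N) : φ ≫ ηU i N = ηU i M ≫ (PP i).map φ :=
  (Scheme.Modules.pullbackPushforwardAdjunction i).unit.naturality φ

theorem PP_killed (M : X.Modules) (U : X.affineOpens) (a : Γ(X, U.1)) (ha : a ∈ i.ker.ideal U)
    (y : Γ((PP i).obj M, U.1)) : a • y = 0 := by
  rw [Scheme.Hom.ker_apply, RingHom.mem_ker] at ha
  show i.app U.1 a • (show Γ((Scheme.Modules.pullback i).obj M, i ⁻¹ᵁ U.1) from y) = 0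
  rw [show i.app U.1 a = 0 from ha]
  exact zero_smul _ _

theorem killedByIdeal_PP (M : X.Modules) : ClSub.KilledByIdeal i.ker ((PP i).obj M) :=
  fun U a ha y => PP_killed i M U a ha y

theorem ηU_spec (M : X.Modules) [Coh.IsQCoh M] (U : X.affineOpens) :
    Function.Surjective ((ηU i M).app U.1) ∧
      ∀ x, (ηU i M).app U.1 x = 0 → x ∈ i.ker.ideal U • (⊤ : Submodule Γ(X, U.1) Γ(M, U.1)) := by
  let V := U.1
  let W := i ⁻¹ᵁ V
  letI : Algebra Γ(X, V) Γ(Z, W) := (i.appLE V W le_rfl).hom.toAlgebra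
  letI := Module.compHom Γ((Scheme.Modules.pullback i).obj M, W) (i.appLE V W le_rfl).hom
  haveI : IsScalarTower Γ(X, V) Γ(Z, W) Γ((Scheme.Modules.pullback i).obj M, W) :=
    IsScalarTower.of_algebraMap_smul fun _ _ => rfl
  have hb := AffineBC.isBaseChange_pull i M U.2 (U.2.preimage i) (le_rfl : W ≤ i ⁻¹ᵁ V)
  have hφ : ∀ s : Γ(Z, W), ∃ r : Γ(X, V), algebraMap Γ(X, V) Γ(Z, W) r = s := by
    intro s
    obtain ⟨r, hr⟩ := i.app_surjective V U.2 s
    exact ⟨r, (congrArg (fun t => (t.hom r)) (Scheme.Hom.app_eq_appLE (f := i) (U := V)).symm).trans hr⟩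
  have hres : ∀ x, hb.equiv (1 ⊗ₜ x) = (show Γ((Scheme.Modules.pullback i).obj M, W) from (ηU i M).app V x) := by
    intro x
    rw [IsBaseChange.equiv_tmul, one_smul]
    exact rs_self _ _ _
  refine ⟨fun y => ?_, fun x hx => ?_⟩
  · obtain ⟨t, ht⟩ := hb.equiv.surjective (show Γ((Scheme.Modules.pullback i).obj M, W) from y)
    have : ∀ t : Γ(Z, W) ⊗[Γ(X, V)] Γ(M, V), ∃ x, t = 1 ⊗ₜ x := by
      intro t
      induction t using TensorProduct.induction_on with
      | zero => exact ⟨0, (TensorProduct.tmul_zero _ _).symm⟩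
      | tmul s m =>
        obtain ⟨r, rfl⟩ := hφ s
        exact ⟨r • m, by rw [Algebra.algebraMap_eq_smul_one, TensorProduct.smul_tmul]⟩
      | add a b ha hb =>
        obtain ⟨x, rfl⟩ := ha
        obtain ⟨x', rfl⟩ := hb
        exact ⟨x + x', (TensorProduct.tmul_add _ _ _).symm⟩
    obtain ⟨x, rfl⟩ := this t
    exact ⟨x, (hres x).symm.trans ht⟩
  · have h1 : (1 : Γ(Z, W)) ⊗ₜ[Γ(X, V)] x = 0 := hb.equiv.injective (by rw [hres, map_zero]; exact hx)
    let K := i.ker.ideal U • (⊤ : Submodule Γ(X, V) Γ(M, V))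
    choose σ hσ using hφ
    have hwd : ∀ r r' : Γ(X, V), algebraMap Γ(X, V) Γ(Z, W) r = algebraMap Γ(X, V) Γ(Z, W) r' → ∀ m : Γ(M, V),
        r • (Submodule.Quotient.mk m : Γ(M, V) ⧸ K) = r' • Submodule.Quotient.mk m := by
      intro r r' h m
      rw [← Submodule.Quotient.mk_smul, ← Submodule.Quotient.mk_smul, Submodule.Quotient.eq, ← sub_smul]
      refine Submodule.smul_mem_smul ?_ trivial
      rw [Scheme.Hom.ker_apply, RingHom.mem_ker, map_sub, sub_eq_zero]
      exact (congrArg (fun t => t.hom r) (Scheme.Hom.app_eq_appLE (f := i) (U := V))).trans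
        (h.trans (congrArg (fun t => t.hom r') (Scheme.Hom.app_eq_appLE (f := i) (U := V))).symm)
    let B : Γ(Z, W) →ₗ[Γ(X, V)] Γ(M, V) →ₗ[Γ(X, V)] (Γ(M, V) ⧸ K) :=
      LinearMap.mk₂ _ (fun s m => σ s • Submodule.Quotient.mk m)
        (fun s t m => by rw [hwd _ (σ s + σ t) (by rw [map_add, hσ, hσ, hσ]), add_smul])
        (fun r s m => by rw [hwd _ (r * σ s) (by rw [map_mul, hσ, hσ, ← Algebra.smul_def]), mul_smul])
        (fun s m m' => by rw [Submodule.Quotient.mk_add, smul_add])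
        (fun r s m => by rw [Submodule.Quotient.mk_smul, smul_comm])
    have h2 := congrArg (TensorProduct.lift B) h1
    rw [map_zero] at h2
    change σ 1 • (Submodule.Quotient.mk x : Γ(M, V) ⧸ K) = 0 at h2
    rw [hwd _ 1 (by rw [hσ, map_one]), one_smul, Submodule.Quotient.mk_eq_zero] at h2
    exact h2

theorem isIso_ηU {M : X.Modules} [IsLocallyNoetherian X] (hM : Coh.IsCoh M)
    (hk : ClSub.KilledByIdeal i.ker M) : IsIso (ηU i M) := by
  refine SchSupport.isIso_unit i M ?_ hk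
  have hle : i.ker ≤ SchSupport.annIdeal hM := fun U a ha => Module.mem_annihilator.2 fun m => hk U a ha m
  have h := Scheme.IdealSheafData.support_antitone hle
  rw [← SetLike.coe_subset_coe, SchSupport.coe_support_annIdeal, Scheme.Hom.support_ker,
    i.isClosedEmbedding.isClosed_range.closure_eq] at h
  exact h

end Subscheme

variable {A : Type u} [CommRing A] {X : Scheme.{u}} [X.Over (Spec (CommRingCat.of A))] {I : Ideal A}

theorem biprod_ext {M N : X.Modules} {U : X.Opens} (y : Γ(M ⊞ N, U)) :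
    y = (biprod.inl : M ⟶ M ⊞ N).app U ((biprod.fst : M ⊞ N ⟶ M).app U y) +
      (biprod.inr : N ⟶ M ⊞ N).app U ((biprod.snd : M ⊞ N ⟶ N).app U y) :=
  (app_eq (biprod.total (X := M) (Y := N)).symm y)

variable [AlgebraicGeometry.IsNoetherian X]

theorem eq_zero_of_affine_le {M : X.Modules} [Coh.IsQCoh M] {U : X.Opens} (hU : IsAffineOpen U)
    (h : ∀ x : Γ(M, U), x = 0) {W : X.Opens} (hWU : W ≤ U) (x : Γ(M, W)) : x = 0 := by
  let J := {a : Γ(X, U) // X.basicOpen a ≤ W}
  refine HomSh.ext_cover M (fun a : J => X.basicOpen a.1) (fun a => a.2) (fun y hy => ?_) fun a => ?_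
  · obtain ⟨a, ha, hya⟩ := hU.exists_basicOpen_le (⟨y, hy⟩ : W) (hWU hy)
    exact Opens.mem_iSup.2 ⟨⟨a, ha⟩, hya⟩
  · obtain ⟨n, t, ht⟩ := QCohSect.exists_pow_smul_eq_res hU M a.1 (rs M a.2 x)
    rw [h t, show rs M (X.basicOpen_le a.1) (0 : Γ(M, U)) = 0 from map_zero _] at ht
    rw [show rs M a.2 (0 : Γ(M, W)) = 0 from map_zero _]
    exact (HomSh.isUnit_ro_pow a.1 n).smul_eq_zero.1 ht.symm

/-- Completions of coherent modules are coherent formal modules. -/
theorem isCohFormal_completion {H : X.Modules} (hH : Coh.IsCoh H) :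
    Formal.IsCohFormal I (Formal.completion I H) := by
  refine ⟨fun n => (modPow_spec I hH (n + 1)).1, fun n b hb => Existence.smulMod_modPow_eq_zero I H hb, fun n => ?_⟩
  have h0 : smulFamily (I ^ (n + 1)) (modPow I (n + 1 + 1) H) ≫ modPowTrans I (n + 1) H = 0 := by
    apply Sigma.hom_ext
    intro b
    haveI := Existence.epi_modPowπ I (n + 1 + 1) H
    rw [comp_zero, smulFamily, Sigma.ι_desc_assoc, ← cancel_epi (modPowπ I (n + 1 + 1) H), comp_zero,
      ← Category.assoc, ← Rees.smulMod_naturality, Category.assoc, modPowπ_trans,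
      Rees.smulMod_modPowπ I H b.2]
  rw [show (Formal.completion I H).map (homOfLE (Nat.le_succ n)).op = modPowTrans I (n + 1) H from
    Existence.completion_tr I H n]
  refine ⟨h0, ?_⟩
  show IsIso (cokernel.desc (smulFamily (I ^ (n + 1)) (modPow I (n + 1 + 1) H)) (modPowTrans I (n + 1) H) h0)
  obtain ⟨v, hv⟩ := Existence.modPow_desc I (n := n + 1)
    (modPowπ I (n + 1 + 1) H ≫ modPowπ I (n + 1) (modPow I (n + 1 + 1) H)) fun b hb => by
      rw [← Category.assoc, Rees.smulMod_naturality, Category.assoc, Rees.smulMod_modPowπ I _ hb, comp_zero]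
  haveI := Existence.epi_modPowπ I (n + 1) (modPow I (n + 1 + 1) H)
  haveI := Existence.epi_modPowπ I (n + 1 + 1) H
  haveI := Existence.epi_modPowπ I (n + 1) H
  have hd : modPowπ I (n + 1) (modPow I (n + 1 + 1) H) ≫
      cokernel.desc (smulFamily (I ^ (n + 1)) (modPow I (n + 1 + 1) H)) (modPowTrans I (n + 1) H) h0 =
        modPowTrans I (n + 1) H := cokernel.π_desc _ _ _
  refine ⟨⟨v, ?_, ?_⟩⟩
  · refine (cancel_epi (modPowπ I (n + 1) (modPow I (n + 1 + 1) H))).1 ((cancel_epi (modPowπ I (n + 1 + 1) H)).1 ?_)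
    rw [reassoc_of% hd, reassoc_of% modPowπ_trans I (n + 1) H, hv]
    exact congrArg (_ ≫ ·) (Category.comp_id _).symm
  · refine (cancel_epi (modPowπ I (n + 1) H)).1 ?_
    rw [reassoc_of% hv, hd, modPowπ_trans]
    exact (Category.comp_id _).symm

omit [AlgebraicGeometry.IsNoetherian X] in
/-- The components of a map into a completion. -/
theorem exists_family_of_hom {G : ℕᵒᵖ ⥤ X.Modules} {M : X.Modules} (β : G ⟶ Formal.completion I M) :
    ∃ b : ∀ n, G.obj (op n) ⟶ modPow I (n + 1) M, (∀ n, β.app (op n) = b n) ∧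
      ∀ n, tr G n (n + 1) (Nat.le_succ n) ≫ b n = b (n + 1) ≫ modPowTrans I (n + 1) M :=
  ⟨fun n => β.app (op n), fun n => rfl, fun n =>
    (β.naturality _).trans (congrArg (β.app (op (n + 1)) ≫ ·) (Existence.completion_tr I M n))⟩

/-- A map killed by a surjection lifts to the completion of its kernel, in terms of components. -/
theorem exists_lift_kernel_fam {M Q : X.Modules} (hM : Coh.IsCoh M) (hQ : Coh.IsCoh Q) (q : M ⟶ Q) [Epi q]
    {G : ℕᵒᵖ ⥤ X.Modules} (hG : Formal.IsCohFormal I G) (b : ∀ n, G.obj (op n) ⟶ modPow I (n + 1) M)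
    (hb : ∀ n, tr G n (n + 1) (Nat.le_succ n) ≫ b n = b (n + 1) ≫ modPowTrans I (n + 1) M)
    (hbq : ∀ n, b n ≫ redMap I (n + 1) q = 0) :
    ∃ p : ∀ n, G.obj (op n) ⟶ modPow I (n + 1) (kernel q),
      (∀ n, tr G n (n + 1) (Nat.le_succ n) ≫ p n = p (n + 1) ≫ modPowTrans I (n + 1) (kernel q)) ∧
      (∀ n, p n ≫ redMap I (n + 1) (kernel.ι q) = b n) ∧
      ((∀ n (U : X.Opens), IsAffineOpen U → ∀ y : Γ(kernel q, U), ∃ g : Γ(G.obj (op n), U),
          (b n).app U g = (modPowπ I (n + 1) M).app U ((kernel.ι q).app U y)) → ∀ n, Epi (p n)) := by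
  let β : G ⟶ Formal.completion I M := NatTrans.ofOpSequence (G := Formal.completion I M) b fun n =>
    (hb n).trans (congrArg (b (n + 1) ≫ ·) (Existence.completion_tr I M n).symm)
  obtain ⟨ψ, hψ, hepi⟩ := exists_lift_kernel hM hQ q hG β hbq
  obtain ⟨p, hp, hp'⟩ := exists_family_of_hom ψ
  exact ⟨p, hp', fun n => by rw [← hp n]; exact hψ n, fun h n => by rw [← hp n]; exact hepi h n⟩

omit [AlgebraicGeometry.IsNoetherian X] in
/-- Full faithfulness in terms of components. -/
theorem exists_hom_of_fam {M N : X.Modules}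
    (hff : ∀ ψ : Formal.completion I M ⟶ Formal.completion I N,
      ∃! φ : M ⟶ N, ∀ n : ℕ, modPowπ I (n + 1) M ≫ ψ.app (op n) = φ ≫ modPowπ I (n + 1) N)
    (p : ∀ n, modPow I (n + 1) M ⟶ modPow I (n + 1) N)
    (hp : ∀ n, modPowTrans I (n + 1) M ≫ p n = p (n + 1) ≫ modPowTrans I (n + 1) N) :
    ∃ φ : M ⟶ N, ∀ n, redMap I (n + 1) φ = p n := by
  obtain ⟨φ, hφ, -⟩ := hff (NatTrans.ofOpSequence (F := Formal.completion I M) (G := Formal.completion I N) p
    fun n => (congrArg (· ≫ p n) (Existence.completion_tr I M n)).trans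
      ((hp n).trans (congrArg (p (n + 1) ≫ ·) (Existence.completion_tr I N n).symm)))
  refine ⟨φ, fun n => ?_⟩
  haveI := Existence.epi_modPowπ I (n + 1) M
  exact (cancel_epi (modPowπ I (n + 1) M)).1 ((π_redMap I (n + 1) φ).trans (hφ n).symm)

/-- Algebraisation from a map to a completion whose kernel and cokernel are killed by powers of an ideal, for
modules with a property inherited by subobjects, quotients and sums, together with the comparison map. -/
theorem exists_algebraization_map (𝔓 : X.Modules → Prop)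
    (hsub : ∀ ⦃M N : X.Modules⦄ (f : M ⟶ N) [Mono f], 𝔓 N → 𝔓 M)
    (hquo : ∀ ⦃M N : X.Modules⦄ (f : M ⟶ N) [Epi f], 𝔓 M → 𝔓 N)
    (hsum : ∀ ⦃M N : X.Modules⦄, 𝔓 M → 𝔓 N → 𝔓 (M ⊞ N))
    (K : X.IdealSheafData) {F : ℕᵒᵖ ⥤ X.Modules} (hF : Formal.IsCohFormal I F) (hF0 : 𝔓 (F.obj (op 0)))
    (h₁ : ∀ e : ℕ,
      (∀ (M N : X.Modules), Coh.IsCoh M → Coh.IsCoh N → (𝔓 M ∨ 𝔓 N) → ClSub.KilledByIdeal (K ^ e) M →
        ClSub.KilledByIdeal (K ^ e) N → ∀ ψ : Formal.completion I M ⟶ Formal.completion I N,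
          ∃! φ : M ⟶ N, ∀ n : ℕ, Formal.modPowπ I (n + 1) M ≫ ψ.app (op n) = φ ≫ Formal.modPowπ I (n + 1) N) ∧
      (∀ G : ℕᵒᵖ ⥤ X.Modules, Formal.IsCohFormal I G → 𝔓 (G.obj (op 0)) →
        (∀ n : ℕ, ClSub.KilledByIdeal (K ^ e) (G.obj (op n))) →
        ∃ M : X.Modules, Coh.IsCoh M ∧ 𝔓 M ∧ ClSub.KilledByIdeal (K ^ e) M ∧
          Nonempty (Formal.completion I M ≅ G)))
    {H : X.Modules} (α : F ⟶ Formal.completion I H) (hH : Coh.IsCoh H) (hPH : 𝔓 H)
    (hα : Formal2.KerCokerKilledByPow K α) :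
    ∃ (M : X.Modules) (a : M ⟶ H) (β : F ≅ Formal.completion I M), Coh.IsCoh M ∧ 𝔓 M ∧
      (∀ n, β.hom.app (op n) ≫ redMap I (n + 1) a = α.app (op n)) ∧
      ∃ t : ℕ, ClSub.KilledByIdeal (K ^ t) (kernel a) ∧ ClSub.KilledByIdeal (K ^ t) (cokernel a) := by
  classical
  obtain ⟨t, hαK⟩ := hα
  let T := t + 1
  obtain ⟨a, hαa, ha⟩ := exists_family_of_hom α
  have hHn : ∀ n, Coh.IsCoh (modPow I (n + 1) H) := fun n => (modPow_spec I hH (n + 1)).1
  have hKker : ∀ n, ClSub.KilledByIdeal (K ^ T) (kernel (a n)) := fun n => by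
    rw [← hαa n]; exact (hαK n).1
  have hKcok : ∀ n, ClSub.KilledByIdeal (K ^ T) (cokernel (a n)) := fun n => by
    rw [← hαa n]; exact (hαK n).2
  -- the cokernel
  let c : ∀ n, cokernel (a (n + 1)) ⟶ cokernel (a n) := fun n =>
    cokernel.map _ _ (tr F n (n + 1) (Nat.le_succ n)) (modPowTrans I (n + 1) H) (ha n).symm
  let C : ℕᵒᵖ ⥤ X.Modules := Functor.ofOpSequence (X := fun n => cokernel (a n)) c
  have hCc : ∀ n, C.map (homOfLE (Nat.le_succ n)).op = c n := fun n =>
    Functor.ofOpSequence_map_homOfLE_succ _ n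
  let γ : Formal.completion I H ⟶ C := NatTrans.ofOpSequence (F := Formal.completion I H) (G := C)
    (fun n => cokernel.π (a n)) fun n => by
      rw [hCc]
      exact (congrArg (· ≫ cokernel.π (a n)) (Existence.completion_tr I H n)).trans (cokernel.π_desc _ _ _).symm
  have hCf : Formal.IsCohFormal I C := isCohFormal_cokernel hF (isCohFormal_completion hH) α C γ
    (fun n => show Epi (cokernel.π (a n)) from coequalizer.π_epi)
    (fun n => by rw [hαa n]; exact cokernel.condition (a n))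
    (fun n T t h => by
      rw [hαa n] at h
      exact ⟨cokernel.desc (a n) t h, cokernel.π_desc _ _ _⟩)
    (fun n => (CohKernel.isCoh_kernel_cokernel (hF.1 n) (hHn n) (a n)).2)
  have hC0 : 𝔓 (cokernel (a 0)) := by
    haveI : Epi (cokernel.π (a 0)) := coequalizer.π_epi
    haveI := Existence.epi_modPowπ I (0 + 1) H
    exact hquo (cokernel.π (a 0)) (hquo (modPowπ I (0 + 1) H) hPH)
  obtain ⟨N, hN, hPN, hNK, ⟨eN⟩⟩ := (h₁ T).2 C hCf hC0 hKcok
  obtain ⟨eC, heC⟩ : ∃ eC : ∀ n, modPow I (n + 1) N ≅ cokernel (a n),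
      ∀ n, modPowTrans I (n + 1) N ≫ (eC n).hom = (eC (n + 1)).hom ≫ c n :=
    ⟨fun n => eN.app (op n), fun n => ((congrArg (· ≫ (eN.app (op n)).hom)
      (Existence.completion_tr I N n).symm).trans (eN.hom.naturality _)).trans
      (congrArg ((eN.app (op (n + 1))).hom ≫ ·) (hCc n))⟩
  -- the map to the cokernel
  let i := (K ^ T).subschemeι
  have hker : ∀ {M : X.Modules}, ClSub.KilledByIdeal (K ^ T) M → ClSub.KilledByIdeal i.ker M := fun h => by
    rw [Scheme.IdealSheafData.ker_subschemeι]; exact h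
  haveI : ∀ n, IsIso (ηU i (cokernel (a n))) := fun n =>
    isIso_ηU i (CohKernel.isCoh_kernel_cokernel (hF.1 n) (hHn n) (a n)).2 (hker (hKcok n))
  have hH1 : Coh.IsCoh ((PP i).obj H) := CohClosedPush.isCoh_push i (AffineBC.isCoh_pullback i hH)
  have hH1K : ClSub.KilledByIdeal (K ^ T) ((PP i).obj H) := fun U x hx y => by
    refine PP_killed i H U x ?_ y
    rw [Scheme.IdealSheafData.ker_subschemeι]
    exact hx
  let f : ∀ n, (PP i).obj H ⟶ cokernel (a n) := fun n =>
    (PP i).map (modPowπ I (n + 1) H ≫ cokernel.π (a n)) ≫ inv (ηU i (cokernel (a n)))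
  have hf : ∀ n, ηU i H ≫ f n = modPowπ I (n + 1) H ≫ cokernel.π (a n) := fun n => by
    simp only [f]
    rw [← Category.assoc, ← ηU_natural, Category.assoc, IsIso.hom_inv_id, Category.comp_id]
  have hcπ : ∀ n, cokernel.π (a (n + 1)) ≫ c n = modPowTrans I (n + 1) H ≫ cokernel.π (a n) := fun n =>
    cokernel.π_desc _ _ _
  have hftr : ∀ n, f (n + 1) ≫ c n = f n := fun n => by
    simp only [f]
    rw [Category.assoc, show inv (ηU i (cokernel (a (n + 1)))) ≫ c n =
      (PP i).map (c n) ≫ inv (ηU i (cokernel (a n))) from by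
        rw [IsIso.inv_comp_eq, ← Category.assoc, ← ηU_natural, Category.assoc, IsIso.hom_inv_id, Category.comp_id],
      ← Category.assoc, ← Functor.map_comp, Category.assoc, hcπ, reassoc_of% modPowπ_trans I (n + 1) H]
  have hp₁ : ∀ n, ∃ p, modPowπ I (n + 1) ((PP i).obj H) ≫ p = f n ≫ (eC n).inv := fun n =>
    Existence.modPow_desc I _ fun b hb => by
      rw [← Category.assoc, Rees.smulMod_naturality,
        show smulMod A (cokernel (a n)) b = 0 from hCf.2.1 n b hb, comp_zero, zero_comp]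
  choose p₁ hp₁ using hp₁
  obtain ⟨φ₁, hφ₁⟩ := exists_hom_of_fam ((h₁ T).1 _ N hH1 hN (Or.inr hPN) hH1K hNK) p₁ fun n => by
    haveI := Existence.epi_modPowπ I (n + 1 + 1) ((PP i).obj H)
    rw [← cancel_epi (modPowπ I (n + 1 + 1) ((PP i).obj H)), ← Category.assoc, modPowπ_trans, hp₁,
      ← Category.assoc, hp₁ (n + 1), ← hftr n]
    exact (Category.assoc _ _ _).trans ((congrArg (f (n + 1) ≫ ·)
      (show c n ≫ (eC n).inv = (eC (n + 1)).inv ≫ modPowTrans I (n + 1) N by
        rw [Iso.eq_inv_comp, ← reassoc_of% heC n, Iso.hom_inv_id, Category.comp_id])).trans (Category.assoc _ _ _).symm)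
  let q : H ⟶ N := ηU i H ≫ φ₁
  have hred : ∀ n, redMap I (n + 1) q = cokernel.π (a n) ≫ (eC n).inv := fun n => by
    haveI := Existence.epi_modPowπ I (n + 1) H
    rw [← cancel_epi (modPowπ I (n + 1) H), ← redMap_comp, hφ₁, ← Category.assoc, π_redMap, Category.assoc, hp₁,
      ← Category.assoc, hf, Category.assoc]
  haveI : Epi q := by
    refine Preadditive.epi_of_cokernel_zero ?_
    let Q := cokernel q
    have hQ : Coh.IsCoh Q := (CohKernel.isCoh_kernel_cokernel hH hN q).2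
    haveI : Epi (cokernel.π q) := coequalizer.π_epi
    have hQK : ClSub.KilledByIdeal (K ^ T) Q := fun U x hx m => by
      haveI : Coh.IsQCoh N := hN.1
      haveI : Coh.IsQCoh Q := hQ.1
      obtain ⟨y, rfl⟩ := AffineBC.surjective_app_of_epi (cokernel.π q) U.2 (show Γ(Q, U.1) from m)
      show x • (cokernel.π q).app U.1 y = 0
      rw [← Scheme.Modules.Hom.app_smul, show x • y = 0 from hNK U x hx y, map_zero]
    have h0 : ∀ n, modPowπ I (n + 1) Q = 0 := fun n => by
      haveI := Existence.epi_modPowπ I (n + 1) N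
      haveI : Epi (cokernel.π (a n)) := coequalizer.π_epi
      have h1 : redMap I (n + 1) q ≫ redMap I (n + 1) (cokernel.π q) = 0 := by
        rw [redMap_comp, cokernel.condition, redMap_zero]
      rw [hred] at h1
      haveI : Epi (cokernel.π (a n) ≫ (eC n).inv) := epi_comp _ _
      have h2 : redMap I (n + 1) (cokernel.π q) = 0 :=
        (cancel_epi (cokernel.π (a n) ≫ (eC n).inv)).1 (h1.trans comp_zero.symm)
      rw [← cancel_epi (cokernel.π q), comp_zero, ← π_redMap, h2, comp_zero]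
    obtain ⟨φ, -, huniq⟩ := (h₁ T).1 Q Q hQ hQ (Or.inl (hquo (cokernel.π q) hPN)) hQK hQK 0
    have e1 : 𝟙 Q = φ := huniq _ fun n => by rw [Category.id_comp, h0 n, zero_comp]
    have e2 : (0 : Q ⟶ Q) = φ := huniq _ fun n => by rw [zero_comp, h0 n, zero_comp]
    rw [← Category.comp_id (cokernel.π q), e1.trans e2.symm, comp_zero]
  -- the image
  let H' := kernel q
  have hH' : Coh.IsCoh H' := (CohKernel.isCoh_kernel_cokernel hH hN q).1
  have hH'n : ∀ n, Coh.IsCoh (modPow I (n + 1) H') := fun n => (modPow_spec I hH' (n + 1)).1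
  obtain ⟨p, hp, hpι, hpepi⟩ := exists_lift_kernel_fam hH hN q hF a ha fun n => by
    rw [hred, ← Category.assoc, cokernel.condition, zero_comp]
  haveI hpe : ∀ n, Epi (p n) := hpepi fun n U hU y => by
    refine HomSh.exists_of_cokernel_app_eq_zero (hF.1 n) (hHn n) (a n) hU ?_
    have h1 : (redMap I (n + 1) q).app U ((modPowπ I (n + 1) H).app U ((kernel.ι q).app U y)) = 0 :=
      (app_eq (π_redMap I (n + 1) q) ((kernel.ι q).app U y)).trans
        ((congrArg ((modPowπ I (n + 1) N).app U) (app_eq (kernel.condition q) y)).trans (map_zero _))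
    rw [hred] at h1
    have h2 := congrArg ((eC n).hom.app U) h1
    rw [map_zero] at h2
    have e : (cokernel.π (a n) ≫ (eC n).inv) ≫ (eC n).hom = cokernel.π (a n) := by
      rw [Category.assoc, Iso.inv_hom_id, Category.comp_id]
    exact (app_eq e _).symm.trans h2
  -- Artin-Rees
  obtain ⟨Tc, hTc⟩ := HomSh.exists_finite_affine_cover X
  have hAR : ∀ U : X.affineOpens, ∃ e : ℕ, ∀ g ∈ lim (fun n => Γ(F.obj (op n), U.1)) (trL (G := F) U.1),
      (∀ n, (a n).app U.1 (g n) = 0) →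
        (∀ n, g n ∈ K.ideal U ^ e • (⊤ : Submodule Γ(X, U.1) Γ(F.obj (op n), U.1))) → g = 0 := by
    intro U
    haveI : IsNoetherianRing Γ(X, U.1) := IsLocallyNoetherian.component_noetherian U
    obtain ⟨hfin, hsurj, hkr⟩ := sect_spec hF U.1 U.2
    haveI := hfin
    exact exists_artin_rees (I.map (scal A X U.1)) (fun n => Γ(F.obj (op n), U.1)) (trL (G := F) U.1)
      (fun n b hb x => sect_killed hF U.1 n b hb x) hsurj hkr
      (fun n => Γ(modPow I (n + 1) H, U.1))
      (fun n b hb x => sect_killed (isCohFormal_completion hH) U.1 n b hb x)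
      (fun n => { toFun := (a n).app U.1, map_add' := map_add _,
                  map_smul' := fun r x => Scheme.Modules.Hom.app_smul _ r x })
      (K.ideal U) T fun g _ hg x hx => funext fun n => by
        obtain ⟨k, hk⟩ := HomSh.exists_kernel_lift (a n) (g n) (hg n)
        show x • g n = 0
        rw [← hk, ← Scheme.Modules.Hom.app_smul, show x • k = 0 from hKker n U x (by
          rw [Scheme.IdealSheafData.ideal_pow, Pi.pow_apply]; exact hx) k, map_zero]
  choose eU heU using hAR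
  let e := Tc.sup eU
  -- reduction modulo the power
  let i₂ := (K ^ e).subschemeι
  letI : (K ^ e).subscheme.Over (Spec (CommRingCat.of A)) := ⟨i₂ ≫ (X ↘ Spec (CommRingCat.of A))⟩
  haveI : IsLocallyNoetherian (K ^ e).subscheme := LocallyOfFiniteType.isLocallyNoetherian i₂
  have hi₂ : i₂ ≫ (X ↘ Spec (CommRingCat.of A)) = (K ^ e).subscheme ↘ Spec (CommRingCat.of A) := rfl
  let P := PP i₂
  have hPk : ∀ M : X.Modules, ClSub.KilledByIdeal (K ^ e) (P.obj M) := fun M U x hx y => by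
    refine PP_killed i₂ M U x ?_ y
    rw [Scheme.IdealSheafData.ker_subschemeι]
    exact hx
  have hF₂ : Formal.IsCohFormal I ((F ⋙ Scheme.Modules.pullback i₂) ⋙ Coh.push i₂) :=
    Existence.isCohFormal_push i₂ hi₂ (isCohFormal_pullback I i₂ hi₂ hF)
  have hF₂0 : 𝔓 (P.obj (F.obj (op 0))) := by
    haveI : Epi (ηU i₂ (F.obj (op 0))) := by
      haveI : Coh.IsQCoh (F.obj (op 0)) := (hF.1 0).1
      refine ⟨fun u v huv => AffineBC.hom_ext_affine _ _ fun U hU y => ?_⟩
      obtain ⟨x, rfl⟩ := (ηU_spec i₂ (F.obj (op 0)) ⟨U, hU⟩).1 y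
      exact app_eq huv x
    exact hquo (ηU i₂ (F.obj (op 0))) hF0
  obtain ⟨Me, hMe, hPMe, hMeK, ⟨eM⟩⟩ := (h₁ e).2 _ hF₂ hF₂0 fun n => hPk _
  obtain ⟨eR, heR⟩ : ∃ eR : ∀ n, modPow I (n + 1) Me ≅ P.obj (F.obj (op n)),
      ∀ n, modPowTrans I (n + 1) Me ≫ (eR n).hom = (eR (n + 1)).hom ≫ P.map (tr F n (n + 1) (Nat.le_succ n)) :=
    ⟨fun n => eM.app (op n), fun n => (congrArg (· ≫ (eM.app (op n)).hom)
      (Existence.completion_tr I Me n).symm).trans (eM.hom.naturality _)⟩
  let R := P.obj H'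
  have hR : Coh.IsCoh R := CohClosedPush.isCoh_push i₂ (AffineBC.isCoh_pullback i₂ hH')
  have hω : ∀ m, ∃ ω : modPow I m R ≅ P.obj (modPow I m H'), modPowπ I m R ≫ ω.hom = P.map (modPowπ I m H') := by
    intro m
    obtain ⟨e₁, he₁⟩ := Existence.exists_pullback_modPowIso (I := I) i₂ hi₂ H' m
    obtain ⟨θ, hθ⟩ := Supp.exists_modPowIso I i₂ hi₂ (Iso.refl ((Coh.push i₂).obj ((Scheme.Modules.pullback i₂).obj H'))) m
    rw [Iso.refl_hom, Category.id_comp] at hθ
    refine ⟨θ.symm ≪≫ (Coh.push i₂).mapIso e₁, ?_⟩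
    show modPowπ I m ((Coh.push i₂).obj ((Scheme.Modules.pullback i₂).obj H')) ≫ θ.inv ≫ (Coh.push i₂).map e₁.hom = _
    rw [← hθ, Category.assoc, θ.hom_inv_id_assoc, ← Functor.map_comp, he₁]
    rfl
  choose ω hω using hω
  haveI : ∀ m, Epi (modPowπ I m R) := fun m => Existence.epi_modPowπ I m R
  have hωtr : ∀ n, modPowTrans I (n + 1) R ≫ (ω (n + 1)).hom =
      (ω (n + 1 + 1)).hom ≫ P.map (modPowTrans I (n + 1) H') := fun n => by
    rw [← cancel_epi (modPowπ I (n + 1 + 1) R), reassoc_of% modPowπ_trans I (n + 1) R, hω,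
      reassoc_of% hω (n + 1 + 1), ← Functor.map_comp, modPowπ_trans]
  obtain ⟨φ, hφr⟩ := exists_hom_of_fam ((h₁ e).1 Me R hMe hR (Or.inl hPMe) hMeK (hPk H'))
    (fun n => (eR n).hom ≫ P.map (p n) ≫ (ω (n + 1)).inv) fun n => by
      rw [reassoc_of% heR n, ← Functor.map_comp_assoc, hp, Functor.map_comp, Category.assoc, Category.assoc,
        Category.assoc]
      congr 2
      rw [Iso.eq_inv_comp, ← reassoc_of% hωtr n, Iso.hom_inv_id, Category.comp_id]
  have hηr : ∀ n, redMap I (n + 1) (ηU i₂ H') ≫ (ω (n + 1)).hom = ηU i₂ (modPow I (n + 1) H') := fun n => by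
    haveI := Existence.epi_modPowπ I (n + 1) H'
    rw [← cancel_epi (modPowπ I (n + 1) H'), ← Category.assoc, π_redMap, Category.assoc, hω]
    exact (ηU_natural i₂ _).symm
  -- the fibre product
  let D := Me ⊞ H'
  have hD : Coh.IsCoh D := Devissage.isCoh_biprod hMe hH'
  let d : D ⟶ R := biprod.desc φ (-ηU i₂ H')
  haveI : Epi d := by
    haveI : Epi (ηU i₂ H') := by
      refine ⟨fun u v huv => AffineBC.hom_ext_affine _ _ fun U hU y => ?_⟩
      haveI : Coh.IsQCoh H' := hH'.1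
      obtain ⟨x, rfl⟩ := (ηU_spec i₂ H' ⟨U, hU⟩).1 y
      exact app_eq huv x
    haveI : Epi (biprod.inr ≫ d) := by
      rw [biprod.inr_desc]
      exact ⟨fun u v huv => (cancel_epi (ηU i₂ H')).1
        (neg_injective ((Preadditive.neg_comp _ _).symm.trans (huv.trans (Preadditive.neg_comp _ _))))⟩
    exact epi_of_epi (biprod.inr : H' ⟶ D) d
  obtain ⟨s, hs₀⟩ : ∃ s : ∀ n, F.obj (op n) ⟶ modPow I (n + 1) Me,
      ∀ n, s n = ηU i₂ (F.obj (op n)) ≫ (eR n).inv := ⟨_, fun n => rfl⟩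
  have hs : ∀ n, tr F n (n + 1) (Nat.le_succ n) ≫ s n = s (n + 1) ≫ modPowTrans I (n + 1) Me := fun n => by
    rw [hs₀, hs₀, ← Category.assoc, ηU_natural, Category.assoc, Category.assoc]
    congr 1
    rw [Iso.eq_inv_comp, ← reassoc_of% heR n, Iso.hom_inv_id, Category.comp_id]
  let b : ∀ n, F.obj (op n) ⟶ modPow I (n + 1) D := fun n =>
    s n ≫ redMap I (n + 1) (biprod.inl : Me ⟶ D) + p n ≫ redMap I (n + 1) (biprod.inr : H' ⟶ D)
  have hb : ∀ n, tr F n (n + 1) (Nat.le_succ n) ≫ b n = b (n + 1) ≫ modPowTrans I (n + 1) D := fun n => by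
    show _ ≫ (s n ≫ _ + p n ≫ _) = (s (n + 1) ≫ _ + p (n + 1) ≫ _) ≫ _
    rw [Preadditive.comp_add, Preadditive.add_comp, reassoc_of% hs n, reassoc_of% hp n, Category.assoc,
      Category.assoc, redMap_trans, redMap_trans]
  have hsφ : ∀ n, s n ≫ redMap I (n + 1) φ = p n ≫ redMap I (n + 1) (ηU i₂ H') := fun n => by
    rw [← cancel_mono (ω (n + 1)).hom, Category.assoc, Category.assoc, hηr, hφr]
    rw [hs₀]
    show (ηU i₂ (F.obj (op n)) ≫ (eR n).inv) ≫ ((eR n).hom ≫ P.map (p n) ≫ (ω (n + 1)).inv) ≫ (ω (n + 1)).hom = _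
    rw [Category.assoc, Category.assoc, Category.assoc, Iso.inv_hom_id, Category.comp_id, Iso.inv_hom_id_assoc]
    exact (ηU_natural i₂ _).symm
  have hneg : ∀ n, redMap I (n + 1) (-ηU i₂ H') = -redMap I (n + 1) (ηU i₂ H') := fun n => by
    haveI := Existence.epi_modPowπ I (n + 1) H'
    rw [← cancel_epi (modPowπ I (n + 1) H'), π_redMap, Preadditive.comp_neg, π_redMap, Preadditive.neg_comp]
  have hbd : ∀ n, b n ≫ redMap I (n + 1) d = 0 := fun n => by
    show (s n ≫ redMap I (n + 1) (biprod.inl : Me ⟶ D) + p n ≫ redMap I (n + 1) (biprod.inr : H' ⟶ D)) ≫ _ = _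
    rw [Preadditive.add_comp, Category.assoc, Category.assoc, redMap_comp, redMap_comp, biprod.inl_desc,
      biprod.inr_desc, hneg, Preadditive.comp_neg, hsφ, add_neg_cancel]
  have hfst : ∀ n, b n ≫ redMap I (n + 1) (biprod.fst : D ⟶ Me) = s n := fun n => by
    show (s n ≫ redMap I (n + 1) (biprod.inl : Me ⟶ D) + p n ≫ redMap I (n + 1) (biprod.inr : H' ⟶ D)) ≫ _ = _
    rw [Preadditive.add_comp, Category.assoc, Category.assoc, redMap_comp, redMap_comp, biprod.inl_fst,
      biprod.inr_fst, redMap_id, redMap_zero, Category.comp_id, comp_zero, add_zero]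
  have hsnd : ∀ n, b n ≫ redMap I (n + 1) (biprod.snd : D ⟶ H') = p n := fun n => by
    show (s n ≫ redMap I (n + 1) (biprod.inl : Me ⟶ D) + p n ≫ redMap I (n + 1) (biprod.inr : H' ⟶ D)) ≫ _ = _
    rw [Preadditive.add_comp, Category.assoc, Category.assoc, redMap_comp, redMap_comp, biprod.inl_snd,
      biprod.inr_snd, redMap_id, redMap_zero, Category.comp_id, comp_zero, zero_add]
  obtain ⟨p₂, hp₂, hp₂ι, hp₂e⟩ := exists_lift_kernel_fam hD hR d hF b hb hbd
  haveI : ∀ m, Coh.IsQCoh (F.obj (op m)) := fun m => (hF.1 m).1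
  have hp₂epi : ∀ n, Epi (p₂ n) := hp₂e fun n U hU y => by
    haveI : Coh.IsQCoh H' := hH'.1
    haveI : Coh.IsQCoh (modPow I (n + 1) H') := (hH'n n).1
    let x := (kernel.ι d).app U y
    let mm := (biprod.fst : D ⟶ Me).app U x
    let hh := (biprod.snd : D ⟶ H').app U x
    have hrel : φ.app U mm = (ηU i₂ H').app U hh := by
      have h0 : d.app U x = 0 := app_eq (kernel.condition d) y
      rw [biprod_ext x, map_add] at h0
      change (biprod.inl ≫ d).app U mm + (biprod.inr ≫ d).app U hh = 0 at h0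
      rw [biprod.inl_desc, biprod.inr_desc] at h0
      exact eq_of_sub_eq_zero ((sub_eq_add_neg _ _).trans h0)
    obtain ⟨g₀, hg₀⟩ := (ηU_spec i₂ (F.obj (op n)) ⟨U, hU⟩).1
      ((eR n).hom.app U ((modPowπ I (n + 1) Me).app U mm))
    have hσg : (s n).app U g₀ = (modPowπ I (n + 1) Me).app U mm := by
      rw [hs₀]
      show (eR n).inv.app U ((ηU i₂ (F.obj (op n))).app U g₀) = _
      rw [hg₀]
      exact app_eq (eR n).hom_inv_id _
    let δ : Γ(modPow I (n + 1) H', U) := (p n).app U g₀ - (modPowπ I (n + 1) H').app U hh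
    have hδ : (ηU i₂ (modPow I (n + 1) H')).app U δ = 0 := by
      have e1 : (redMap I (n + 1) (ηU i₂ H')).app U δ = 0 := by
        have e2 : (redMap I (n + 1) (ηU i₂ H')).app U ((p n).app U g₀) =
            (modPowπ I (n + 1) R).app U (φ.app U mm) := by
          refine (app_eq (hsφ n).symm g₀).trans ?_
          show (redMap I (n + 1) φ).app U ((s n).app U g₀) = _
          rw [hσg]
          exact app_eq (π_redMap I (n + 1) φ) mm
        rw [map_sub, e2, hrel, show (redMap I (n + 1) (ηU i₂ H')).app U ((modPowπ I (n + 1) H').app U hh) =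
          (modPowπ I (n + 1) R).app U ((ηU i₂ H').app U hh) from app_eq (π_redMap I (n + 1) (ηU i₂ H')) hh, sub_self]
      rw [← hηr]
      exact (congrArg ((ω (n + 1)).hom.app U) e1).trans (map_zero _)
    have h1 := (ηU_spec i₂ (modPow I (n + 1) H') ⟨U, hU⟩).2 δ hδ
    let pL : Γ(F.obj (op n), U) →ₗ[Γ(X, U)] Γ(modPow I (n + 1) H', U) :=
      { toFun := (p n).app U, map_add' := map_add _,
        map_smul' := fun r z => Scheme.Modules.Hom.app_smul _ r z }
    have h2 : δ ∈ Submodule.map pL (i₂.ker.ideal ⟨U, hU⟩ • ⊤) := by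
      haveI := hpe n
      rw [Submodule.map_smul'', Submodule.map_top, LinearMap.range_eq_top.2 (show Function.Surjective pL from
        AffineBC.surjective_app_of_epi (p n) hU)]
      exact h1
    obtain ⟨w, hw, hwδ⟩ := h2
    have hσw : (s n).app U w = 0 := by
      rw [hs₀]
      show (eR n).inv.app U ((ηU i₂ (F.obj (op n))).app U w) = 0
      have : (ηU i₂ (F.obj (op n))).app U w = 0 := by
        refine Submodule.smul_induction_on hw (fun x hx z _ => ?_) (fun x y h h' => by rw [map_add, h, h', add_zero])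
        rw [Scheme.Modules.Hom.app_smul]
        exact PP_killed i₂ _ ⟨U, hU⟩ x hx _
      rw [this, map_zero]
    refine ⟨g₀ - w, ?_⟩
    have e1 : (s n).app U (g₀ - w) = (modPowπ I (n + 1) Me).app U mm := by
      rw [map_sub, hσw, sub_zero, hσg]
    have e2 : (p n).app U (g₀ - w) = (modPowπ I (n + 1) H').app U hh := by
      rw [map_sub, show (p n).app U w = δ from hwδ, sub_sub_cancel]
    show (redMap I (n + 1) (biprod.inl : Me ⟶ D)).app U ((s n).app U (g₀ - w)) +
      (redMap I (n + 1) (biprod.inr : H' ⟶ D)).app U ((p n).app U (g₀ - w)) =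
        (modPowπ I (n + 1) D).app U x
    rw [e1, e2, biprod_ext x, map_add]
    exact congrArg₂ (· + ·) (app_eq (π_redMap I (n + 1) (biprod.inl : Me ⟶ D)) mm)
      (app_eq (π_redMap I (n + 1) (biprod.inr : H' ⟶ D)) hh)
  -- injectivity
  let M := kernel d
  have hM : Coh.IsCoh M := (CohKernel.isCoh_kernel_cokernel hD hR d).1
  have hMn : ∀ n, Coh.IsCoh (modPow I (n + 1) M) := fun n => (modPow_spec I hM (n + 1)).1
  have hMf := isCohFormal_completion (I := I) hM
  haveI : ∀ n, Mono (p₂ n) := fun n => by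
    haveI : Coh.IsQCoh (kernel (p₂ n)) := (CohKernel.isCoh_kernel_cokernel (hF.1 n) (hMn n) _).1.1
    refine Preadditive.mono_of_kernel_zero (hom_eq_zero_of_cover _ (fun U : Tc => U.1.1) (fun x => by
      obtain ⟨U, hU, hx⟩ := hTc x; exact ⟨⟨U, hU⟩, hx⟩) fun U W hW hWU y => ?_)
    suffices h : ∀ z : Γ(kernel (p₂ n), U.1.1), z = 0 by
      rw [eq_zero_of_affine_le U.1.2 h hWU y, map_zero]
    intro z
    refine Acc.app_injective (kernel.ι (p₂ n)) U.1.1 ?_
    haveI : IsNoetherianRing Γ(X, U.1.1) := IsLocallyNoetherian.component_noetherian U.1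
    obtain ⟨hfin, hsurj, hkr⟩ := sect_spec hF U.1.1 U.1.2
    obtain ⟨hfin', hsurj', hkr'⟩ := sect_spec hMf U.1.1 U.1.2
    haveI := hfin
    haveI : ∀ n, Module.Finite Γ(X, U.1.1) Γ(modPow I (n + 1) M, U.1.1) := hfin'
    haveI : ∀ m, Coh.IsQCoh (modPow I (m + 1) M) := fun m => (hMn m).1
    refine (injective_of_lim (I.map (scal A X U.1.1)) (fun n => Γ(F.obj (op n), U.1.1)) (trL (G := F) U.1.1)
      (fun n b hb x => sect_killed hF U.1.1 n b hb x) hsurj hkr
      (fun n => Γ(modPow I (n + 1) M, U.1.1)) (trL (G := Formal.completion I M) U.1.1)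
      (fun n b hb x => sect_killed hMf U.1.1 n b hb x)
      (fun n => { toFun := (p₂ n).app U.1.1, map_add' := map_add _,
                  map_smul' := fun r x => Scheme.Modules.Hom.app_smul _ r x })
      hsurj' hkr' (fun m x => (app_eq (hp₂ m) x).trans
        (app_eq (Existence.completion_tr I M m).symm ((p₂ (m + 1)).app U.1.1 x))) (fun m => by
        haveI := hp₂epi m
        exact AffineBC.surjective_app_of_epi (p₂ m) U.1.2) ?_ n)
      ((app_eq (kernel.condition (p₂ n)) z).trans (by rw [map_zero]; exact (map_zero _).symm))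
    intro g hg hg0
    have hb0 : ∀ m, (b m).app U.1.1 (g m) = 0 := fun m => by
      rw [← hp₂ι m]
      exact (congrArg ((redMap I (m + 1) (kernel.ι d)).app U.1.1) (hg0 m)).trans (map_zero _)
    refine heU U.1 g hg (fun m => ?_) fun m => ?_
    · rw [← hpι m, ← hsnd m]
      exact (congrArg ((redMap I (m + 1) (kernel.ι q)).app U.1.1)
        ((congrArg ((redMap I (m + 1) (biprod.snd : D ⟶ H')).app U.1.1) (hb0 m)).trans (map_zero _))).trans (map_zero _)
    · have h0 : (s m).app U.1.1 (g m) = 0 := by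
        rw [← hfst m]
        exact (congrArg ((redMap I (m + 1) (biprod.fst : D ⟶ Me)).app U.1.1) (hb0 m)).trans (map_zero _)
      have h1 : (ηU i₂ (F.obj (op m))).app U.1.1 (g m) = 0 := by
        have h2 := congrArg ((eR m).hom.app U.1.1) h0
        rw [map_zero] at h2
        have e : s m ≫ (eR m).hom = ηU i₂ (F.obj (op m)) := by
          rw [hs₀, Category.assoc, Iso.inv_hom_id, Category.comp_id]
        exact (app_eq e.symm (g m)).trans h2
      have h3 := (ηU_spec i₂ (F.obj (op m)) U.1).2 _ h1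
      rw [Scheme.IdealSheafData.ker_subschemeι, Scheme.IdealSheafData.ideal_pow, Pi.pow_apply] at h3
      exact Submodule.smul_mono (Ideal.pow_le_pow_right (Finset.le_sup U.2)) le_rfl h3
  haveI : ∀ n, IsIso (p₂ n) := fun n => by
    haveI := hp₂epi n
    exact isIso_of_mono_of_epi (p₂ n)
  obtain ⟨E, hE⟩ : ∃ E : F ≅ Formal.completion I M, ∀ n, E.hom.app (op n) = p₂ n := by
    let E₀ : F ⟶ Formal.completion I M := NatTrans.ofOpSequence p₂ fun n =>
      (hp₂ n).trans (congrArg (p₂ (n + 1) ≫ ·) (Existence.completion_tr I M n).symm)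
    haveI : ∀ k, IsIso (E₀.app k) := fun k => inferInstanceAs (IsIso (p₂ k.unop))
    haveI : IsIso E₀ := NatIso.isIso_of_isIso_app E₀
    exact ⟨asIso E₀, fun n => rfl⟩
  let aM : M ⟶ H := kernel.ι d ≫ biprod.snd ≫ kernel.ι q
  have haM : ∀ n, E.hom.app (op n) ≫ redMap I (n + 1) aM = α.app (op n) := fun n => by
    rw [hE, show redMap I (n + 1) aM = redMap I (n + 1) (kernel.ι d) ≫ redMap I (n + 1) (biprod.snd : D ⟶ H') ≫
        redMap I (n + 1) (kernel.ι q) by simp only [aM, redMap_comp],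
      reassoc_of% hp₂ι n, reassoc_of% hsnd n, hpι n, hαa n]
  refine ⟨M, aM, E, hM, hsub (kernel.ι d) (hsum hPMe (hsub (kernel.ι q) hPH)), haM, e + T, fun U r hr z => ?_,
    fun U r hr z => ?_⟩
  · have hr' : r ∈ (K ^ e).ideal U := by
      rw [Scheme.IdealSheafData.ideal_pow, Pi.pow_apply] at hr ⊢
      exact Ideal.pow_le_pow_right (Nat.le_add_right e T) hr
    let z' : Γ(kernel aM, U.1) := z
    refine Acc.app_injective (kernel.ι aM) U.1 (Acc.app_injective (kernel.ι d) U.1 ?_)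
    let x := (kernel.ι d).app U.1 ((kernel.ι aM).app U.1 z')
    have hsnd0 : (biprod.snd : D ⟶ H').app U.1 x = 0 := by
      refine Acc.app_injective (kernel.ι q) U.1 ((app_eq (kernel.condition aM) z').trans ?_)
      exact (map_zero ((kernel.ι q).app U.1).hom).symm
    show (kernel.ι d).app U.1 ((kernel.ι aM).app U.1 (r • z')) = (kernel.ι d).app U.1 ((kernel.ι aM).app U.1 0)
    rw [map_zero, map_zero, Scheme.Modules.Hom.app_smul, Scheme.Modules.Hom.app_smul]
    show r • x = 0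
    rw [biprod_ext x, hsnd0, map_zero, add_zero, ← Scheme.Modules.Hom.app_smul,
      show r • (biprod.fst : D ⟶ Me).app U.1 x = 0 from hMeK U r hr' _, map_zero]
  · haveI : Coh.IsQCoh H := hH.1
    haveI : Coh.IsQCoh (cokernel aM) := (CohKernel.isCoh_kernel_cokernel hM hH aM).2.1
    haveI : Epi (cokernel.π aM) := coequalizer.π_epi
    obtain ⟨h, rfl⟩ := AffineBC.surjective_app_of_epi (cokernel.π aM) U.2 (show Γ(cokernel aM, U.1) from z)
    let h' : Γ(H, U.1) := h
    have hr' : r ∈ (K ^ e).ideal U * (K ^ T).ideal U := by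
      rw [Scheme.IdealSheafData.ideal_pow, Scheme.IdealSheafData.ideal_pow, Pi.pow_apply, Pi.pow_apply] at *
      rwa [← pow_add]
    show r • (cokernel.π aM).app U.1 h' = 0
    refine Submodule.mul_induction_on hr' (fun s hs r' hr' => ?_) (fun a b ha hb => by
      rw [add_smul, ha, hb, add_zero])
    have hq0 : q.app U.1 (r' • h') = 0 := by
      rw [Scheme.Modules.Hom.app_smul]
      exact hNK U r' hr' _
    obtain ⟨y, hy⟩ := HomSh.exists_kernel_lift q (r' • h') hq0
    have hd0 : d.app U.1 ((biprod.inr : H' ⟶ D).app U.1 (s • y)) = 0 := by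
      show (biprod.inr ≫ d).app U.1 (s • y) = 0
      rw [biprod.inr_desc, Scheme.Modules.Hom.app_smul]
      exact hPk H' U s hs _
    obtain ⟨w, hw⟩ := HomSh.exists_kernel_lift d _ hd0
    have hwa : aM.app U.1 w = s • r' • h' := by
      show (kernel.ι q).app U.1 ((biprod.snd : D ⟶ H').app U.1 ((kernel.ι d).app U.1 w)) = _
      rw [hw, show (biprod.snd : D ⟶ H').app U.1 ((biprod.inr : H' ⟶ D).app U.1 (s • y)) = s • y from
        app_eq biprod.inr_snd (s • y), Scheme.Modules.Hom.app_smul, hy]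
    rw [mul_smul, ← Scheme.Modules.Hom.app_smul, ← Scheme.Modules.Hom.app_smul, ← hwa]
    exact (app_eq (cokernel.condition aM) w)

/-- Algebraisation from a map to a completion whose kernel and cokernel are killed by powers of an ideal, for
modules with a property inherited by subobjects, quotients and sums. -/
theorem exists_algebraization_of_property (𝔓 : X.Modules → Prop)
    (hsub : ∀ ⦃M N : X.Modules⦄ (f : M ⟶ N) [Mono f], 𝔓 N → 𝔓 M)
    (hquo : ∀ ⦃M N : X.Modules⦄ (f : M ⟶ N) [Epi f], 𝔓 M → 𝔓 N)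
    (hsum : ∀ ⦃M N : X.Modules⦄, 𝔓 M → 𝔓 N → 𝔓 (M ⊞ N))
    (K : X.IdealSheafData) {F : ℕᵒᵖ ⥤ X.Modules} (hF : Formal.IsCohFormal I F) (hF0 : 𝔓 (F.obj (op 0)))
    (h₁ : ∀ e : ℕ,
      (∀ (M N : X.Modules), Coh.IsCoh M → Coh.IsCoh N → (𝔓 M ∨ 𝔓 N) → ClSub.KilledByIdeal (K ^ e) M →
        ClSub.KilledByIdeal (K ^ e) N → ∀ ψ : Formal.completion I M ⟶ Formal.completion I N,
          ∃! φ : M ⟶ N, ∀ n : ℕ, Formal.modPowπ I (n + 1) M ≫ ψ.app (op n) = φ ≫ Formal.modPowπ I (n + 1) N) ∧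
      (∀ G : ℕᵒᵖ ⥤ X.Modules, Formal.IsCohFormal I G → 𝔓 (G.obj (op 0)) →
        (∀ n : ℕ, ClSub.KilledByIdeal (K ^ e) (G.obj (op n))) →
        ∃ M : X.Modules, Coh.IsCoh M ∧ 𝔓 M ∧ ClSub.KilledByIdeal (K ^ e) M ∧
          Nonempty (Formal.completion I M ≅ G)))
    (h₂ : ∃ (H : X.Modules) (α : F ⟶ Formal.completion I H), Coh.IsCoh H ∧ 𝔓 H ∧
      Formal2.KerCokerKilledByPow K α) :
    ∃ M : X.Modules, Coh.IsCoh M ∧ 𝔓 M ∧ Nonempty (Formal.completion I M ≅ F) := by
  obtain ⟨H, α, hH, hPH, hαK⟩ := h₂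
  obtain ⟨M, -, β, hM, hPM, -⟩ := exists_algebraization_map 𝔓 hsub hquo hsum K hF hF0 h₁ α hH hPH hαK
  exact ⟨M, hM, hPM, ⟨β.symm⟩⟩

/-- Algebraisation from a map to a completion whose kernel and cokernel are killed by powers of an ideal. -/
theorem exists_algebraization (K : X.IdealSheafData) {F : ℕᵒᵖ ⥤ X.Modules} (hF : Formal.IsCohFormal I F)
    (h₁ : ∀ e : ℕ,
      (∀ (M N : X.Modules), Coh.IsCoh M → Coh.IsCoh N → ClSub.KilledByIdeal (K ^ e) M →
        ClSub.KilledByIdeal (K ^ e) N → ∀ ψ : Formal.completion I M ⟶ Formal.completion I N,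
          ∃! φ : M ⟶ N, ∀ n : ℕ, Formal.modPowπ I (n + 1) M ≫ ψ.app (op n) = φ ≫ Formal.modPowπ I (n + 1) N) ∧
      (∀ G : ℕᵒᵖ ⥤ X.Modules, Formal.IsCohFormal I G → (∀ n : ℕ, ClSub.KilledByIdeal (K ^ e) (G.obj (op n))) →
        ∃ M : X.Modules, Coh.IsCoh M ∧ ClSub.KilledByIdeal (K ^ e) M ∧ Nonempty (Formal.completion I M ≅ G)))
    (h₂ : ∃ (H : X.Modules) (α : F ⟶ Formal.completion I H), Coh.IsCoh H ∧ Formal2.KerCokerKilledByPow K α) :
    ∃ M : X.Modules, Coh.IsCoh M ∧ Nonempty (Formal.completion I M ≅ F) := by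
  obtain ⟨H, α, hH, hαK⟩ := h₂
  obtain ⟨M, hM, -, hE⟩ := exists_algebraization_of_property (fun _ => True) (fun _ _ _ _ _ => trivial)
    (fun _ _ _ _ _ => trivial) (fun _ _ _ _ => trivial) K hF trivial
    (fun e => ⟨fun M N hM hN _ => (h₁ e).1 M N hM hN, fun G hG _ hk => by
      obtain ⟨M, hM, hMK, hE⟩ := (h₁ e).2 G hG hk
      exact ⟨M, hM, trivial, hMK, hE⟩⟩) ⟨H, α, hH, trivial, hαK⟩
  exact ⟨M, hM, hE⟩

end Groth.L16.Exist
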