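import Groth.Agent.L16.Exist.AdicPieces
import Groth.Agent.L16.Exist.Reduce
import Groth.Agent.L16.Supp.ProperSupport
import Groth.Agent.L22.Ideal
import Groth.Agent.L17.ThickBasic
import Groth.Agent.L17.ClosedPush

/-!
Adic systems of schemes over `A / J^(n+1)` and coherent systems of modules on them: the graded pieces on the
special fibre, with their monomial surjections and shift maps.
-/

set_option autoImplicit false
set_option linter.style.haveILetI false
set_option backward.isDefEq.respectTransparency false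
set_option backward.isDefEq.respectTransparency.types false

universe u

open CategoryTheory CategoryTheory.Limits AlgebraicGeometry TopologicalSpace Opposite

noncomputable section

namespace Groth.L16.Exist.Adic

open Formal (smulMod)
open Existence (Sn aE aE_mem aE_add aE_single pow_le_span)
open AffineBC (scal)

variable {A : Type u} [CommRing A] (J : Ideal A)

theorem isClosedImmersion_specQuot (J : Ideal A) (n : ℕ) : IsClosedImmersion (CohB1.specQuot J n) :=
  IsClosedImmersion.spec_of_surjective _ Ideal.Quotient.mk_surjective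

/-- An adic system of schemes over the thickenings of `V(J)` in `Spec A`. -/
structure IsSys (Xs : ℕ → Scheme.{u}) [∀ k, (Xs k).Over (Spec (CommRingCat.of A))]
    (p : (k : ℕ) → (Xs k ⟶ Spec (CommRingCat.of (A ⧸ J ^ (k + 1))))) (i : (k : ℕ) → (Xs k ⟶ Xs (k + 1))) :
    Prop where
  base : ∀ k, p k ≫ CohB1.specQuot J k = Xs k ↘ Spec (CommRingCat.of A)
  cart : ∀ k, IsPullback (i k) (p k) (Xs (k + 1) ↘ Spec (CommRingCat.of A)) (CohB1.specQuot J k)

/-- Cartesian squares over the thickenings give an adic system over `A`. -/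
theorem isSys_of_cart {Xs : ℕ → Scheme.{u}} [∀ k, (Xs k).Over (Spec (CommRingCat.of A))]
    {p : (k : ℕ) → (Xs k ⟶ Spec (CommRingCat.of (A ⧸ J ^ (k + 1))))} {i : (k : ℕ) → (Xs k ⟶ Xs (k + 1))}
    (hp : ∀ k, p k ≫ CohB1.specQuot J k = Xs k ↘ Spec (CommRingCat.of A))
    (hcart : ∀ k, IsPullback (i k) (p k) (p (k + 1)) (CohB1.specQuotTrans J k)) : IsSys J Xs p i where
  base := hp
  cart k := by
    have h := hcart k
    haveI : Mono (CohB1.specQuot J (k + 1)) := by
      haveI := isClosedImmersion_specQuot J ((k + 1))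
      infer_instance
    have w : i k ≫ (Xs (k + 1) ↘ Spec (CommRingCat.of A)) = p k ≫ CohB1.specQuot J k := by
      rw [← hp (k + 1), reassoc_of% h.w, CohB1.specQuotTrans_specQuot]
    have key : ∀ s : PullbackCone (Xs (k + 1) ↘ Spec (CommRingCat.of A)) (CohB1.specQuot J k),
        s.fst ≫ p (k + 1) = s.snd ≫ CohB1.specQuotTrans J k := fun s => by
      rw [← cancel_mono (CohB1.specQuot J (k + 1)), Category.assoc, Category.assoc, hp,
        CohB1.specQuotTrans_specQuot, s.condition]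
    refine IsPullback.of_isLimit' ⟨w⟩ (PullbackCone.IsLimit.mk w (fun s => h.lift _ _ (key s))
      (fun s => h.lift_fst _ _ _) (fun s => h.lift_snd _ _ _) fun s m h1 h2 => h.hom_ext ?_ ?_)
    · rw [h.lift_fst]; exact h1
    · rw [h.lift_snd]; exact h2

variable {J}

theorem toGlobal_eq_zero {X : Scheme.{u}} [X.Over (Spec (CommRingCat.of A))] {n : ℕ}
    (π : X ⟶ Spec (CommRingCat.of (A ⧸ J ^ (n + 1))))
    (hπ : π ≫ CohB1.specQuot J n = X ↘ Spec (CommRingCat.of A)) {a : A} (ha : a ∈ J ^ (n + 1)) :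
    Coh.toGlobal (X ↘ Spec (CommRingCat.of A)) a = 0 := by
  show (X ↘ Spec (CommRingCat.of A)).appTop ((Scheme.ΓSpecIso (CommRingCat.of A)).inv a) = 0
  rw [← hπ, Scheme.Hom.comp_appTop, ConcreteCategory.comp_apply]
  have h := ConcreteCategory.congr_hom (Scheme.ΓSpecIso_inv_naturality
    (CommRingCat.ofHom (Ideal.Quotient.mk (J ^ (n + 1))))) a
  rw [show (CohB1.specQuot J n).appTop ((Scheme.ΓSpecIso (CommRingCat.of A)).inv a) =
    (Scheme.ΓSpecIso (CommRingCat.of (A ⧸ J ^ (n + 1)))).inv (Ideal.Quotient.mk _ a) from h.symm,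
    Ideal.Quotient.eq_zero_iff_mem.2 ha, map_zero, map_zero]

theorem scal_eq_zero {X : Scheme.{u}} [X.Over (Spec (CommRingCat.of A))] {n : ℕ}
    (π : X ⟶ Spec (CommRingCat.of (A ⧸ J ^ (n + 1))))
    (hπ : π ≫ CohB1.specQuot J n = X ↘ Spec (CommRingCat.of A)) {a : A} (ha : a ∈ J ^ (n + 1)) (U : X.Opens) :
    scal A X U a = 0 := by
  refine (congrArg (X.presheaf.map (homOfLE (le_top : U ≤ ⊤)).op) (toGlobal_eq_zero π hπ ha)).trans ?_
  exact map_zero _

theorem smulMod_eq_zero {X : Scheme.{u}} [X.Over (Spec (CommRingCat.of A))] {n : ℕ}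
    (π : X ⟶ Spec (CommRingCat.of (A ⧸ J ^ (n + 1))))
    (hπ : π ≫ CohB1.specQuot J n = X ↘ Spec (CommRingCat.of A)) (M : X.Modules) {a : A} (ha : a ∈ J ^ (n + 1)) :
    smulMod A M a = 0 :=
  AffineBC.hom_ext_affine _ _ fun U _ m => by
    rw [HomSh.smulMod_app, scal_eq_zero π hπ ha, zero_smul]
    rfl

/-- The ideal of the base change of `Spec (A / J^(m+1))`. -/
theorem ker_ideal_le {P X : Scheme.{u}} [X.Over (Spec (CommRingCat.of A))] {m : ℕ} {f : P ⟶ X}
    {π : P ⟶ Spec (CommRingCat.of (A ⧸ J ^ (m + 1)))}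
    (h : IsPullback f π (X ↘ Spec (CommRingCat.of A)) (CohB1.specQuot J m)) (U : X.affineOpens) :
    f.ker.ideal U ≤ (J ^ (m + 1)).map (scal A X U.1) := by
  haveI := isClosedImmersion_specQuot J (m)
  rw [Groth.L17.Thick.ker_of_isPullback h,
    Groth.L22.Ideals.comap_ideal (X ↘ Spec (CommRingCat.of A)) _ ⟨⊤, isAffineOpen_top _⟩ U (le_of_le_of_eq le_top (Scheme.Hom.preimage_top _).symm),
    Ideal.map_le_iff_le_comap]
  intro z hz
  rw [Scheme.Hom.ker_apply, RingHom.mem_ker] at hz
  obtain ⟨a, rfl⟩ : ∃ a, (Scheme.ΓSpecIso (CommRingCat.of A)).inv a = z :=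
    ⟨(Scheme.ΓSpecIso (CommRingCat.of A)).hom z, Iso.hom_inv_id_apply _ _⟩
  have h1 := ConcreteCategory.congr_hom (Scheme.ΓSpecIso_inv_naturality
    (CommRingCat.ofHom (Ideal.Quotient.mk (J ^ (m + 1))))) a
  have ha : a ∈ J ^ (m + 1) := by
    rw [← Ideal.Quotient.eq_zero_iff_mem]
    apply (ConcreteCategory.bijective_of_isIso (Scheme.ΓSpecIso (CommRingCat.of (A ⧸ J ^ (m + 1)))).inv).1
    rw [map_zero]
    exact h1.trans hz
  rw [Ideal.mem_comap]
  exact Ideal.mem_map_of_mem (scal A X U.1) ha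

section Sys

variable {Xs : ℕ → Scheme.{u}} [∀ k, (Xs k).Over (Spec (CommRingCat.of A))]
  {p : (k : ℕ) → (Xs k ⟶ Spec (CommRingCat.of (A ⧸ J ^ (k + 1))))} {i : (k : ℕ) → (Xs k ⟶ Xs (k + 1))}
  (S : IsSys J Xs p i)

include S

theorem i_base (k : ℕ) :
    i k ≫ (Xs (k + 1) ↘ Spec (CommRingCat.of A)) = Xs k ↘ Spec (CommRingCat.of A) :=
  (S.cart k).w.trans (S.base k)

theorem isClosedImmersion_i (k : ℕ) : IsClosedImmersion (i k) :=
  haveI := isClosedImmersion_specQuot J (k)
  MorphismProperty.of_isPullback (P := @IsClosedImmersion) (S.cart k).flip inferInstance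

omit S

/-- The inclusion of the special fibre. -/
def j (i : (k : ℕ) → (Xs k ⟶ Xs (k + 1))) : ∀ n, Xs 0 ⟶ Xs n
  | 0 => 𝟙 _
  | n + 1 => j i n ≫ i n

include S

theorem j_base : ∀ n, j i n ≫ (Xs n ↘ Spec (CommRingCat.of A)) = Xs 0 ↘ Spec (CommRingCat.of A)
  | 0 => Category.id_comp _
  | n + 1 => by rw [j, Category.assoc, i_base S, j_base n]

theorem j_cart : ∀ n, IsPullback (j i n) (p 0) (Xs n ↘ Spec (CommRingCat.of A)) (CohB1.specQuot J 0)
  | 0 => by
    haveI : Mono (CohB1.specQuot J 0) := by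
      haveI := isClosedImmersion_specQuot J (0)
      infer_instance
    refine IsPullback.of_isLimit' ⟨by rw [j, Category.id_comp, S.base]⟩ ?_
    refine PullbackCone.IsLimit.mk (by rw [j, Category.id_comp, S.base]) (fun s => s.fst)
      (fun s => Category.comp_id _) (fun s => ?_) fun s m h1 _ => ?_
    · rw [← cancel_mono (CohB1.specQuot J 0), Category.assoc, S.base]
      exact s.condition
    · exact (Category.comp_id m).symm.trans h1
  | n + 1 => by
    have h := j_cart n
    have w : j i (n + 1) ≫ (Xs (n + 1) ↘ Spec (CommRingCat.of A)) = p 0 ≫ CohB1.specQuot J 0 := by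
      rw [j_base S, S.base]
    obtain ⟨T, hT⟩ : ∃ T, T ≫ CohB1.specQuot J n = CohB1.specQuot J 0 :=
      ⟨Spec.map (CommRingCat.ofHom (Ideal.Quotient.factor (Ideal.pow_le_pow_right (show 0 + 1 ≤ n + 1 by omega)))), by
        rw [CohB1.specQuot, CohB1.specQuot, ← Spec.map_comp, ← CommRingCat.ofHom_comp]
        rfl⟩
    have key : ∀ s : PullbackCone (Xs (n + 1) ↘ Spec (CommRingCat.of A)) (CohB1.specQuot J 0),
        ∃ l : s.pt ⟶ Xs 0, l ≫ j i (n + 1) = s.fst ∧ l ≫ p 0 = s.snd := by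
      intro s
      let c := (S.cart n).lift s.fst (s.snd ≫ T) (by rw [Category.assoc, hT, s.condition])
      have hc : c ≫ (Xs n ↘ Spec (CommRingCat.of A)) = s.snd ≫ CohB1.specQuot J 0 := by
        rw [← i_base S n, ← Category.assoc, (S.cart n).lift_fst]
        exact s.condition
      refine ⟨h.lift c s.snd hc, ?_, h.lift_snd _ _ _⟩
      rw [j, ← Category.assoc, h.lift_fst, (S.cart n).lift_fst]
    choose l hl1 hl2 using key
    haveI : Mono (i n) := by haveI := isClosedImmersion_i S n; infer_instance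
    refine IsPullback.of_isLimit' ⟨w⟩ (PullbackCone.IsLimit.mk w l hl1 hl2
      fun s m h1 h2 => h.hom_ext ?_ (h2.trans (hl2 s).symm))
    rw [← cancel_mono (i n), Category.assoc, Category.assoc]
    exact h1.trans (hl1 s).symm

theorem isClosedImmersion_j (n : ℕ) : IsClosedImmersion (j i n) :=
  haveI := isClosedImmersion_specQuot J (0)
  MorphismProperty.of_isPullback (P := @IsClosedImmersion) (j_cart S n).flip inferInstance

theorem surjective_j (n : ℕ) : Function.Surjective (j i n).base := by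
  intro x
  have h := j_cart S n
  have hr : Set.range (CohB1.specQuot J n) ⊆ Set.range (CohB1.specQuot J 0) := by
    have he : ∀ k, Set.range (CohB1.specQuot J k) = PrimeSpectrum.zeroLocus ((J ^ (k + 1) : Ideal A) : Set A) :=
      fun k => by
        show Set.range (PrimeSpectrum.comap (Ideal.Quotient.mk (J ^ (k + 1)))) = _
        rw [range_comap_of_surjective _ _ Ideal.Quotient.mk_surjective, Ideal.mk_ker]
    rw [he, he, PrimeSpectrum.zeroLocus_pow J (Nat.succ_ne_zero n), PrimeSpectrum.zeroLocus_pow J (Nat.succ_ne_zero 0)]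
  have hx : (Xs n ↘ Spec (CommRingCat.of A)) x ∈ Set.range (CohB1.specQuot J 0) := by
    refine hr ?_
    rw [← S.base n]
    exact ⟨p n x, (Scheme.Hom.comp_apply _ _ _).symm⟩
  have hx' : x ∈ Set.range (pullback.fst (Xs n ↘ Spec (CommRingCat.of A)) (CohB1.specQuot J 0)) := by
    rw [Scheme.Pullback.range_fst]
    exact hx
  obtain ⟨y, hy⟩ := hx'
  refine ⟨h.isoPullback.inv y, ?_⟩
  rw [← hy, ← h.isoPullback_inv_fst]
  exact (Scheme.Hom.comp_apply _ _ _).symm

theorem isLocallyNoetherian [IsNoetherianRing A] [IsLocallyNoetherian (Xs 0)] (n : ℕ) :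
    IsLocallyNoetherian (Xs n) := by
  haveI := isClosedImmersion_j S n
  refine Groth.L17.Thick.isLocallyNoetherian_of_local (j i n) (surjective_j S n) fun x => ?_
  obtain ⟨_, ⟨V, hV, rfl⟩, hxV, -⟩ :=
    (Xs n).isBasis_affineOpens.exists_subset_of_mem_open (Set.mem_univ x) isOpen_univ
  refine ⟨⟨V, hV⟩, hxV, ?_⟩
  have h1 : (j i n).ker.ideal ⟨V, hV⟩ = (J ^ (0 + 1)).map (scal A (Xs n) V) := by
    refine le_antisymm (ker_ideal_le (j_cart S n) ⟨V, hV⟩) (Ideal.map_le_iff_le_comap.2 fun a ha => ?_)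
    rw [Ideal.mem_comap, Scheme.Hom.ker_apply, RingHom.mem_ker]
    have h2 := scal_eq_zero (p 0) (S.base 0) ha ((j i n) ⁻¹ᵁ V)
    have h3 : ∀ b, (j i n).app V (scal A (Xs n) V b) = scal A (Xs 0) ((j i n) ⁻¹ᵁ V) b := fun b => by
      show (j i n).app V ((Xs n).presheaf.map (homOfLE le_top).op
        ((Xs n ↘ Spec (CommRingCat.of A)).appTop ((Scheme.ΓSpecIso (CommRingCat.of A)).inv b))) = _
      refine (ConcreteCategory.congr_hom ((j i n).naturality (homOfLE (le_top : V ≤ ⊤)).op) _).trans ?_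
      show _ = (Xs 0).presheaf.map (homOfLE le_top).op
        ((Xs 0 ↘ Spec (CommRingCat.of A)).appTop ((Scheme.ΓSpecIso (CommRingCat.of A)).inv b))
      rw [← j_base S n]
      rfl
    exact (h3 a).trans h2
  rw [h1]
  exact Ideal.FG.map (IsNoetherian.noetherian (J ^ (0 + 1))) _

end Sys

end Groth.L16.Exist.Adic
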