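import Groth.Agent.L16.Exist.AdicSections
import Groth.Agent.L16.Exist.AlgImmersion
import Groth.Agent.L18.ProjSpaceUP
import Groth.Agent.L18.SpecLine
import Groth.Agent.L22.VeryAmple.Immersion
import Groth.Agent.L19.ProjBdl.PullComp

/-!
A system of thickenings with an ample special fibre embeds compatibly into a projective space.
-/

set_option autoImplicit false
set_option linter.style.haveILetI false
set_option backward.isDefEq.respectTransparency false
set_option backward.isDefEq.respectTransparency.types false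

universe u

open CategoryTheory CategoryTheory.Limits AlgebraicGeometry TopologicalSpace Opposite

noncomputable section

namespace Groth.L16.Exist.Adic

open Groth.L18.Frame (rs ro rs_rs rs_smul rs_self pull IsFrame)
open Groth.L18.PUP (P O1 T rT)
open Groth.L19.ProjBdl (pull_comp pull_app isFrame_of_iso)

/-- Frames of the restriction to a closed subscheme with the same space come from frames. -/
theorem exists_frame_of_pull {Z X : Scheme.{u}} (f : Z ⟶ X) (hf : Function.Surjective f.base) {M : X.Modules}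
    (hM : PicF.IsInvertible M) {M₀ : Z.Modules} (Φ : (Scheme.Modules.pullback f).obj M ≅ M₀) (x : X)
    {ι : Type} (s : ι → Γ(M, ⊤))
    (h : ∀ z : Z, ∃ (W : Z.Opens) (j : ι), z ∈ W ∧
      IsFrame M₀ W (rs M₀ le_top (Φ.hom.app ⊤ (ProjUP.pullSec f M (s j))))) :
    ∃ (W : X.Opens) (j : ι), x ∈ W ∧ IsFrame M W (rs M le_top (s j)) := by
  obtain ⟨z, rfl⟩ := hf x
  obtain ⟨W', j, hzW', hfr⟩ := h z
  obtain ⟨W, e, hxW, he⟩ := Groth.L18.Frame.exists_frame hM (f.base z)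
  obtain ⟨c, hc⟩ := he.exists_coeff le_rfl (rs M le_top (s j))
  rw [rs_self] at hc
  let e' : Γ(M₀, f ⁻¹ᵁ W) := Φ.hom.app (f ⁻¹ᵁ W) (pull f M W e)
  have he' : IsFrame M₀ (f ⁻¹ᵁ W) e' := isFrame_of_iso Φ (IsFrame.pullback f M he)
  have hce : f.app W c • e' = rs M₀ le_top (Φ.hom.app ⊤ (ProjUP.pullSec f M (s j))) := by
    rw [← Scheme.Modules.Hom.app_smul, ← Groth.L18.Frame.pull_smul, hc]
    refine Eq.trans ?_ (congr($(Φ.hom.mapPresheaf.naturality (homOfLE (le_top : f ⁻¹ᵁ W ≤ ⊤)).op)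
      (ProjUP.pullSec f M (s j))))
    exact congrArg (Φ.hom.app (f ⁻¹ᵁ W)) (Groth.L18.Frame.pull_rs f M (le_top : W ≤ ⊤) (s j)).symm
  let W'' := W' ⊓ f ⁻¹ᵁ W
  have h1 := hfr.mono (inf_le_left : W'' ≤ W')
  rw [rs_rs] at h1
  have h2 := he'.mono (inf_le_right : W'' ≤ f ⁻¹ᵁ W)
  have h3 : ro (inf_le_right : W'' ≤ f ⁻¹ᵁ W) (f.app W c) • rs M₀ (inf_le_right : W'' ≤ f ⁻¹ᵁ W) e' =
      rs M₀ le_top (Φ.hom.app ⊤ (ProjUP.pullSec f M (s j))) := by
    rw [← rs_smul, hce, rs_rs]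
  rw [← h3] at h1
  have hu := Groth.L18.Frame.isUnit_of_isFrame h2 h1
  have hz : z ∈ Z.basicOpen (f.app W c) := by
    have h4 := Z.basicOpen_of_isUnit hu
    rw [ro, Scheme.basicOpen_res] at h4
    exact (h4.ge (x := z) ⟨hzW', hxW⟩).2
  rw [← Scheme.preimage_basicOpen] at hz
  refine ⟨X.basicOpen c, j, hz, ?_⟩
  have h5 := congrArg (rs M (X.basicOpen_le c)) hc
  rw [rs_smul, rs_rs] at h5
  rw [← h5]
  exact (he.mono (X.basicOpen_le c)).smul_unit (RingedSpace.isUnit_res_basicOpen X.toRingedSpace c)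

variable {A : Type u} [CommRing A] [IsNoetherianRing A] {J : Ideal A} {Xs : ℕ → Scheme.{u}}
  [∀ k, (Xs k).Over (Spec (CommRingCat.of A))]
  {p : (k : ℕ) → (Xs k ⟶ Spec (CommRingCat.of (A ⧸ J ^ (k + 1))))} {i : (k : ℕ) → (Xs k ⟶ Xs (k + 1))}

/-- A system with ample special fibre embeds compatibly into a projective space. -/
theorem exists_embedding (S : IsSys J Xs p i) [IsProper (Xs 0 ↘ Spec (CommRingCat.of A))]
    (L : (k : ℕ) → (Xs k).Modules) (hL : ∀ k, PicF.IsInvertible (L k))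
    (φ : ∀ k, (Scheme.Modules.pullback (i k)).obj (L (k + 1)) ≅ L k) (ha : CohB1.IsAmple (L 0)) :
    ∃ (n : ℕ) (r : (k : ℕ) → (Xs k ⟶ P n A)), (∀ k, IsClosedImmersion (r k)) ∧
      (∀ k, r k = i k ≫ r (k + 1)) ∧ ∀ k, r k ≫ Groth.L18.PUP.pr n A = Xs k ↘ Spec (CommRingCat.of A) := by
  haveI : IsLocallyNoetherian (Xs 0) := LocallyOfFiniteType.isLocallyNoetherian (Xs 0 ↘ Spec (CommRingCat.of A))
  haveI : (Xs 0).IsSeparated := Groth.L18.Ample.isSeparated_of_isAmple ha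
  obtain ⟨n₀, hη⟩ := exists_surjective_unit_pow S L hL φ ha
  obtain ⟨N₀, hemb⟩ := Groth.L22.VeryAmple.exists_forall_immersion_of_isAmple (R := A)
    (Xs 0 ↘ Spec (CommRingCat.of A)) ha
  let d := max n₀ N₀
  obtain ⟨n, r₀, hr₀, hi₀, ⟨τ⟩⟩ := hemb d (le_max_right _ _)
  let M : (k : ℕ) → (Xs k).Modules := fun k => CohB1.tensorPow (L k) d
  have hM : ∀ k, PicF.IsInvertible (M k) := fun k => Groth.L18.Ample.isInvertible_tensorPow (hL k) d
  let Φ : ∀ k, (Scheme.Modules.pullback (i k)).obj (M (k + 1)) ≅ M k := fun k =>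
    Groth.L18.Ample.pullPow (i k) (L (k + 1)) d ≪≫ Groth.L00.Tensor.tensorPowIso (φ k) d
  have hlift : ∀ (k : ℕ) (s : Γ(M k, ⊤)), ∃ s' : Γ(M (k + 1), ⊤),
      (Φ k).hom.app ⊤ (ProjUP.pullSec (i k) (M (k + 1)) s') = s := fun k s => by
    obtain ⟨s', hs'⟩ := hη d (le_max_left _ _) k ((Φ k).inv.app ⊤ s)
    refine ⟨s', (congrArg ((Φ k).hom.app ⊤) hs').trans ?_⟩
    exact ConcreteCategory.congr_hom (congrArg (fun t => Scheme.Modules.Hom.app t ⊤) (Φ k).inv_hom_id) s
  choose lift hlift using hlift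
  let s : ∀ k, Fin (n + 1) → Γ(M k, ⊤) := fun k => Nat.rec (motive := fun k => Fin (n + 1) → Γ(M k, ⊤))
    (fun l => τ.hom.app ⊤ (rT r₀ l)) (fun k sk l => lift k (sk l)) k
  have hs : ∀ k l, (Φ k).hom.app ⊤ (ProjUP.pullSec (i k) (M (k + 1)) (s (k + 1) l)) = s k l :=
    fun k l => hlift k (s k l)
  have hgen : ∀ k (x : Xs k), ∃ (W : (Xs k).Opens) (l : Fin (n + 1)),
      x ∈ W ∧ IsFrame (M k) W (rs (M k) le_top (s k l)) := by
    intro k
    induction k with
    | zero =>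
      intro x
      obtain ⟨W, l, hx, hfr⟩ := Groth.L18.PUP.rT_cover r₀ x
      refine ⟨W, l, hx, ?_⟩
      have := isFrame_of_iso τ hfr
      rwa [show τ.hom.app W (rs _ le_top (rT r₀ l)) = rs (M 0) le_top (τ.hom.app ⊤ (rT r₀ l)) from
        congr($(τ.hom.mapPresheaf.naturality (homOfLE (le_top : W ≤ ⊤)).op) (rT r₀ l))] at this
    | succ k ih =>
      intro x
      refine exists_frame_of_pull (i k) (fun y => ?_) (hM (k + 1)) (Φ k) x (s (k + 1)) fun z => ?_
      · obtain ⟨w, hw⟩ := surjective_j S (k + 1) y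
        exact ⟨(j i k).base w, hw⟩
      · simp only [hs]
        exact ih z
  choose r hr τs hτs using fun k => Groth.L18.PUP.exists_hom (n := n) (R := A) (Xs k ↘ Spec (CommRingCat.of A))
    (M k) (hM k) (s k) (Groth.L18.SpecLine.generatedBy_of_frames (s k) (hgen k))
  have hcompat : ∀ k, r k = i k ≫ r (k + 1) := fun k => by
    let g := i k ≫ r (k + 1)
    let T' : (Scheme.Modules.pullback g).obj (O1 n A) ≅ (Scheme.Modules.pullback (r k)).obj (O1 n A) :=
      ((Scheme.Modules.pullbackComp (i k) (r (k + 1))).app (O1 n A)).symm ≪≫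
        (Scheme.Modules.pullback (i k)).mapIso (τs (k + 1)) ≪≫ Φ k ≪≫ (τs k).symm
    refine (Groth.L18.PUP.hom_ext g (r k) (by rw [Category.assoc, hr, i_base S, hr]) T' fun l => ?_).symm
    show (τs k).inv.app ⊤ ((Φ k).hom.app ⊤ (((Scheme.Modules.pullback (i k)).map (τs (k + 1)).hom).app ⊤
      (((Scheme.Modules.pullbackComp (i k) (r (k + 1))).inv.app (O1 n A)).app ⊤ (rT g l)))) = rT (r k) l
    have h1 : ((Scheme.Modules.pullbackComp (i k) (r (k + 1))).inv.app (O1 n A)).app ⊤ (rT g l) =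
        pull (i k) _ ⊤ (rT (r (k + 1)) l) := pull_comp (i k) (r (k + 1)) (O1 n A) ⊤ (T l)
    have h2 : ((Scheme.Modules.pullback (i k)).map (τs (k + 1)).hom).app ⊤ (pull (i k) _ ⊤ (rT (r (k + 1)) l)) =
        ProjUP.pullSec (i k) (M (k + 1)) (s (k + 1) l) :=
      (pull_app (i k) (τs (k + 1)).hom ⊤ (rT (r (k + 1)) l)).trans
        (congrArg (pull (i k) (M (k + 1)) ⊤) (hτs (k + 1) l))
    rw [h1, h2, hs, ← hτs k l]
    exact ConcreteCategory.congr_hom (congrArg (fun t => Scheme.Modules.Hom.app t ⊤) (τs k).hom_inv_id) _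
  refine ⟨n, r, fun k => ?_, hcompat, hr⟩
  haveI : IsClosedImmersion r₀ := by
    haveI : IsImmersion r₀ := hi₀
    haveI : IsProper (r₀ ≫ Groth.L18.PUP.pr n A) := by rw [hr₀]; infer_instance
    haveI : IsProper r₀ := IsProper.of_comp r₀ (Groth.L18.PUP.pr n A)
    exact IsClosedImmersion.of_isPreimmersion r₀ r₀.isClosedMap.isClosed_range
  have h0 : r 0 = r₀ := Groth.L18.PUP.hom_ext (r 0) r₀ ((hr 0).trans hr₀.symm) (τs 0 ≪≫ τ.symm) fun l => by
    show τ.inv.app ⊤ ((τs 0).hom.app ⊤ (rT (r 0) l)) = rT r₀ l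
    rw [hτs 0 l]
    exact ConcreteCategory.congr_hom (congrArg (fun t => Scheme.Modules.Hom.app t ⊤) τ.hom_inv_id) _
  have hj : ∀ k, j i k ≫ r k = r₀ := by
    intro k
    induction k with
    | zero => rw [j, Category.id_comp, h0]
    | succ k ih => rw [j, Category.assoc, ← hcompat k, ih]
  letI : (P n A).Over (Spec (CommRingCat.of A)) := ⟨Groth.L18.PUP.pr n A⟩
  exact isClosedImmersion_of_zero S (r k) (hr k) (by rw [hj]; infer_instance)

end Groth.L16.Exist.Adic
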