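import Groth.Agent.S0040
import Groth.Agent.L16.Exist.ThickIso

/-!
Open and closed subschemes lifting proper open parts of the special fibre over a complete ring.
-/

set_option autoImplicit false
set_option linter.style.haveILetI false
set_option backward.isDefEq.respectTransparency false
set_option backward.isDefEq.respectTransparency.types false

universe u

open CategoryTheory CategoryTheory.Limits AlgebraicGeometry TopologicalSpace Opposite

noncomputable section

namespace Groth.L16.Exist.Adic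

open AffineBC (scal)

variable {A : Type u} [CommRing A] [IsNoetherianRing A] (I : Ideal A)

omit [IsNoetherianRing A] in
/-- A morphism whose restrictions to all the thickenings factor through a closed immersion is covered by it near
the special fibre. -/
theorem exists_le_range {X W : Scheme.{u}} [IsLocallyNoetherian X] [X.Over (Spec (CommRingCat.of A))]
    (i : W ⟶ X) [IsClosedImmersion i] {Ts : ℕ → Scheme.{u}}
    (p : (n : ℕ) → (Ts n ⟶ Spec (CommRingCat.of (A ⧸ I ^ (n + 1))))) (t : (n : ℕ) → (Ts n ⟶ X))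
    (ht : ∀ n, IsPullback (t n) (p n) (X ↘ Spec (CommRingCat.of A)) (CohB1.specQuot I n))
    (V : (n : ℕ) → (Ts n).Opens) (w : (n : ℕ) → ((V n : Scheme.{u}) ⟶ W))
    (hw : ∀ n, w n ≫ i = (V n).ι ≫ t n) {O : X.Opens} (hO : ∀ n, t n ⁻¹ᵁ O ≤ V n) {x : X} (hxO : x ∈ O)
    (hx : (X ↘ Spec (CommRingCat.of A)) x ∈ PrimeSpectrum.zeroLocus (I : Set A)) :
    ∃ D : X.Opens, x ∈ D ∧ (D : Set X) ⊆ Set.range i := by
  classical
  obtain ⟨_, ⟨U, hU, rfl⟩, hxU, hUO⟩ := X.isBasis_affineOpens.exists_subset_of_mem_open hxO O.2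
  haveI : IsNoetherianRing Γ(X, U) := IsLocallyNoetherian.component_noetherian ⟨U, hU⟩
  let IR := I.map (scal A X U)
  let K := i.ker.ideal ⟨U, hU⟩
  have hmod : ∀ a ∈ K, ∀ n, a ∈ IR ^ (n + 1) := by
    intro a ha n
    haveI : IsClosedImmersion (t n) :=
      haveI := isClosedImmersion_specQuot I n
      MorphismProperty.of_isPullback (P := @IsClosedImmersion) (ht n).flip inferInstance
    have hle : t n ⁻¹ᵁ U ≤ V n := fun y hy => hO n (hUO hy)
    have h1 : (V n).ι.app (t n ⁻¹ᵁ U) ((t n).app U a) = 0 := by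
      have e := ConcreteCategory.congr_hom (Scheme.Hom.congr_app (hw n) U) a
      rw [ConcreteCategory.comp_apply, Scheme.Hom.comp_app, Scheme.Hom.comp_app, ConcreteCategory.comp_apply,
        ConcreteCategory.comp_apply, (RingHom.mem_ker.1 (show a ∈ RingHom.ker (i.app U).hom by
          rw [← Scheme.Hom.ker_apply i ⟨U, hU⟩]; exact ha) : i.app U a = 0), map_zero] at e
      exact (ConcreteCategory.bijective_of_isIso ((V n : Scheme.{u}).presheaf.map (eqToHom (by simp only [hw n, Scheme.Hom.comp_preimage])).op)).1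
        (e.symm.trans (map_zero _).symm)
    have hmem : a ∈ (t n).ker.ideal ⟨U, hU⟩ := by
      rw [Scheme.Hom.ker_apply, RingHom.mem_ker]
      haveI : IsIso ((V n).ι.app (t n ⁻¹ᵁ U)) := Scheme.Hom.isIso_app _ _ (by
        rw [Scheme.Opens.opensRange_ι]; exact hle)
      exact (ConcreteCategory.bijective_of_isIso ((V n).ι.app (t n ⁻¹ᵁ U))).1 (h1.trans (map_zero _).symm)
    have h2 := ker_ideal_le (J := I) (ht n) ⟨U, hU⟩ hmem
    rwa [Ideal.map_pow] at h2
  have hkr : ∀ a ∈ K, ∃ r : IR, (r : Γ(X, U)) * a = a := fun a ha => by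
    refine (Ideal.mem_iInf_smul_pow_eq_bot_iff IR _).1 (Submodule.mem_iInf _ |>.2 fun k => ?_)
    cases k with
    | zero => simp
    | succ k => rw [smul_eq_mul, Ideal.mul_top]; exact hmod a ha k
  obtain ⟨s, hs⟩ := (IsNoetherian.noetherian K : K.FG)
  choose r hr using hkr
  have hsK : ∀ b ∈ s, b ∈ K := fun b hb => hs ▸ Submodule.subset_span hb
  let u : Γ(X, U) := ∏ b ∈ s.attach, (1 - (r b.1 (hsK b.1 b.2) : Γ(X, U)))
  have hu : ∀ a ∈ K, u * a = 0 := by
    intro a ha
    rw [← hs] at ha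
    induction ha using Submodule.span_induction with
    | mem b hb =>
      rw [show u = (1 - (r b (hsK b hb) : Γ(X, U))) *
          ∏ c ∈ s.attach.erase ⟨b, hb⟩, (1 - (r c.1 (hsK c.1 c.2) : Γ(X, U))) from
        (Finset.mul_prod_erase s.attach _ (Finset.mem_attach _ ⟨b, hb⟩)).symm,
        mul_right_comm, sub_mul, one_mul, hr, sub_self, zero_mul]
    | zero => rw [mul_zero]
    | add y y' _ _ h h' => rw [mul_add, h, h', add_zero]
    | smul d y _ h => rw [smul_eq_mul, mul_left_comm, h, mul_zero]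
  have hxu : x ∈ X.basicOpen u := by
    rw [Scheme.mem_basicOpen _ _ _ hxU, map_prod]
    refine (IsUnit.prod_iff).2 fun b _ => ?_
    have hm : ¬ IsUnit (X.presheaf.germ U x hxU (r b.1 (hsK b.1 b.2) : Γ(X, U))) := by
      have hle : IR ≤ (IsLocalRing.maximalIdeal (X.presheaf.stalk x)).comap (X.presheaf.germ U x hxU).hom := by
        rw [Ideal.map_le_iff_le_comap]
        intro a ha hunit
        have h3 : x ∈ X.basicOpen (scal A X U a) := (Scheme.mem_basicOpen _ _ _ hxU).2 hunit
        rw [scal, RingHom.comp_apply, RingHom.comp_apply] at h3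
        erw [Scheme.basicOpen_res, Scheme.Hom.appTop] at h3
        have h4 := h3.2
        erw [← Scheme.preimage_basicOpen] at h4
        change (X ↘ Spec (CommRingCat.of A)) x ∈
          (Spec (CommRingCat.of A)).basicOpen ((Scheme.ΓSpecIso (CommRingCat.of A)).inv a) at h4
        rw [basicOpen_eq_of_affine'] at h4
        erw [Iso.inv_hom_id_apply] at h4
        exact h4 (hx ha)
      exact hle (r b.1 (hsK b.1 b.2)).2
    rw [map_sub, map_one]
    exact (IsLocalRing.isUnit_or_isUnit_of_add_one (sub_add_cancel _ _)).resolve_right hm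
  refine ⟨X.basicOpen u, hxu, fun y hy => ?_⟩
  rw [← i.isClosedMap.isClosed_range.closure_eq, ← Scheme.Hom.support_ker]
  refine (i.ker.mem_support_iff_of_mem (U := ⟨U, hU⟩) (X.basicOpen_le u hy)).2 ?_
  rw [Scheme.mem_zeroLocus_iff]
  intro a ha hya
  have h1 : y ∈ X.basicOpen (u * a) := by rw [X.basicOpen_mul]; exact ⟨hy, hya⟩
  rw [hu a ha, Scheme.basicOpen_zero] at h1
  exact h1

variable [IsAdicComplete I A]

/-- An open part of the special fibre which is proper over the base lifts to an open and closed part. -/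
theorem exists_clopen {X : Scheme.{u}} (f : X ⟶ Spec (CommRingCat.of A)) [IsSeparated f]
    [LocallyOfFiniteType f] [QuasiCompact f]
    (V : (CohB1.thick f I 0).Opens) [IsProper (V.ι ≫ CohB1.thickToBase f I 0)] :
    ∃ U : X.Opens, IsClosed (U : Set X) ∧ IsProper (U.ι ≫ f) ∧ CohB1.thickι f I 0 ⁻¹ᵁ U = V := by
  haveI : IsLocallyNoetherian X := LocallyOfFiniteType.isLocallyNoetherian f
  letI : X.Over (Spec (CommRingCat.of A)) := ⟨f⟩
  have hcl : ∀ n, IsClosedImmersion (CohB1.thickι f I n) := fun n =>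
    MorphismProperty.pullback_fst (P := @IsClosedImmersion) _ _ (isClosedImmersion_specQuot I n)
  have hcart : ∀ n, IsPullback (CohB1.thickι f I n) (CohB1.thickToBase f I n) f (CohB1.specQuot I n) :=
    fun n => IsPullback.of_hasPullback f (CohB1.specQuot I n)
  haveI := hcl 0
  haveI : IsClosedImmersion V.ι := by
    haveI : IsProper V.ι := IsProper.of_comp V.ι (CohB1.thickToBase f I 0)
    exact IsClosedImmersion.of_isPreimmersion V.ι V.ι.isClosedMap.isClosed_range
  have hVc : IsClosed (V : Set (CohB1.thick f I 0)) := by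
    rw [← V.range_ι]; exact V.ι.isClosedMap.isClosed_range
  obtain ⟨O', hO', hOV⟩ := (CohB1.thickι f I 0).isEmbedding.isInducing.isOpen_iff.1 V.2
  let O : X.Opens := ⟨O', hO'⟩
  have hO : CohB1.thickι f I 0 ⁻¹ᵁ O = V := Opens.ext hOV
  let Vn : (n : ℕ) → (CohB1.thick f I n).Opens := fun n => CohB1.thickι f I n ⁻¹ᵁ O
  have hVn : ∀ n, IsClosed (Vn n : Set (CohB1.thick f I n)) := fun n => by
    have hC : IsClosed (CohB1.thickι f I 0 '' (V : Set (CohB1.thick f I 0))) :=
      (CohB1.thickι f I 0).isClosedMap _ hVc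
    have e : (Vn n : Set (CohB1.thick f I n)) =
        CohB1.thickι f I n ⁻¹' (CohB1.thickι f I 0 '' (V : Set (CohB1.thick f I 0))) := by
      ext y
      constructor
      · intro hy
        obtain ⟨z, hz⟩ : CohB1.thickι f I n y ∈ Set.range (CohB1.thickι f I 0) := by
          rw [range_of_cart (hcart 0), ← range_of_cart (hcart n)]
          exact ⟨y, rfl⟩
        refine ⟨z, ?_, hz⟩
        rw [← hO]
        show CohB1.thickι f I 0 z ∈ O
        rw [hz]
        exact hy
      · rintro ⟨z, hz, hzy⟩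
        rw [← hO] at hz
        show CohB1.thickι f I n y ∈ O
        rw [← hzy]
        exact hz
    rw [e]
    exact hC.preimage (CohB1.thickι f I n).continuous
  have hι : ∀ k, CohB1.thickTrans f I k ≫ CohB1.thickι f I (k + 1) = CohB1.thickι f I k := fun k =>
    (pullback.lift_fst _ _ _).trans (Category.comp_id _)
  have hVt : ∀ k, Vn k = CohB1.thickTrans f I k ⁻¹ᵁ Vn (k + 1) := fun k => by
    show CohB1.thickι f I k ⁻¹ᵁ O = _
    rw [← Scheme.Hom.comp_preimage, hι]
  let tt : (k : ℕ) → ((Vn k : Scheme.{u}) ⟶ (Vn (k + 1) : Scheme.{u})) := fun k =>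
    ((CohB1.thick f I k).isoOfEq (hVt k)).hom ≫ CohB1.thickTrans f I k ∣_ Vn (k + 1)
  have htt : ∀ k, IsPullback (tt k) (Vn k).ι (Vn (k + 1)).ι (CohB1.thickTrans f I k) := fun k =>
    IsPullback.of_iso (isPullback_morphismRestrict _ (Vn (k + 1)))
      ((CohB1.thick f I k).isoOfEq (hVt k)).symm (Iso.refl _) (Iso.refl _) (Iso.refl _)
      (by simp [tt]) (by simp) (by simp) (by simp)
  have hzcl : ∀ n, IsClosedImmersion (Vn n).ι := fun n =>
    IsClosedImmersion.of_isPreimmersion _ (by rw [Scheme.Opens.range_ι]; exact hVn n)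
  have hp0 : IsProper ((Vn 0).ι ≫ CohB1.thickToBase f I 0) := by
    rw [← ((CohB1.thick f I 0).isoOfEq hO).hom_inv_id_assoc (Vn 0).ι, Scheme.isoOfEq_inv_ι]
    rw [Category.assoc]
    infer_instance
  obtain ⟨W, i, w, hi, hip, -, hw⟩ :=
    Groth.Agent.S0040.result A I f (fun n => (Vn n : Scheme.{u})) (fun n => (Vn n).ι) tt hzcl htt hp0
  haveI := hi
  haveI := hip
  let R : Set X := Set.range i
  have hRc : IsClosed R := i.isClosedMap.isClosed_range
  have hspec : ∀ x ∈ R, f x ∈ PrimeSpectrum.zeroLocus (I : Set A) → x ∈ interior R := by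
    intro x hxR hx
    obtain ⟨z, hz⟩ : x ∈ Set.range (CohB1.thickι f I 0) := by rw [range_of_cart (hcart 0)]; exact hx
    have hxO : x ∈ O := by
      obtain ⟨v, hv⟩ : z ∈ Set.range (Vn 0).ι := by
        obtain ⟨a, ha⟩ := hxR
        obtain ⟨v, -, hv⟩ := (Scheme.exists_preimage_of_isPullback (hw 0) a z (ha.trans hz.symm))
        exact ⟨v, hv⟩
      rw [← hz, ← hv]
      exact v.2
    obtain ⟨D, hxD, hD⟩ := exists_le_range I i (fun n => CohB1.thickToBase f I n) (CohB1.thickι f I) hcart Vn w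
      (fun n => (hw n).w) (fun n => le_rfl) hxO hx
    exact interior_maximal hD D.2 hxD
  have hRo : IsOpen R := by
    suffices h : R \ interior R = ∅ by
      rw [← interior_eq_iff_isOpen]
      exact interior_subset.antisymm (Set.sdiff_eq_empty.1 h)
    by_contra hne
    obtain ⟨x, hx⟩ := Set.nonempty_iff_ne_empty.2 hne
    obtain ⟨a, rfl⟩ := hx.1
    let C : Set W := i ⁻¹' (interior R)ᶜ
    have hC : IsClosed ((i ≫ f) '' C) := (i ≫ f).isClosedMap _ (isOpen_interior.isClosed_compl.preimage i.continuous)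
    obtain ⟨m, hm, hle⟩ := Ideal.exists_le_maximal (show PrimeSpectrum A from f (i a)).asIdeal
      (show PrimeSpectrum A from f (i a)).isPrime.ne_top
    let M : PrimeSpectrum A := ⟨m, hm.isPrime⟩
    have hxM : (show PrimeSpectrum A from f (i a)) ⤳ M := (PrimeSpectrum.le_iff_specializes _ M).1 hle
    obtain ⟨b, hb, hbM⟩ := hxM.mem_closed hC ⟨a, hx.2, Scheme.Hom.comp_apply i f a⟩
    refine hb (hspec _ ⟨b, rfl⟩ ?_)
    rw [← Scheme.Hom.comp_apply, hbM]
    exact fun c hc => ((IsAdicComplete.le_jacobson_bot I).trans (sInf_le ⟨bot_le, hm⟩)) hc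
  refine ⟨⟨R, hRo⟩, hRc, ?_, ?_⟩
  · haveI : IsClosedImmersion (Scheme.Opens.ι (⟨R, hRo⟩ : X.Opens)) :=
      IsClosedImmersion.of_isPreimmersion _ (by rw [Scheme.Opens.range_ι]; exact hRc)
    exact Groth.L17.ProperOver.isProper_of_range_subset f i _ (by rw [Scheme.Opens.range_ι]; rfl)
  · refine Eq.trans ?_ hO
    ext z
    constructor
    · intro hz
      obtain ⟨a, ha⟩ := hz
      obtain ⟨v, -, rfl⟩ := Scheme.exists_preimage_of_isPullback (hw 0) a z ha
      exact v.2
    · intro hz
      refine ⟨w 0 ⟨z, hz⟩, ?_⟩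
      rw [← Scheme.Hom.comp_apply, (hw 0).w, Scheme.Hom.comp_apply]
      rfl

end Groth.L16.Exist.Adic
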