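import Groth.Agent.L16.Exist.PullSect
import Mathlib.AlgebraicGeometry.Morphisms.Proper
import Mathlib.RingTheory.AdicCompletion.Completeness

/-!
The base change of a proper morphism to the completion of an affine open of the target.
-/

set_option autoImplicit false
set_option linter.style.haveILetI false
set_option backward.isDefEq.respectTransparency false
set_option backward.isDefEq.respectTransparency.types false

universe u

open CategoryTheory CategoryTheory.Limits AlgebraicGeometry TopologicalSpace Opposite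
open scoped TensorProduct

noncomputable section

namespace Groth.L16.Exist

open Groth.L18.Frame (rs ro rs_rs rs_smul)
open AffineBC (scal)

section Alg

theorem completion_decomp {B : Type u} [CommRing B] [IsNoetherianRing B] (J : Ideal B) (n : ℕ)
    (c : AdicCompletion J B) :
    ∃ r : B, AdicCompletion.evalₐ J n c = Ideal.Quotient.mk _ r ∧
      c - algebraMap B _ r ∈ J.map (algebraMap B (AdicCompletion J B)) ^ n := by
  obtain ⟨r, hr⟩ := Ideal.Quotient.mk_surjective (AdicCompletion.evalₐ J n c)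
  refine ⟨r, hr.symm, ?_⟩
  have h0 : AdicCompletion.evalₐ J n (c - algebraMap B _ r) = 0 := by
    rw [map_sub, AlgHom.commutes, ← hr]
    exact sub_self _
  have h1 : AdicCompletion.eval J B n (c - algebraMap B _ r) = 0 := by
    rw [← AdicCompletion.factor_evalₐ_eq_eval J _ (by rw [smul_eq_mul, Ideal.mul_top]), h0, map_zero]
  have h2 : c - algebraMap B _ r ∈ J ^ n • (⊤ : Submodule B (AdicCompletion J B)) := by
    rw [AdicCompletion.pow_smul_top_eq_ker_eval (IsNoetherian.noetherian J)]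
    exact h1
  have h3 := (mem_map_pow_smul J _).2 h2
  rwa [smul_eq_mul, Ideal.mul_top] at h3

variable {B : Type u} [CommRing B] {J : Ideal B} {R R' : CommRingCat.{u}}
  {β : CommRingCat.of B ⟶ R} {k : R ⟶ R'} {σ : CommRingCat.of (AdicCompletion J B) ⟶ R'}
  (hpo : IsPushout β (CommRingCat.ofHom (algebraMap B (AdicCompletion J B))) k σ)

include hpo in
theorem pushout_decomp [IsNoetherianRing B] (n : ℕ) (y : R') :
    ∃ r : R, y - k r ∈ (J.map (algebraMap B (AdicCompletion J B))).map σ.hom ^ n := by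
  let P : Ideal R' := (J.map (algebraMap B (AdicCompletion J B))).map σ.hom ^ n
  let qk : R →+* R' ⧸ P := (Ideal.Quotient.mk P).comp k.hom
  have hσ : ∀ c, Ideal.Quotient.mk P (σ c) ∈ qk.range := fun c => by
    obtain ⟨r, -, hr⟩ := completion_decomp J n c
    refine ⟨β r, ?_⟩
    show Ideal.Quotient.mk P (k (β r)) = _
    rw [show k (β r) = σ (algebraMap B _ r) from ConcreteCategory.congr_hom hpo.w r, Ideal.Quotient.eq]
    refine neg_mem_iff.1 ?_
    rw [neg_sub, ← map_sub]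
    have := Ideal.mem_map_of_mem σ.hom hr
    rwa [Ideal.map_pow] at this
  let S := qk.range
  let d := hpo.desc (CommRingCat.ofHom qk.rangeRestrict)
    (CommRingCat.ofHom (((Ideal.Quotient.mk P).comp σ.hom).codRestrict S hσ))
    (by ext b; exact congrArg (Ideal.Quotient.mk P) (ConcreteCategory.congr_hom hpo.w b))
  have hd : d ≫ CommRingCat.ofHom S.subtype = CommRingCat.ofHom (Ideal.Quotient.mk P) := by
    refine hpo.hom_ext ?_ ?_
    · rw [IsPushout.inl_desc_assoc]; rfl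
    · rw [IsPushout.inr_desc_assoc]; rfl
  obtain ⟨r, hr⟩ := (d.hom y).2
  exact ⟨r, (Ideal.Quotient.eq (I := P)).1 ((ConcreteCategory.congr_hom hd y).symm.trans hr.symm)⟩

include hpo in
theorem pushout_retraction (n : ℕ) :
    ∃ ρ : R' →+* R ⧸ J.map β.hom ^ n, ∀ r : R, ρ (k r) = Ideal.Quotient.mk _ r := by
  let ev : AdicCompletion J B →+* R ⧸ J.map β.hom ^ n :=
    (Ideal.Quotient.lift (J ^ n) ((Ideal.Quotient.mk _).comp β.hom) fun b hb => by
      rw [RingHom.comp_apply, Ideal.Quotient.eq_zero_iff_mem, ← Ideal.map_pow]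
      exact Ideal.mem_map_of_mem _ hb).comp (AdicCompletion.evalₐ J n).toRingHom
  let d := hpo.desc (CommRingCat.ofHom (Ideal.Quotient.mk (J.map β.hom ^ n))) (CommRingCat.ofHom ev) (by
    ext b
    show Ideal.Quotient.mk (J.map β.hom ^ n) (β b) = ev (algebraMap B (AdicCompletion J B) b)
    simp only [ev, RingHom.comp_apply, AlgHom.toRingHom_eq_coe, RingHom.coe_coe, AlgHom.commutes]
    rfl)
  exact ⟨d.hom, fun r => ConcreteCategory.congr_hom (hpo.inl_desc _ _ _) r⟩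

end Alg

theorem isPullback_of_comp_mono {C : Type*} [Category C] {P W S U Y : C} {t : P ⟶ W} {s : P ⟶ S}
    {a : W ⟶ U} {b : S ⟶ U} (m : U ⟶ Y) [Mono m] (h : IsPullback t s (a ≫ m) (b ≫ m)) :
    IsPullback t s a b := by
  have w : t ≫ a = s ≫ b := (cancel_mono m).1 (by simpa using h.w)
  refine IsPullback.of_isLimit' ⟨w⟩ (PullbackCone.IsLimit.mk _
    (fun c => h.lift c.fst c.snd (by rw [c.condition_assoc])) (fun c => h.lift_fst _ _ _)
    (fun c => h.lift_snd _ _ _) fun c l h₁ h₂ => ?_)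
  exact h.hom_ext (h₁.trans (h.lift_fst _ _ _).symm) (h₂.trans (h.lift_snd _ _ _).symm)

section Geom

variable {Y : Scheme.{u}} {U : Y.Opens} (hU : IsAffineOpen U)

/-- The action of the functions on an affine open through a map factoring over it. -/
theorem scal_fromSpec {C : Type u} [CommRing C] {W : Scheme.{u}} [W.Over (Spec (CommRingCat.of C))]
    (k : W ⟶ Y) (ψ : Γ(Y, U) →+* C)
    (hk : k = (W ↘ Spec (CommRingCat.of C)) ≫ Spec.map (CommRingCat.ofHom ψ) ≫ hU.fromSpec)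
    {W' : W.Opens} (e : W' ≤ k ⁻¹ᵁ U) (b : Γ(Y, U)) : k.appLE U W' e b = scal C W W' (ψ b) := by
  subst hk
  let q : W ⟶ Spec Γ(Y, U) := (W ↘ Spec (CommRingCat.of C)) ≫ Spec.map (CommRingCat.ofHom ψ)
  have e' : W' ≤ (q ≫ hU.fromSpec) ⁻¹ᵁ U := by rwa [show q ≫ hU.fromSpec = _ from Category.assoc _ _ _]
  have h1 : (q ≫ hU.fromSpec).appLE U W' e' = hU.fromSpec.app U ≫ q.appLE _ W' e' :=
    Scheme.Hom.comp_appLE q hU.fromSpec U W' e'
  have h2 : ((W ↘ Spec (CommRingCat.of C)) ≫ Spec.map (CommRingCat.ofHom ψ) ≫ hU.fromSpec).appLE U W' e =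
      (q ≫ hU.fromSpec).appLE U W' e' := by
    congr 1
  rw [h2, h1, hU.fromSpec_app_self, Category.assoc, Scheme.Hom.map_appLE]
  show ro (le_top : W' ≤ ⊤) (q.appTop ((Scheme.ΓSpecIso Γ(Y, U)).inv b)) = _
  simp only [q, Scheme.Hom.comp_appTop, ConcreteCategory.comp_apply]
  exact congrArg (fun t => ro (le_top : W' ≤ ⊤) ((W ↘ Spec (CommRingCat.of C)).appTop t))
    (ConcreteCategory.congr_hom (Scheme.ΓSpecIso_inv_naturality (CommRingCat.ofHom ψ)) b).symm

theorem spec_map_scal {A : Type u} [CommRing A] [Y.Over (Spec (CommRingCat.of A))] :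
    Spec.map (CommRingCat.ofHom (scal A Y U)) = hU.fromSpec ≫ (Y ↘ Spec (CommRingCat.of A)) := by
  obtain ⟨φ₀, hφ₀⟩ := Spec.map_surjective (hU.fromSpec ≫ (Y ↘ Spec (CommRingCat.of A)))
  rw [← hφ₀]
  congr 1
  ext a
  let C := Γ(Y, U)
  letI : (Spec Γ(Y, U)).Over (Spec (CommRingCat.of C)) := ⟨𝟙 _⟩
  let φ : A →+* C := φ₀.hom
  have e : (⊤ : (Spec Γ(Y, U)).Opens) ≤ hU.fromSpec ⁻¹ᵁ U := hU.fromSpec_preimage_self.ge
  have h1 := scal_link (C := C) hU.fromSpec φ (by
    rw [show Spec.map (CommRingCat.ofHom φ) = hU.fromSpec ≫ (Y ↘ Spec (CommRingCat.of A)) from hφ₀]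
    exact (Category.id_comp _).symm) a e
  have h2 := scal_fromSpec hU (C := C) hU.fromSpec (RingHom.id _) (by
    rw [CommRingCat.ofHom_id, Spec.map_id]
    exact ((congrArg (𝟙 _ ≫ ·) (Category.id_comp _)).trans (Category.id_comp _)).symm) e (scal A Y U a)
  have h3 : scal C (Spec Γ(Y, U)) ⊤ (scal A Y U a) = scal C (Spec Γ(Y, U)) ⊤ (φ a) := h2.symm.trans h1
  have hinj : Function.Injective (scal C (Spec Γ(Y, U)) ⊤) := by
    intro x y hxy
    have hx : ∀ x : C, scal C (Spec Γ(Y, U)) ⊤ x = (Scheme.ΓSpecIso Γ(Y, U)).inv x := fun x =>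
      (Groth.L18.Frame.ro_self (le_rfl : (⊤ : (Spec Γ(Y, U)).Opens) ≤ ⊤) _).trans
        (ConcreteCategory.congr_hom (Scheme.Hom.id_appTop (X := Spec Γ(Y, U))) ((Scheme.ΓSpecIso Γ(Y, U)).inv x))
    rw [hx, hx] at hxy
    exact (Scheme.ΓSpecIso Γ(Y, U)).symm.commRingCatIsoToRingEquiv.injective hxy
  exact hinj h3

variable {X : Scheme.{u}} (f : X ⟶ Y) (D : Type u) [CommRing D] [Algebra Γ(Y, U) D]

/-- The point of `Y` with values in the algebra. -/
abbrev sY : Spec (CommRingCat.of D) ⟶ Y :=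
  Spec.map (CommRingCat.ofHom (algebraMap Γ(Y, U) D)) ≫ hU.fromSpec

/-- The base change. -/
abbrev XD : Scheme.{u} := pullback f (sY hU D)

/-- The projection. -/
abbrev hD : XD hU f D ⟶ X := pullback.fst f (sY hU D)

instance overXD : (XD hU f D).Over (Spec (CommRingCat.of D)) := ⟨pullback.snd f (sY hU D)⟩

instance isProper_XD [IsProper f] : IsProper (XD hU f D ↘ Spec (CommRingCat.of D)) :=
  MorphismProperty.pullback_snd (P := @IsProper) f _ inferInstance

theorem hD_comp : hD hU f D ≫ f = (XD hU f D ↘ Spec (CommRingCat.of D)) ≫ sY hU D := pullback.condition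

theorem hD_preimage : (⊤ : (XD hU f D).Opens) ≤ hD hU f D ⁻¹ᵁ (f ⁻¹ᵁ U) := by
  intro x _
  show (hD hU f D ≫ f) x ∈ U
  rw [hD_comp]
  have : hU.fromSpec (Spec.map (CommRingCat.ofHom (algebraMap Γ(Y, U) D))
      ((XD hU f D ↘ Spec (CommRingCat.of D)) x)) ∈ hU.fromSpec.opensRange := ⟨_, rfl⟩
  rwa [hU.opensRange_fromSpec] at this

theorem scal_hD {W : X.Opens} {W' : (XD hU f D).Opens} (e₀ : W ≤ f ⁻¹ᵁ U) (e : W' ≤ hD hU f D ⁻¹ᵁ W)
    (b : Γ(Y, U)) :
    (hD hU f D).appLE W W' e (f.appLE U W e₀ b) = scal D (XD hU f D) W' (algebraMap Γ(Y, U) D b) := by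
  refine Eq.trans ?_ (scal_fromSpec hU (hD hU f D ≫ f) (algebraMap Γ(Y, U) D) (hD_comp hU f D) (e.trans
    ((hD hU f D).preimage_mono e₀)) b)
  exact ConcreteCategory.congr_hom (Scheme.Hom.appLE_comp_appLE (hD hU f D) f U W W' e₀ e) b

theorem isPushout_XD {W : X.Opens} (hW : IsAffineOpen W) (e₀ : W ≤ f ⁻¹ᵁ U) :
    IsAffineOpen (hD hU f D ⁻¹ᵁ W) ∧
      IsPushout (f.appLE U W e₀) (CommRingCat.ofHom (algebraMap Γ(Y, U) D))
        ((hD hU f D).appLE W (hD hU f D ⁻¹ᵁ W) le_rfl)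
        (CommRingCat.ofHom (scal D (XD hU f D) (hD hU f D ⁻¹ᵁ W))) := by
  let h := hD hU f D
  let W' := h ⁻¹ᵁ W
  let q := XD hU f D ↘ Spec (CommRingCat.of D)
  let r : W.toScheme ⟶ Spec Γ(Y, U) := f.resLE U W e₀ ≫ hU.isoSpec.hom
  have hr : r ≫ hU.fromSpec = W.ι ≫ f := by
    simp [r, IsAffineOpen.isoSpec_hom_fromSpec, Scheme.Hom.resLE_comp_ι]
  have hpb : IsPullback (h ∣_ W) (W'.ι ≫ q) (r ≫ hU.fromSpec) (sY hU D) := by
    rw [hr]
    exact (isPullback_morphismRestrict h W).paste_vert (IsPullback.of_hasPullback f (sY hU D))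
  have hpb' := isPullback_of_comp_mono hU.fromSpec hpb
  haveI : IsAffine W.toScheme := hW
  haveI : IsAffine W'.toScheme := IsAffine.of_isPullback hpb'
  refine ⟨this, ?_⟩
  refine (isPushout_appTop_of_isPullback hpb').of_iso (Scheme.ΓSpecIso Γ(Y, U)) W.topIso
    (Scheme.ΓSpecIso (CommRingCat.of D)) W'.topIso ?_ ?_ ?_ ?_
  · symm
    rw [← Iso.eq_inv_comp]
    ext b
    letI : W.toScheme.Over (Spec (CommRingCat.of Γ(Y, U))) := ⟨r⟩
    have h1 := scal_fromSpec (C := Γ(Y, U)) (W := W.toScheme) hU (W.ι ≫ f) (RingHom.id _) (by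
        rw [CommRingCat.ofHom_id, Spec.map_id]
        exact hr.symm.trans (congrArg (r ≫ ·) (Category.id_comp _).symm))
      (show (⊤ : W.toScheme.Opens) ≤ (W.ι ≫ f) ⁻¹ᵁ U from fun x _ => e₀ x.2) b
    show f.appLE U W e₀ b = W.topIso.hom (r.appTop ((Scheme.ΓSpecIso Γ(Y, U)).inv b))
    rw [show r.appTop ((Scheme.ΓSpecIso Γ(Y, U)).inv b) = _ from
      ((Groth.L18.Frame.ro_self _ _).symm.trans h1.symm)]
    rw [← Scheme.Hom.appLE_comp_appLE W.ι f U W ⊤ e₀ W.ι_preimage_self.ge, Scheme.Opens.ι_appLE,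
      ConcreteCategory.comp_apply, Scheme.Opens.topIso_hom]
    rw [← ConcreteCategory.comp_apply, ← Functor.map_comp]
    exact (Groth.L18.Frame.ro_self le_rfl _).symm
  · exact Scheme.ΓSpecIso_naturality (CommRingCat.ofHom (algebraMap Γ(Y, U) D))
  · rw [Scheme.Hom.appTop, morphismRestrict_app', Scheme.Opens.topIso_hom, Scheme.Opens.topIso_hom]
    exact (Scheme.Hom.appLE_map h _ _).trans (Scheme.Hom.map_appLE h _ _).symm
  · symm
    rw [← Iso.eq_inv_comp, Scheme.Hom.comp_appTop, Scheme.Opens.ι_appTop, Scheme.Opens.topIso_hom,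
      Category.assoc]
    erw [← Functor.map_comp]
    rfl

/-- Over a basic open where the morphism is an isomorphism, so is the base change. -/
theorem isIso_XD_restrict {U₀ : Y.Opens} (hf : IsIso (f ∣_ U₀)) (a : Γ(Y, U)) (ha : Y.basicOpen a ≤ U₀) :
    IsIso ((XD hU f D ↘ Spec (CommRingCat.of D)) ∣_
      PrimeSpectrum.basicOpen (R := CommRingCat.of D) (algebraMap Γ(Y, U) D a)) := by
  let q := XD hU f D ↘ Spec (CommRingCat.of D)
  let D' : (Spec (CommRingCat.of D)).Opens :=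
    PrimeSpectrum.basicOpen (R := CommRingCat.of D) (algebraMap Γ(Y, U) D a)
  let V := Y.basicOpen a
  have hV : IsIso (f ∣_ V) := by
    haveI := hf
    have h1 : MorphismProperty.isomorphisms Scheme ((f ∣_ U₀) ∣_ (U₀.ι ⁻¹ᵁ V)) :=
      (inferInstance : IsIso _)
    have h2 := ((MorphismProperty.isomorphisms Scheme.{u}).arrow_mk_iso_iff
      (morphismRestrictRestrict f U₀ (U₀.ι ⁻¹ᵁ V) ≪≫ morphismRestrictEq f (show U₀.ι ''ᵁ (U₀.ι ⁻¹ᵁ V) = V by
        rw [Scheme.Hom.image_preimage_eq_opensRange_inf, Scheme.Opens.opensRange_ι]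
        exact inf_eq_right.2 ha))).1 h1
    exact h2
  have hs : D' ≤ (sY hU D) ⁻¹ᵁ V := by
    show D' ≤ Spec.map (CommRingCat.ofHom (algebraMap Γ(Y, U) D)) ⁻¹ᵁ (hU.fromSpec ⁻¹ᵁ Y.basicOpen a)
    rw [hU.fromSpec_preimage_basicOpen]
    exact le_rfl
  have hl : ∀ x, (D'.ι ≫ sY hU D) x ∈ V := fun x => hs x.2
  let t : D'.toScheme ⟶ V.toScheme := IsOpenImmersion.lift V.ι (D'.ι ≫ sY hU D) (by
    rintro _ ⟨x, rfl⟩
    exact ⟨⟨_, hl x⟩, rfl⟩)
  have ht : t ≫ V.ι = D'.ι ≫ sY hU D := IsOpenImmersion.lift_fac _ _ _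
  have hq : IsPullback (q ∣_ D') (((q ⁻¹ᵁ D').ι) ≫ hD hU f D) (t ≫ V.ι) f := by
    rw [ht]
    exact (isPullback_morphismRestrict q D').paste_vert (IsPullback.of_hasPullback f (sY hU D)).flip
  have hf' := (isPullback_morphismRestrict f V).flip
  let u := hf'.lift ((q ⁻¹ᵁ D').ι ≫ hD hU f D) (q ∣_ D' ≫ t) (hq.w.symm.trans (Category.assoc _ _ _).symm)
  have hsq : IsPullback u (q ∣_ D') (f ∣_ V) t := by
    refine IsPullback.of_right ?_ (hf'.lift_snd _ _ _) hf'
    rw [hf'.lift_fst]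
    exact hq.flip
  exact MorphismProperty.of_isPullback (P := MorphismProperty.isomorphisms Scheme.{u}) hsq hV

end Geom

end Groth.L16.Exist
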