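import Groth.Agent.L16.Exist.FormalSect
import Mathlib.AlgebraicGeometry.Modules.Sheaf

/-!
Pullback of sections of the reductions of a module, and formal functions over an affine open of the target of a
proper morphism.
-/

set_option autoImplicit false
set_option linter.style.haveILetI false
set_option backward.isDefEq.respectTransparency false
set_option backward.isDefEq.respectTransparency.types false

universe u

open CategoryTheory CategoryTheory.Limits AlgebraicGeometry TopologicalSpace Opposite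

noncomputable section

namespace Groth.L16.Exist

open Groth.L18.Frame (rs ro rs_rs rs_smul pull pull_rs pull_smul)
open Formal (smulMod smulFamily modPow modPowπ modPowTrans modPowπ_trans)
open Formal2 (modPowLE modPowπ_modPowLE)
open AffineBC (scal)

section Pull

variable {W X : Scheme.{u}} (h : W ⟶ X) {U : X.Opens} {W' : W.Opens} (e : W' ≤ h ⁻¹ᵁ U)

/-- Pullback of sections. -/
def pr (T : X.Modules) : Γ(T, U) →+ Γ((Scheme.Modules.pullback h).obj T, W') where
  toFun x := rs _ e (pull h T U x)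
  map_zero' := (congrArg (rs _ e) (map_zero (((Scheme.Modules.pullbackPushforwardAdjunction h).unit.app T).app U).hom)).trans (map_zero _)
  map_add' a b := (congrArg (rs _ e) (map_add (((Scheme.Modules.pullbackPushforwardAdjunction h).unit.app T).app U).hom a b)).trans (map_add _ _ _)

theorem pr_smul (T : X.Modules) (r : Γ(X, U)) (x : Γ(T, U)) :
    pr h e T (r • x) = (h.appLE U W' e) r • pr h e T x := by
  show rs _ e (pull h T U (r • x)) = _ • rs _ e (pull h T U x)
  rw [pull_smul, rs_smul]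
  rfl

theorem pr_natural {S T : X.Modules} (φ : S ⟶ T) (x : Γ(S, U)) :
    pr h e T (φ.app U x) = ((Scheme.Modules.pullback h).map φ).app W' (pr h e S x) := by
  show rs _ e (pull h T U (φ.app U x)) = _
  have h1 := (Scheme.Modules.pullbackPushforwardAdjunction h).unit.naturality φ
  have h2 : pull h T U (φ.app U x) = ((Scheme.Modules.pullback h).map φ).app (h ⁻¹ᵁ U) (pull h S U x) :=
    ConcreteCategory.congr_hom (congrArg (fun t => Scheme.Modules.Hom.app t U) h1) x
  rw [h2]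
  exact (HomSh.app_rs _ _ _).symm

theorem pr_rs (T : X.Modules) {U₁ : X.Opens} {W₁ : W.Opens} (hU : U₁ ≤ U) (hW : W₁ ≤ W') (e₁ : W₁ ≤ h ⁻¹ᵁ U₁)
    (x : Γ(T, U)) : pr h e₁ T (rs T hU x) = rs _ hW (pr h e T x) := by
  show rs _ e₁ (pull h T U₁ (rs T hU x)) = rs _ hW (rs _ e (pull h T U x))
  rw [← pull_rs, rs_rs, rs_rs]

end Pull

/-- Pullback of sections along an open immersion is bijective. -/
theorem bijective_pr_ι {X : Scheme.{u}} (V : X.Opens) (T : X.Modules) (e : (⊤ : V.toScheme.Opens) ≤ V.ι ⁻¹ᵁ V) :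
    Function.Bijective (pr V.ι e T) := by
  let adj := Scheme.Modules.pullbackPushforwardAdjunction V.ι
  let Θ := Scheme.Modules.restrictFunctorIsoPullback V.ι
  have h1 := Adjunction.unit_leftAdjointUniq_hom_app (Scheme.Modules.restrictAdjunction V.ι) adj T
  have h2 : ∀ x : Γ(T, V), pull V.ι T V x =
      (Θ.hom.app T).app (V.ι ⁻¹ᵁ V) (((Scheme.Modules.restrictAdjunction V.ι).unit.app T).app V x) := fun x =>
    (ConcreteCategory.congr_hom (congrArg (fun t => Scheme.Modules.Hom.app t V) h1) x).symm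
  have hrs : ∀ {W' : X.Opens} (h : W' ≤ V) (h' : V ≤ W'), Function.Bijective (fun x : Γ(T, V) => rs T h x) :=
    fun h h' => ⟨fun a b hab => by
      have := congrArg (rs T h') hab
      rwa [rs_rs, rs_rs, Groth.L18.Frame.rs_self, Groth.L18.Frame.rs_self] at this,
      fun y => ⟨rs T h' y, by show rs T h (rs T h' y) = y; rw [rs_rs, Groth.L18.Frame.rs_self]⟩⟩
  have hiso : ∀ (W' : V.toScheme.Opens), Function.Bijective ((Θ.hom.app T).app W') := fun W' => by
    refine ⟨fun a b hab => ?_, fun y => ⟨(Θ.inv.app T).app W' y, ?_⟩⟩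
    · have := congrArg ((Θ.inv.app T).app W') hab
      rwa [← ConcreteCategory.comp_apply, ← ConcreteCategory.comp_apply, ← Scheme.Modules.Hom.comp_app,
        Iso.hom_inv_id_app, Scheme.Modules.Hom.id_app] at this
    · rw [← ConcreteCategory.comp_apply, ← Scheme.Modules.Hom.comp_app, Iso.inv_hom_id_app]
      rfl
  have htop : (V.ι ⁻¹ᵁ V) = ⊤ := top_le_iff.1 e
  have hb : Function.Bijective (fun x => pull V.ι T V x) := by
    simp only [h2]
    refine (hiso _).comp ?_
    rw [Scheme.Modules.restrictAdjunction_unit_app_app]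
    refine hrs (V.ι.image_preimage_le V) ?_
    rw [Scheme.Hom.image_preimage_eq_opensRange_inf, Scheme.Opens.opensRange_ι, inf_idem]
  show Function.Bijective (fun x => rs _ e (pull V.ι T V x))
  refine Function.Bijective.comp (g := rs _ e) ⟨fun a b hab => ?_, fun y => ⟨rs _ (le_top : V.ι ⁻¹ᵁ V ≤ ⊤) y, ?_⟩⟩ hb
  · have := congrArg (rs _ (le_top : V.ι ⁻¹ᵁ V ≤ ⊤)) hab
    rwa [rs_rs, rs_rs, Groth.L18.Frame.rs_self, Groth.L18.Frame.rs_self] at this
  · rw [rs_rs, Groth.L18.Frame.rs_self]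

section Link

variable {A C : Type u} [CommRing A] [CommRing C] {W X : Scheme.{u}} [X.Over (Spec (CommRingCat.of A))]
  [W.Over (Spec (CommRingCat.of C))] (h : W ⟶ X) (φ : A →+* C)
  (hh : h ≫ (X ↘ Spec (CommRingCat.of A)) = (W ↘ Spec (CommRingCat.of C)) ≫ Spec.map (CommRingCat.ofHom φ))

include hh in
theorem scal_link (a : A) {U : X.Opens} {W' : W.Opens} (e : W' ≤ h ⁻¹ᵁ U) :
    h.appLE U W' e (scal A X U a) = scal C W W' (φ a) := by
  have h1 := congrArg (fun g : W ⟶ Spec (CommRingCat.of A) =>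
    W.presheaf.map (homOfLE (le_top : W' ≤ ⊤)).op (g.appTop ((Scheme.ΓSpecIso (CommRingCat.of A)).inv a))) hh
  simp only [Scheme.Hom.comp_appTop, ConcreteCategory.comp_apply] at h1
  refine Eq.trans ?_ (h1.trans ?_)
  · show h.appLE U W' e (ro (le_top : U ≤ ⊤) _) = ro (le_top : W' ≤ ⊤) (h.appTop _)
    exact (ConcreteCategory.congr_hom (Scheme.Hom.map_appLE h e (homOfLE (le_top : U ≤ ⊤)).op) _)
  · exact congrArg (fun t => W.presheaf.map (homOfLE (le_top : W' ≤ ⊤)).op ((W ↘ Spec (CommRingCat.of C)).appTop t))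
      (ConcreteCategory.congr_hom (Scheme.ΓSpecIso_inv_naturality (CommRingCat.ofHom φ)) a).symm

variable (J : Ideal A) {F : X.Modules}

include hh in
/-- Reductions of the pullback are pullbacks of the reductions. -/
theorem exists_link (F : X.Modules) (m : ℕ) :
    ∃ E : modPow (J.map φ) m ((Scheme.Modules.pullback h).obj F) ≅ (Scheme.Modules.pullback h).obj (modPow J m F),
      modPowπ (J.map φ) m ((Scheme.Modules.pullback h).obj F) ≫ E.hom =
        (Scheme.Modules.pullback h).map (modPowπ J m F) := by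
  letI : W.Over (Spec (CommRingCat.of A)) := ⟨h ≫ (X ↘ Spec (CommRingCat.of A))⟩
  obtain ⟨e₁, he₁⟩ := exists_modPow_changeBase J φ (fun a U => by
    rw [← scal_link h φ hh a (show U ≤ h ⁻¹ᵁ ⊤ from le_top),
      scal_link h (RingHom.id A) (show h ≫ (X ↘ Spec (CommRingCat.of A)) = (W ↘ Spec (CommRingCat.of A)) ≫
        Spec.map (CommRingCat.ofHom (RingHom.id A)) by
          rw [CommRingCat.ofHom_id, Spec.map_id]; exact (Category.comp_id _).symm) a]
    rfl) ((Scheme.Modules.pullback h).obj F) m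
  obtain ⟨e₂, he₂⟩ := Existence.exists_pullback_modPowIso (I := J) h rfl F m
  exact ⟨e₁.symm ≪≫ e₂, by rw [Iso.trans_hom, Iso.symm_hom, ← he₁, Category.assoc, e₁.hom_inv_id_assoc, he₂]⟩

variable {U : X.Opens} {W' : W.Opens} (e : W' ≤ h ⁻¹ᵁ U) {m : ℕ}
  (E : modPow (J.map φ) m ((Scheme.Modules.pullback h).obj F) ≅ (Scheme.Modules.pullback h).obj (modPow J m F))
  (hE : modPowπ (J.map φ) m ((Scheme.Modules.pullback h).obj F) ≫ E.hom =
    (Scheme.Modules.pullback h).map (modPowπ J m F))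

include hE in
theorem link_app (z : Γ(F, U)) :
    E.inv.app W' (pr h e (modPow J m F) ((modPowπ J m F).app U z)) =
      (modPowπ (J.map φ) m ((Scheme.Modules.pullback h).obj F)).app W' (pr h e F z) := by
  rw [pr_natural, ← hE]
  show (E.hom ≫ E.inv).app W' _ = _
  rw [Iso.hom_inv_id]
  rfl

end Link

section Proper

variable {A : Type u} [CommRing A] {X Y : Scheme.{u}} [X.Over (Spec (CommRingCat.of A))]
  [Y.Over (Spec (CommRingCat.of A))] [IsLocallyNoetherian Y] (f : X ⟶ Y) [IsProper f]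
  (hf : f ≫ (Y ↘ Spec (CommRingCat.of A)) = X ↘ Spec (CommRingCat.of A)) (J : Ideal A)
  {F : X.Modules} {U : Y.Opens}

include hf in
/-- Formal functions for the sections over the preimage of an affine open. -/
theorem sect_proper (hF : Coh.IsCoh F) (hU : IsAffineOpen U) :
    (∃ c : ℕ, ∀ n, c ≤ n → ∀ z : Γ(F, f ⁻¹ᵁ U), (modPowπ J (n + 1) F).app (f ⁻¹ᵁ U) z = 0 →
      z ∈ J.map (scal A X (f ⁻¹ᵁ U)) ^ (n - c) • (⊤ : Submodule Γ(X, f ⁻¹ᵁ U) Γ(F, f ⁻¹ᵁ U))) ∧
    ∃ c : ℕ, ∀ (n k : ℕ) (h : n ≤ k), n + c ≤ k → ∀ y : Γ(modPow J (k + 1) F, f ⁻¹ᵁ U),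
      ∃ z : Γ(F, f ⁻¹ᵁ U), (modPowπ J (n + 1) F).app (f ⁻¹ᵁ U) z =
        (modPowLE J (Nat.succ_le_succ h) F).app (f ⁻¹ᵁ U) y := by
  let V := f ⁻¹ᵁ U
  let C := Γ(Y, U)
  let g : V.toScheme ⟶ Spec Γ(Y, U) := (f ∣_ U) ≫ hU.isoSpec.hom
  letI : V.toScheme.Over (Spec (CommRingCat.of C)) := ⟨g⟩
  haveI : IsProper (V.toScheme ↘ Spec (CommRingCat.of C)) :=
    inferInstanceAs (IsProper ((f ∣_ U) ≫ hU.isoSpec.hom))
  haveI : IsNoetherianRing C := IsLocallyNoetherian.component_noetherian ⟨U, hU⟩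
  haveI : IsLocallyNoetherian V.toScheme :=
    LocallyOfFiniteType.isLocallyNoetherian (V.toScheme ↘ Spec (CommRingCat.of C))
  obtain ⟨φ₀, hφ₀⟩ := Spec.map_surjective (hU.fromSpec ≫ (Y ↘ Spec (CommRingCat.of A)))
  let φ : A →+* C := φ₀.hom
  have hh : V.ι ≫ (X ↘ Spec (CommRingCat.of A)) =
      (V.toScheme ↘ Spec (CommRingCat.of C)) ≫ Spec.map (CommRingCat.ofHom φ) := by
    rw [show Spec.map (CommRingCat.ofHom φ) = hU.fromSpec ≫ (Y ↘ Spec (CommRingCat.of A)) from hφ₀, ← hf]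
    show _ = ((f ∣_ U) ≫ hU.isoSpec.hom) ≫ _
    rw [Category.assoc, ← Category.assoc hU.isoSpec.hom, IsAffineOpen.isoSpec_hom_fromSpec, ← Category.assoc,
      ← Category.assoc, morphismRestrict_ι]
  have e : (⊤ : V.toScheme.Opens) ≤ V.ι ⁻¹ᵁ V := V.ι_preimage_self.ge
  have hb := fun T => bijective_pr_ι V T e
  let P := (Scheme.Modules.pullback V.ι).obj F
  have hP : Coh.IsCoh P := AffineBC.isCoh_pullback V.ι hF
  choose E hE using exists_link V.ι φ hh J F
  have hπ : ∀ (m : ℕ) z, (modPowπ (J.map φ) m P).app ⊤ (pr V.ι e F z) =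
      (E m).inv.app ⊤ (pr V.ι e _ ((modPowπ J m F).app V z)) := fun m z => (link_app V.ι φ J e (E m) (hE m) z).symm
  have hmem : ∀ (k : ℕ) (t : Γ(P, ⊤)),
      t ∈ (J.map φ).map (scal C V.toScheme ⊤) ^ k • (⊤ : Submodule Γ(V.toScheme, ⊤) Γ(P, ⊤)) →
      ∃ z ∈ J.map (scal A X V) ^ k • (⊤ : Submodule Γ(X, V) Γ(F, V)), pr V.ι e F z = t := by
    intro k t ht
    rw [Ideal.map_map, ← Ideal.map_pow] at ht
    refine Submodule.smul_induction_on ht (fun b hb' t _ => ?_) (fun a b ha hb' => ?_)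
    · induction hb' using Submodule.span_induction generalizing t with
      | mem b hb' =>
        obtain ⟨a, ha, rfl⟩ := hb'
        obtain ⟨z, rfl⟩ := (hb F).2 t
        refine ⟨scal A X V a • z, Submodule.smul_mem_smul ?_ trivial, ?_⟩
        · rw [← Ideal.map_pow]; exact Ideal.mem_map_of_mem _ ha
        · rw [pr_smul, scal_link V.ι φ hh]
          rfl
      | zero => exact ⟨0, zero_mem _, by rw [map_zero, zero_smul]⟩
      | add a b _ _ ha hb' =>
        obtain ⟨z, hz, hz'⟩ := ha t trivial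
        obtain ⟨w, hw, hw'⟩ := hb' t trivial
        exact ⟨z + w, add_mem hz hw, by rw [map_add, hz', hw', add_smul]⟩
      | smul a b _ hb' =>
        obtain ⟨z, hz, hz'⟩ := hb' (a • t) trivial
        exact ⟨z, hz, by rw [hz', smul_eq_mul, mul_comm, mul_smul]⟩
    · obtain ⟨z, hz, rfl⟩ := ha
      obtain ⟨w, hw, rfl⟩ := hb'
      exact ⟨z + w, add_mem hz hw, map_add _ _ _⟩
  constructor
  · obtain ⟨c, hc⟩ := sect_ker_le (J.map φ) hP
    refine ⟨c, fun n hn z hz => ?_⟩
    obtain ⟨w, hw, hw'⟩ := hmem _ _ (hc n hn (pr V.ι e F z) (by rw [hπ, hz, map_zero, map_zero]))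
    rw [← (hb F).1 hw']
    exact hw
  · obtain ⟨c, hc⟩ := sect_range (J.map φ) hP
    refine ⟨c, fun n k h hk y => ?_⟩
    obtain ⟨t, ht⟩ := hc n k h hk ((E (k + 1)).inv.app ⊤ (pr V.ι e _ y))
    obtain ⟨z, rfl⟩ := (hb F).2 t
    refine ⟨z, (hb _).1 ?_⟩
    haveI := Existence.epi_modPowπ (J.map φ) (k + 1) P
    have hnat : modPowLE (J.map φ) (Nat.succ_le_succ h) P ≫ (E (n + 1)).hom =
        (E (k + 1)).hom ≫ (Scheme.Modules.pullback V.ι).map (modPowLE J (Nat.succ_le_succ h) F) := by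
      rw [← cancel_epi (modPowπ (J.map φ) (k + 1) P), ← Category.assoc, modPowπ_modPowLE, hE,
        reassoc_of% hE (k + 1), ← Functor.map_comp, modPowπ_modPowLE]
    have h2 := congrArg ((E (n + 1)).hom.app ⊤) ht
    rw [hπ] at h2
    rw [pr_natural V.ι e (modPowLE J (Nat.succ_le_succ h) F)]
    refine (app_eq' (E (n + 1)).inv_hom_id _).symm.trans (h2.trans ?_)
    refine (app_eq' hnat _).trans ?_
    exact congrArg (((Scheme.Modules.pullback V.ι).map (modPowLE J (Nat.succ_le_succ h) F)).app ⊤)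
      (app_eq' (E (k + 1)).inv_hom_id _)
where
  app_eq' {W : Scheme.{u}} {M N : W.Modules} {α β : M ⟶ N} (h : α = β) {U : W.Opens} (x : Γ(M, U)) :
      α.app U x = β.app U x := by rw [h]

end Proper

end Groth.L16.Exist
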