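import Groth.Agent.L16.Exist.PushPullLocal
import Groth.Agent.L18.GrTildeFT

/-!
The pullback of the limit module to the completed scheme is the pullback of the module.
-/

set_option autoImplicit false
set_option linter.style.haveILetI false
set_option backward.isDefEq.respectTransparency false
set_option backward.isDefEq.respectTransparency.types false

universe u

open CategoryTheory CategoryTheory.Limits AlgebraicGeometry TopologicalSpace Opposite
open scoped TensorProduct

noncomputable section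

namespace Groth.L16.Exist

open Groth.L18.Frame (rs ro rs_rs rs_smul rs_self pull)
open Formal (smulMod modPow modPowπ)
open AffineBC (scal)

variable {A : Type u} [CommRing A] (J : Ideal A) {X Y : Scheme.{u}} [X.Over (Spec (CommRingCat.of A))]
  [Y.Over (Spec (CommRingCat.of A))] (f : X ⟶ Y) {U : Y.Opens} (hU : IsAffineOpen U)

/-- The completed scheme. -/
abbrev XC : Scheme.{u} := XD hU f (CU J U)

/-- Its structure map. -/
abbrev qC : XC J f hU ⟶ Spec (CommRingCat.of (CU J U)) := XC J f hU ↘ Spec (CommRingCat.of (CU J U))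

/-- The homomorphism of base rings. -/
abbrev φC : A →+* CU J U := (algebraMap Γ(Y, U) (CU J U)).comp (scal A Y U)

theorem φC_square (hf : f ≫ (Y ↘ Spec (CommRingCat.of A)) = X ↘ Spec (CommRingCat.of A)) :
    hC J f hU ≫ (X ↘ Spec (CommRingCat.of A)) =
      (XC J f hU ↘ Spec (CommRingCat.of (CU J U))) ≫ Spec.map (CommRingCat.ofHom (φC J (U := U))) := by
  rw [← hf, ← Category.assoc, hD_comp, Category.assoc, Category.assoc, ← spec_map_scal hU, ← Spec.map_comp]
  rfl

/-- The ideal of definition of the completed ring. -/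
abbrev JC (U : Y.Opens) : Ideal (CU J U) := J.map (φC J (U := U))

theorem JC_eq (U : Y.Opens) : JC J U = (JU J U).map (algebraMap Γ(Y, U) (CU J U)) := (Ideal.map_map _ _).symm

variable [IsLocallyNoetherian Y] [IsProper f]

/-- The pullback of a module along the projection from the completed scheme. -/
abbrev PC (F : X.Modules) : (XC J f hU).Modules := (Scheme.Modules.pullback (hC J f hU)).obj F

theorem smul_modPow_eq_zero (N : (XC J f hU).Modules) (n : ℕ) (W' : (XC J f hU).Opens) (s : Γ(XC J f hU, W'))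
    (hs : s ∈ (JC J U).map (scal (CU J U) (XC J f hU) W') ^ n) (x : Γ(modPow (JC J U) n N, W')) : s • x = 0 := by
  rw [← Ideal.map_pow] at hs
  induction hs using Submodule.span_induction with
  | mem b hb =>
    obtain ⟨a, ha, rfl⟩ := hb
    rw [← HomSh.smulMod_app, Existence.smulMod_modPow_eq_zero (JC J U) N ha]
    rfl
  | zero => exact zero_smul _ _
  | add b c _ _ h h' => rw [add_smul, h, h', add_zero]
  | smul b c _ h => rw [smul_eq_mul, mul_smul, h, smul_zero]

section Iso

variable (hf : f ≫ (Y ↘ Spec (CommRingCat.of A)) = X ↘ Spec (CommRingCat.of A))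
  {F : X.Modules} (hF : Coh.IsCoh F) (G : ℕ → Y.Modules) (hG : ∀ m, Coh.IsQCoh (G m))
  (b : ∀ m, (Scheme.Modules.pullback f).obj (G m) ≅ modPow J (m + 1) F)
  (E : ∀ m, modPow (JC J U) m (PC J f hU F) ≅ (Scheme.Modules.pullback (hC J f hU)).obj (modPow J m F))
  (hE : ∀ m, modPowπ (JC J U) m (PC J f hU F) ≫ (E m).hom =
    (Scheme.Modules.pullback (hC J f hU)).map (modPowπ J m F))
  (L : Type u) [AddCommGroup L] [Module (CU J U) L] [Module.Finite (CU J U) L]
  (ev : ∀ m, L →+ Γ(G m, U)) (hev : ∀ m, Function.Surjective (ev m))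
  (hevs : ∀ m (r : Γ(Y, U)) (l : L), ev m (algebraMap Γ(Y, U) (CU J U) r • l) = r • ev m l)
  (hevk : ∀ m l, ev m l = 0 → l ∈ JC J U ^ (m + 1) • (⊤ : Submodule (CU J U) L))

/-- The limit module as an object. -/
abbrev LM (J : Ideal A) (U : Y.Opens) (L : Type u) [AddCommGroup L] [Module (CU J U) L] :
    ModuleCat.{u} (CommRingCat.of (CU J U) : CommRingCat.{u}) :=
  ModuleCat.of (CommRingCat.of (CU J U) : CommRingCat.{u}) L

/-- The sheaf of the limit module. -/
abbrev TL : (Spec (CommRingCat.of (CU J U))).Modules := tilde (R := CommRingCat.of (CU J U)) (LM J U L)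

/-- Its pullback. -/
abbrev NL : (XC J f hU).Modules := (Scheme.Modules.pullback (qC J f hU)).obj (TL J (U := U) L)

/-- The section given by an element. -/
def genS (l : L) : Γ(TL J (U := U) L, ⊤) := tilde.toOpen (R := CommRingCat.of (CU J U)) (LM J U L) ⊤ l

/-- Its pullback. -/
def genN (W' : (XC J f hU).Opens) (l : L) : Γ(NL J f hU L, W') :=
  pr (qC J f hU) (show W' ≤ qC J f hU ⁻¹ᵁ ⊤ from le_top) (TL J (U := U) L) (genS J L l)

omit [IsLocallyNoetherian Y] [IsProper f] [Module.Finite (CU J U) L] in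
theorem genS_surjective : Function.Surjective (genS J (U := U) L) := by
  haveI : IsIso (tilde.toOpen (R := CommRingCat.of (CU J U)) (LM J U L) ⊤) := tilde.isIso_toOpen_top
  exact (ConcreteCategory.bijective_of_isIso (tilde.toOpen (R := CommRingCat.of (CU J U)) (LM J U L) ⊤)).2

omit [IsLocallyNoetherian Y] [IsProper f] [Module.Finite (CU J U) L] in
theorem genS_add (l l' : L) : genS J (U := U) L (l + l') = genS J L l + genS J L l' :=
  (tilde.toOpen (R := CommRingCat.of (CU J U)) (LM J U L) ⊤).hom.map_add l l'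

omit [IsLocallyNoetherian Y] [IsProper f] [Module.Finite (CU J U) L] in
theorem genS_smul (c : CU J U) (l : L) :
    genS J (U := U) L (c • l) =
      ((Scheme.ΓSpecIso (CommRingCat.of (CU J U))).inv c) • genS J L l :=
  (tilde.toOpen (R := CommRingCat.of (CU J U)) (LM J U L) ⊤).hom.map_smul c l

omit [IsLocallyNoetherian Y] [IsProper f] [Module.Finite (CU J U) L] in
theorem genN_add (W' : (XC J f hU).Opens) (l l' : L) :
    genN J f hU L W' (l + l') = genN J f hU L W' l + genN J f hU L W' l' := by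
  rw [genN, genS_add, map_add]
  rfl

omit [IsLocallyNoetherian Y] [IsProper f] [Module.Finite (CU J U) L] in
theorem genN_zero (W' : (XC J f hU).Opens) : genN J f hU L W' 0 = 0 := by
  rw [genN, show genS J (U := U) L 0 = 0 from map_zero (tilde.toOpen (R := CommRingCat.of (CU J U)) (LM J U L) ⊤).hom, map_zero]

omit [IsLocallyNoetherian Y] [IsProper f] [Module.Finite (CU J U) L] in
theorem genN_smul (W' : (XC J f hU).Opens) (c : CU J U) (l : L) :
    genN J f hU L W' (c • l) = scal (CU J U) (XC J f hU) W' c • genN J f hU L W' l := by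
  rw [genN, genS_smul, pr_smul]
  rfl

omit [IsLocallyNoetherian Y] [IsProper f] [Module.Finite (CU J U) L] in
/-- The sections over affine opens are generated by the elements. -/
theorem genN_induction {W' : (XC J f hU).Opens} (hW' : IsAffineOpen W') (motive : Γ(NL J f hU L, W') → Prop)
    (zero : motive 0) (add : ∀ x y, motive x → motive y → motive (x + y))
    (gen : ∀ (s : Γ(XC J f hU, W')) (l : L), motive (s • genN J f hU L W' l)) (x : Γ(NL J f hU L, W')) :
    motive x := by
  haveI : Coh.IsQCoh (TL J (U := U) L) := Groth.L18.TildeF.isQCoh_tilde _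
  letI := ((qC J f hU).appLE ⊤ W' le_top).hom.toAlgebra
  letI := Module.compHom Γ(NL J f hU L, W') ((qC J f hU).appLE ⊤ W' le_top).hom
  haveI : IsScalarTower Γ(Spec (CommRingCat.of (CU J U)), ⊤) Γ(XC J f hU, W') Γ(NL J f hU L, W') :=
    IsScalarTower.of_algebraMap_smul fun _ _ => rfl
  refine IsTensorProduct.inductionOn (AffineBC.isBaseChange_pull (qC J f hU) (TL J (U := U) L)
    (isAffineOpen_top _) hW' (show W' ≤ qC J f hU ⁻¹ᵁ ⊤ from le_top)) x zero (fun s y => ?_) add
  obtain ⟨l, rfl⟩ := genS_surjective J L y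
  exact gen s l

variable (u : L → Γ(PC J f hU F, ⊤))
  (hu : ∀ l m, (modPowπ (JC J U) (m + 1) (PC J f hU F)).app ⊤ (u l) =
    (E (m + 1)).inv.app ⊤ (pr (hC J f hU) (hD_preimage hU f (CU J U)) (modPow J (m + 1) F)
      ((b m).hom.app (f ⁻¹ᵁ U) (pull f (G m) U (ev m l)))))
  (ψ : NL J f hU L ⟶ PC J f hU F)
  (hψ : ∀ (W' : (XC J f hU).Opens) (l : L), ψ.app W' (genN J f hU L W' l) = rs _ le_top (u l))

include hu hψ in
omit [IsLocallyNoetherian Y] [IsProper f] [Module.Finite (CU J U) L] in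
theorem key_eq (m : ℕ) (l : L) {W : X.Opens} (e₀ : W ≤ f ⁻¹ᵁ U) :
    (E (m + 1)).inv.app (hC J f hU ⁻¹ᵁ W) (pr (hC J f hU) le_rfl (modPow J (m + 1) F)
        ((b m).hom.app W (pr f e₀ (G m) (ev m l)))) =
      (modPowπ (JC J U) (m + 1) (PC J f hU F)).app (hC J f hU ⁻¹ᵁ W)
        (ψ.app (hC J f hU ⁻¹ᵁ W) (genN J f hU L (hC J f hU ⁻¹ᵁ W) l)) := by
  have h1 : (b m).hom.app W (pr f e₀ (G m) (ev m l)) =
      rs (modPow J (m + 1) F) e₀ ((b m).hom.app (f ⁻¹ᵁ U) (pull f (G m) U (ev m l))) :=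
    HomSh.app_rs (b m).hom e₀ _
  rw [h1, pr_rs (hC J f hU) (hD_preimage hU f (CU J U)) (modPow J (m + 1) F) e₀
    (show hC J f hU ⁻¹ᵁ W ≤ ⊤ from le_top) le_rfl, HomSh.app_rs, ← hu l m, hψ, HomSh.app_rs]

include hev hu hψ hG hF hf hE in
omit [Module.Finite (CU J U) L] in
/-- Surjectivity on reductions. -/
theorem surj_level [IsLocallyNoetherian X] {W : X.Opens} (hW : IsAffineOpen W) (e₀ : W ≤ f ⁻¹ᵁ U) (m : ℕ)
    (y : Γ(PC J f hU F, hC J f hU ⁻¹ᵁ W)) :
    ∃ t : Γ(NL J f hU L, hC J f hU ⁻¹ᵁ W),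
      (modPowπ (JC J U) (m + 1) (PC J f hU F)).app _ (ψ.app _ t) =
        (modPowπ (JC J U) (m + 1) (PC J f hU F)).app _ y := by
  obtain ⟨hW', -⟩ := isPushout_XD hU f (CU J U) hW e₀
  haveI : Coh.IsQCoh F := hF.1
  letI : Algebra Γ(X, W) Γ(XC J f hU, hC J f hU ⁻¹ᵁ W) := ((hC J f hU).appLE W (hC J f hU ⁻¹ᵁ W) le_rfl).hom.toAlgebra
  letI := Module.compHom Γ(PC J f hU F, hC J f hU ⁻¹ᵁ W) ((hC J f hU).appLE W (hC J f hU ⁻¹ᵁ W) le_rfl).hom
  haveI : IsScalarTower Γ(X, W) Γ(XC J f hU, hC J f hU ⁻¹ᵁ W) Γ(PC J f hU F, hC J f hU ⁻¹ᵁ W) :=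
    IsScalarTower.of_algebraMap_smul fun _ _ => rfl
  induction y using IsTensorProduct.inductionOn (AffineBC.isBaseChange_pull (hC J f hU) F hW hW' le_rfl) with
  | zero => exact ⟨0, by rw [map_zero]⟩
  | add x z hx hz =>
    obtain ⟨a, ha⟩ := hx
    obtain ⟨c, hc⟩ := hz
    exact ⟨a + c, by rw [map_add, map_add, map_add, ha, hc]⟩
  | tmul s z =>
    suffices h : ∀ w : Γ((Scheme.Modules.pullback f).obj (G m), W), ∃ t : Γ(NL J f hU L, hC J f hU ⁻¹ᵁ W),
        (modPowπ (JC J U) (m + 1) (PC J f hU F)).app _ (ψ.app _ t) =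
          (E (m + 1)).inv.app _ (pr (hC J f hU) le_rfl (modPow J (m + 1) F) ((b m).hom.app W w)) by
      obtain ⟨w, hw⟩ : ∃ w, (b m).hom.app W w = (modPowπ J (m + 1) F).app W z :=
        ⟨(b m).inv.app W ((modPowπ J (m + 1) F).app W z), app_eq (b m).inv_hom_id _⟩
      obtain ⟨t, ht⟩ := h w
      refine ⟨s • t, ?_⟩
      have e1 := link_app (hC J f hU) (φC J (U := U)) J (F := F) (W' := hC J f hU ⁻¹ᵁ W) le_rfl (E (m + 1)) (hE (m + 1)) z
      rw [hw] at ht
      have e2 := ht.trans e1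
      refine Eq.trans ?_ (Scheme.Modules.Hom.app_smul (modPowπ (JC J U) (m + 1) (PC J f hU F)) s
        (pr (hC J f hU) le_rfl F z)).symm
      exact ((congrArg _ (Scheme.Modules.Hom.app_smul ψ s t)).trans
        (Scheme.Modules.Hom.app_smul (modPowπ (JC J U) (m + 1) (PC J f hU F)) s _)).trans (congrArg (s • ·) e2)
    intro w
    letI : Algebra Γ(Y, U) Γ(X, W) := (f.appLE U W e₀).hom.toAlgebra
    letI := Module.compHom Γ((Scheme.Modules.pullback f).obj (G m), W) (f.appLE U W e₀).hom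
    haveI : IsScalarTower Γ(Y, U) Γ(X, W) Γ((Scheme.Modules.pullback f).obj (G m), W) :=
      IsScalarTower.of_algebraMap_smul fun _ _ => rfl
    haveI := hG m
    induction w using IsTensorProduct.inductionOn (AffineBC.isBaseChange_pull f (G m) hU hW e₀) with
    | zero => exact ⟨0, by simp⟩
    | add x z hx hz =>
      obtain ⟨a, ha⟩ := hx
      obtain ⟨c, hc⟩ := hz
      exact ⟨a + c, by simp [map_add, ha, hc]⟩
    | tmul r g =>
      obtain ⟨l, rfl⟩ := hev m g
      refine ⟨(hC J f hU).appLE W (hC J f hU ⁻¹ᵁ W) le_rfl r • genN J f hU L _ l, ?_⟩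
      rw [Scheme.Modules.Hom.app_smul, Scheme.Modules.Hom.app_smul,
        ← key_eq J f hU G b E L ev u hu ψ hψ m l e₀, ← Scheme.Modules.Hom.app_smul, ← pr_smul,
        ← Scheme.Modules.Hom.app_smul]
      rfl

variable (N' : Type u)

include hev hevs hevk hu hψ hG hF hf hE in
omit [Module.Finite (CU J U) L] in
/-- Injectivity on reductions. -/
theorem inj_level [AlgebraicGeometry.IsNoetherian X] {W : X.Opens} (hW : IsAffineOpen W)
    (e₀ : W ≤ f ⁻¹ᵁ U) (m : ℕ) (t : Γ(NL J f hU L, hC J f hU ⁻¹ᵁ W))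
    (ht : (modPowπ (JC J U) (m + 1) (PC J f hU F)).app _ (ψ.app _ t) = 0) :
    (modPowπ (JC J U) (m + 1) (NL J f hU L)).app _ t = 0 := by
  classical
  let W' := hC J f hU ⁻¹ᵁ W
  let M' := Γ(modPow (JC J U) (m + 1) (NL J f hU L), W')
  obtain ⟨hW', hpo⟩ := isPushout_XD hU f (CU J U) hW e₀
  haveI : IsNoetherianRing Γ(Y, U) := IsLocallyNoetherian.component_noetherian ⟨U, hU⟩
  letI : Algebra Γ(Y, U) Γ(X, W) := (f.appLE U W e₀).hom.toAlgebra
  letI := Module.compHom Γ((Scheme.Modules.pullback f).obj (G m), W) (f.appLE U W e₀).hom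
  haveI : IsScalarTower Γ(Y, U) Γ(X, W) Γ((Scheme.Modules.pullback f).obj (G m), W) :=
    IsScalarTower.of_algebraMap_smul fun _ _ => rfl
  letI : Module Γ(X, W) M' := Module.compHom M' ((hC J f hU).appLE W W' le_rfl).hom
  letI : Module Γ(Y, U) M' := Module.compHom M' (((hC J f hU).appLE W W' le_rfl).hom.comp (f.appLE U W e₀).hom)
  haveI : IsScalarTower Γ(Y, U) Γ(X, W) M' := IsScalarTower.of_algebraMap_smul fun _ _ => rfl
  let π := (modPowπ (JC J U) (m + 1) (NL J f hU L)).app W'
  have hkill := smul_modPow_eq_zero J f hU (NL J f hU L) (m + 1) W'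
  have hgen : ∀ c ∈ JC J U ^ (m + 1), ∀ l, π (genN J f hU L W' (c • l)) = 0 := fun c hc l => by
    rw [genN_smul]
    refine (Scheme.Modules.Hom.app_smul _ _ _).trans (hkill _ ?_ _)
    rw [← Ideal.map_pow]
    exact Ideal.mem_map_of_mem _ hc
  have hwd : ∀ l l', ev m l = ev m l' → π (genN J f hU L W' l) = π (genN J f hU L W' l') := by
    intro l l' h
    have h1 := hevk m (l - l') (by rw [map_sub, h, sub_self])
    have h2 : π (genN J f hU L W' (l - l')) = 0 := by
      refine Submodule.smul_induction_on h1 (fun c hc x _ => hgen c hc x) (fun a c ha hc => ?_)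
      rw [genN_add, map_add, ha, hc, add_zero]
    rw [show l = (l - l') + l' from (sub_add_cancel l l').symm, genN_add, map_add, h2, zero_add]
  let sec : Γ(G m, U) → L := fun g => (hev m g).choose
  have hsec : ∀ g, ev m (sec g) = g := fun g => (hev m g).choose_spec
  let Λ₀ : Γ(G m, U) →ₗ[Γ(Y, U)] M' :=
    { toFun := fun g => π (genN J f hU L W' (sec g))
      map_add' := fun g g' => by
        rw [hwd _ (sec g + sec g') (by rw [map_add, hsec, hsec, hsec]), genN_add, map_add]
      map_smul' := fun r g => by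
        rw [hwd _ (algebraMap Γ(Y, U) (CU J U) r • sec g) (by rw [hevs, hsec, hsec]), genN_smul,
          Scheme.Modules.Hom.app_smul, RingHom.id_apply]
        exact congrArg (· • π (genN J f hU L W' (sec g))) (scal_hD hU f (CU J U) e₀ le_rfl r).symm }
  haveI := hG m
  have hb := AffineBC.isBaseChange_pull f (G m) hU hW e₀
  let Λ := hb.lift Λ₀
  haveI : Coh.IsQCoh (modPow J (m + 1) F) :=
    (Exist.modPow_spec J hF (m + 1)).1.1
  suffices h : ∀ t : Γ(NL J f hU L, W'), ∃ w : Γ((Scheme.Modules.pullback f).obj (G m), W),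
      π t = Λ w ∧ (modPowπ (JC J U) (m + 1) (PC J f hU F)).app W' (ψ.app W' t) =
        (E (m + 1)).inv.app W' (pr (hC J f hU) le_rfl (modPow J (m + 1) F) ((b m).hom.app W w)) by
    obtain ⟨w, hw, hw'⟩ := h t
    refine hw.trans ?_
    rw [ht] at hw'
    have h1 := congrArg ((E (m + 1)).hom.app W') hw'
    rw [map_zero] at h1
    have h2 : pr (hC J f hU) le_rfl (modPow J (m + 1) F) ((b m).hom.app W w) = 0 :=
      (app_eq (E (m + 1)).inv_hom_id _).symm.trans h1.symm
    have h3 : (b m).hom.app W w = 0 := injective_pr_affine f hf hU hW e₀ (modPow J (m + 1) F) (m + 1)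
      (fun _ hb => Existence.smulMod_modPow_eq_zero J F hb) (h2.trans (map_zero _).symm)
    have h4 := congrArg ((b m).inv.app W) h3
    rw [map_zero] at h4
    have h5 : w = 0 := (app_eq (b m).hom_inv_id w).symm.trans h4
    rw [h5, map_zero]
  refine genN_induction J f hU L hW' _ ⟨0, by simp⟩ ?_ ?_
  · rintro x y ⟨w, hw, hw'⟩ ⟨v, hv, hv'⟩
    exact ⟨w + v, by rw [map_add, map_add, hw, hv], by simp [map_add, hw', hv']⟩
  · intro s l
    obtain ⟨r, hr⟩ := pushout_decomp hpo (m + 1) s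
    have hr' : ∀ {N : (XC J f hU).Modules} (x : Γ(modPow (JC J U) (m + 1) N, W')),
        s • x = (hC J f hU).appLE W W' le_rfl r • x := fun {N} x => by
      rw [← sub_eq_zero, ← sub_smul]
      refine smul_modPow_eq_zero J f hU N (m + 1) W' _ ?_ x
      rw [JC_eq]
      exact hr
    refine ⟨r • AffineBC.pullRes f (G m) e₀ (ev m l), ?_, ?_⟩
    · refine Eq.trans ?_ ((Λ.map_smul r _).trans (congrArg (r • ·) (hb.lift_eq Λ₀ (ev m l)))).symm
      refine (Scheme.Modules.Hom.app_smul _ _ _).trans ((hr' _).trans ?_)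
      exact congrArg ((hC J f hU).appLE W W' le_rfl r • ·) (hwd l _ (hsec (ev m l)).symm)
    · rw [Scheme.Modules.Hom.app_smul, Scheme.Modules.Hom.app_smul, hr']
      refine Eq.trans ?_ (congrArg (fun z => (E (m + 1)).inv.app W' (pr (hC J f hU) le_rfl _ z))
        (Scheme.Modules.Hom.app_smul (b m).hom r _).symm)
      rw [pr_smul, Scheme.Modules.Hom.app_smul]
      exact congrArg ((hC J f hU).appLE W W' le_rfl r • ·) (key_eq J f hU G b E L ev u hu ψ hψ m l e₀).symm

end Iso

end Groth.L16.Exist
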