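import Groth.Agent.L16.Exist.Completed
import Groth.Agent.L16.Exist.Reduce
import Groth.Agent.L16.QcqsPush
import Groth.Agent.L18.TildeFunctor

/-!
Sections of pullbacks to the completion of an affine open, and criteria for the vanishing of morphisms.
-/

set_option autoImplicit false
set_option linter.style.haveILetI false
set_option backward.isDefEq.respectTransparency false
set_option backward.isDefEq.respectTransparency.types false

universe u

open CategoryTheory CategoryTheory.Limits AlgebraicGeometry TopologicalSpace Opposite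
open scoped TensorProduct

noncomputable section

namespace Groth.L16.Exist

open Groth.L18.Frame (rs ro rs_rs rs_smul)
open Formal (smulMod modPow modPowπ)
open AffineBC (scal)

/-- A morphism of quasi-coherent modules vanishing on an affine open vanishes on the opens inside it. -/
theorem app_eq_zero_of_affine {X : Scheme.{u}} {M N : X.Modules} [Coh.IsQCoh M] (φ : M ⟶ N) {U : X.Opens}
    (hU : IsAffineOpen U) (h : ∀ x : Γ(M, U), φ.app U x = 0) {W : X.Opens} (hWU : W ≤ U) (x : Γ(M, W)) :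
    φ.app W x = 0 := by
  let J := {a : Γ(X, U) // X.basicOpen a ≤ W}
  refine HomSh.ext_cover N (fun a : J => X.basicOpen a.1) (fun a => a.2) (fun y hy => ?_) fun a => ?_
  · obtain ⟨a, ha, hya⟩ := hU.exists_basicOpen_le (⟨y, hy⟩ : W) (hWU hy)
    exact Opens.mem_iSup.2 ⟨⟨a, ha⟩, hya⟩
  · obtain ⟨n, t, ht⟩ := QCohSect.exists_pow_smul_eq_res hU M a.1 (rs M a.2 x)
    have h1 := congrArg (φ.app (X.basicOpen a.1)) ht
    rw [HomSh.app_rs, h, Scheme.Modules.Hom.app_smul, HomSh.app_rs,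
      show rs N (X.basicOpen_le a.1) (0 : Γ(N, U)) = 0 from map_zero _] at h1
    rw [show rs N a.2 (0 : Γ(N, W)) = 0 from map_zero _]
    exact (HomSh.isUnit_ro_pow a.1 n).smul_eq_zero.1 h1.symm

/-- An element of an ideal acting as zero on every section over an affine open does so on the opens inside it. -/
theorem smul_eq_zero_of_affine {X : Scheme.{u}} {M : X.Modules} [Coh.IsQCoh M] {U : X.Opens}
    (hU : IsAffineOpen U) (r : Γ(X, U)) (h : ∀ x : Γ(M, U), r • x = 0) {W : X.Opens} (hWU : W ≤ U)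
    (x : Γ(M, W)) : ro hWU r • x = 0 := by
  let J := {a : Γ(X, U) // X.basicOpen a ≤ W}
  refine HomSh.ext_cover M (fun a : J => X.basicOpen a.1) (fun a => a.2) (fun y hy => ?_) fun a => ?_
  · obtain ⟨a, ha, hya⟩ := hU.exists_basicOpen_le (⟨y, hy⟩ : W) (hWU hy)
    exact Opens.mem_iSup.2 ⟨⟨a, ha⟩, hya⟩
  · obtain ⟨n, t, ht⟩ := QCohSect.exists_pow_smul_eq_res hU M a.1 (rs M a.2 x)
    rw [show rs M a.2 (0 : Γ(M, W)) = 0 from map_zero _, rs_smul, Groth.L18.Frame.ro_ro hWU a.2]
    have h1 := congrArg (fun z => ro (X.basicOpen_le a.1) r • z) ht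
    rw [← rs_smul, h t, show rs M (X.basicOpen_le a.1) (0 : Γ(M, U)) = 0 from map_zero _, smul_comm] at h1
    exact (HomSh.isUnit_ro_pow a.1 n).smul_eq_zero.1 h1.symm

section Killed

variable {A : Type u} [CommRing A] {J : Ideal A} {X Y : Scheme.{u}} [X.Over (Spec (CommRingCat.of A))]
  [Y.Over (Spec (CommRingCat.of A))] (f : X ⟶ Y)
  (hf : f ≫ (Y ↘ Spec (CommRingCat.of A)) = X ↘ Spec (CommRingCat.of A))
  {U : Y.Opens} (hU : IsAffineOpen U)

include hf in
theorem scal_f (a : A) {W : X.Opens} (e₀ : W ≤ f ⁻¹ᵁ U) :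
    f.appLE U W e₀ (scal A Y U a) = scal A X W a :=
  scal_link (W := X) (C := A) f (RingHom.id A)
    (by rw [CommRingCat.ofHom_id, Spec.map_id]; exact hf.trans (Category.comp_id _).symm) a e₀

variable (J) in
/-- The ideal on the affine open. -/
abbrev JU (U : Y.Opens) : Ideal Γ(Y, U) := J.map (scal A Y U)

variable (J) in
/-- The completed coordinate ring. -/
abbrev CU (U : Y.Opens) : Type u := AdicCompletion (JU J U) Γ(Y, U)

variable (J) in
/-- The projection from the base change to the completion. -/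
abbrev hC : XD hU f (CU J U) ⟶ X := hD hU f (CU J U)

include hf in
/-- Pullback of sections of modules killed by a power of the ideal is injective over affine opens. -/
theorem injective_pr_affine {W : X.Opens} (hW : IsAffineOpen W) (e₀ : W ≤ f ⁻¹ᵁ U) (T : X.Modules)
    [Coh.IsQCoh T] (m : ℕ) (hT : ∀ b ∈ J ^ m, smulMod A T b = 0) :
    Function.Injective (pr (hC J f hU) (le_rfl : (hC J f hU) ⁻¹ᵁ W ≤ (hC J f hU) ⁻¹ᵁ W) T) := by
  obtain ⟨hW', hpo⟩ := isPushout_XD hU f (CU J U) hW e₀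
  obtain ⟨ρ, hρ⟩ := pushout_retraction hpo m
  have hJ : Ideal.map (f.appLE U W e₀).hom (JU J U) = J.map (scal A X W) := by
    rw [Ideal.map_map]
    congr 1
    exact RingHom.ext fun a => scal_f f hf a e₀
  have hkill : Module.IsTorsionBySet Γ(X, W) Γ(T, W)
      ((Ideal.map (f.appLE U W e₀).hom (JU J U) ^ m : Ideal Γ(X, W)) : Set Γ(X, W)) := by
    intro x b
    obtain ⟨b, hb⟩ := b
    show b • x = 0
    rw [hJ, ← Ideal.map_pow] at hb
    induction hb using Submodule.span_induction with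
    | mem b hb =>
      obtain ⟨a, ha, rfl⟩ := hb
      rw [← HomSh.smulMod_app, hT a ha]
      rfl
    | zero => exact zero_smul _ _
    | add b c _ _ h h' => rw [add_smul, h, h', add_zero]
    | smul b c _ h => rw [smul_eq_mul, mul_smul, h, smul_zero]
  letI := hkill.module
  letI : Algebra Γ(X, W) Γ(XD hU f (CU J U), (hC J f hU) ⁻¹ᵁ W) :=
    ((hC J f hU).appLE W ((hC J f hU) ⁻¹ᵁ W) le_rfl).hom.toAlgebra
  letI := Module.compHom Γ((Scheme.Modules.pullback (hC J f hU)).obj T, (hC J f hU) ⁻¹ᵁ W) ((hC J f hU).appLE W ((hC J f hU) ⁻¹ᵁ W) le_rfl).hom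
  haveI : IsScalarTower Γ(X, W) Γ(XD hU f (CU J U), (hC J f hU) ⁻¹ᵁ W)
      Γ((Scheme.Modules.pullback (hC J f hU)).obj T, (hC J f hU) ⁻¹ᵁ W) :=
    IsScalarTower.of_algebraMap_smul fun _ _ => rfl
  have hb := AffineBC.isBaseChange_pull (hC J f hU) T hW hW' (le_rfl : (hC J f hU) ⁻¹ᵁ W ≤ (hC J f hU) ⁻¹ᵁ W)
  let L : Γ(XD hU f (CU J U), (hC J f hU) ⁻¹ᵁ W) →ₗ[Γ(X, W)] Γ(T, W) →ₗ[Γ(X, W)] Γ(T, W) :=
    LinearMap.mk₂ Γ(X, W) (fun s x => ρ s • x)
      (fun s t x => by rw [map_add, add_smul])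
      (fun r s x => by
        rw [Algebra.smul_def, map_mul, mul_smul,
          show ρ (algebraMap Γ(X, W) _ r) = Ideal.Quotient.mk _ r from hρ r]
        exact hkill.mk_smul r _)
      (fun s x y => smul_add _ _ _)
      (fun r s x => by
        obtain ⟨t, ht⟩ := Ideal.Quotient.mk_surjective (ρ s)
        rw [← ht, hkill.mk_smul, hkill.mk_smul, smul_comm])
  have key : ∀ x, TensorProduct.lift L (hb.equiv.symm (AffineBC.pullRes (hC J f hU) T le_rfl x)) = x := fun x => by
    rw [hb.equiv_symm_apply]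
    show ρ 1 • x = x
    rw [map_one, one_smul]
  intro x y hxy
  rw [← key x, ← key y]
  exact congrArg (fun t => TensorProduct.lift L (hb.equiv.symm t)) hxy

include hf in
/-- Pullback of sections of modules killed by a power of the ideal is injective. -/
theorem injective_pr {V : X.Opens} (hV : V ≤ f ⁻¹ᵁ U) {V' : (XD hU f (CU J U)).Opens}
    (e : V' ≤ (hC J f hU) ⁻¹ᵁ V) (e' : (hC J f hU) ⁻¹ᵁ V ≤ V') (T : X.Modules)
    [Coh.IsQCoh T] (m : ℕ) (hT : ∀ b ∈ J ^ m, smulMod A T b = 0) :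
    Function.Injective (pr (hC J f hU) e T) := by
  refine (injective_iff_map_eq_zero _).2 fun x hx => ?_
  let I₀ := {W : X.affineOpens // W.1 ≤ V}
  refine HomSh.ext_cover T (fun W : I₀ => W.1.1) (fun W => W.2) (fun y hy => ?_) fun W => ?_
  · obtain ⟨_, ⟨W, hW, rfl⟩, hyW, hWV⟩ := X.isBasis_affineOpens.exists_subset_of_mem_open hy V.2
    exact Opens.mem_iSup.2 ⟨⟨⟨W, hW⟩, hWV⟩, hyW⟩
  · rw [show rs T W.2 (0 : Γ(T, V)) = 0 from map_zero _]
    refine injective_pr_affine f hf hU W.1.2 (W.2.trans hV) T m hT ?_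
    rw [map_zero, pr_rs (hC J f hU) e T W.2 (((hC J f hU).preimage_mono W.2).trans e') le_rfl, hx]
    exact map_zero _

end Killed

end Groth.L16.Exist
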