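import Groth.Agent.L16.Exist.Systems

/-!
Morphisms from a coherent formal module into a completion, given by relations on sections over affine opens.
-/

set_option autoImplicit false
set_option linter.style.haveILetI false
set_option backward.isDefEq.respectTransparency false
set_option backward.isDefEq.respectTransparency.types false

universe u

open CategoryTheory CategoryTheory.Limits AlgebraicGeometry TopologicalSpace Opposite

noncomputable section

namespace Groth.L16.Exist

open Groth.L18.Frame (rs ro rs_rs rs_smul)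
open Formal (smulMod smulFamily modPow modPowπ modPowTrans modPowπ_trans)
open AffineBC (scal)
open Existence (tr tr_comp tr_self)

variable {A : Type u} [CommRing A] {X : Scheme.{u}} [X.Over (Spec (CommRingCat.of A))] {I : Ideal A}
  {G : ℕᵒᵖ ⥤ X.Modules}

theorem tr_app_comp {l m n : ℕ} (h : l ≤ m) (h' : m ≤ n) {U : X.Opens} (x : Γ(G.obj (op n), U)) :
    (tr G l m h).app U ((tr G m n h').app U x) = (tr G l n (h.trans h')).app U x :=
  ConcreteCategory.congr_hom (congrArg (fun t => Scheme.Modules.Hom.app t U) (tr_comp G h h')) x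

theorem tr_app_self (n : ℕ) {U : X.Opens} (x : Γ(G.obj (op n), U)) : (tr G n n le_rfl).app U x = x :=
  ConcreteCategory.congr_hom (congrArg (fun t => Scheme.Modules.Hom.app t U) (tr_self G n)) x

variable [AlgebraicGeometry.IsNoetherian X] (hG : Formal.IsCohFormal I G)

include hG in
theorem tr_surjective {m n : ℕ} (h : m ≤ n) {U : X.Opens} (hU : IsAffineOpen U) :
    Function.Surjective ((tr G m n h).app U) := by
  haveI : ∀ n, Coh.IsQCoh (G.obj (op n)) := fun n => (hG.1 n).1
  haveI := Existence.epi_tr hG h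
  exact AffineBC.surjective_app_of_epi _ hU

include hG in
/-- The kernel of a transition map on sections. -/
theorem mem_of_tr_eq_zero {n m : ℕ} (h : n ≤ m) {U : X.Opens} (hU : IsAffineOpen U) :
    ∀ x : Γ(G.obj (op m), U), (tr G n m h).app U x = 0 →
      x ∈ I.map (scal A X U) ^ (n + 1) • (⊤ : Submodule Γ(X, U) Γ(G.obj (op m), U)) := by
  induction m, h using Nat.le_induction with
  | base =>
    intro x hx
    rw [tr_app_self] at hx
    rw [hx]
    exact zero_mem _
  | succ k hk ih =>
    intro x hx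
    have h1 := ih ((tr G k (k + 1) (Nat.le_succ k)).app U x) (by rw [tr_app_comp]; exact hx)
    let f := trL (G := G) U k
    have hf : Function.Surjective f := (sect_spec hG U hU).2.1 k
    have h2 : f x ∈ Submodule.map f (I.map (scal A X U) ^ (n + 1) • ⊤) := by
      rw [Submodule.map_smul'', Submodule.map_top, LinearMap.range_eq_top.2 hf]
      exact h1
    obtain ⟨y, hy, hyx⟩ := h2
    have h3 := (sect_spec hG U hU).2.2 k (x - y) (by
      show f (x - y) = 0
      rw [map_sub, hyx, sub_self])
    rw [← sub_add_cancel x y]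
    exact add_mem (Submodule.smul_mono (Ideal.pow_le_pow_right (by omega)) le_rfl h3) hy

include hG in
/-- A morphism into a completion from a relation. -/
theorem exists_hom_completion {H : X.Modules} (hH : Coh.IsCoh H)
    (R : ∀ (m : ℕ) (U : X.Opens), Γ(G.obj (op m), U) → Γ(H, U) → Prop)
    (hadd : ∀ m U g g' z z', R m U g z → R m U g' z' → R m U (g + g') (z + z'))
    (hsmul : ∀ m U (r : Γ(X, U)) g z, R m U g z → R m U (r • g) (r • z))
    (hres : ∀ m (U V : X.Opens) (h : V ≤ U) g z, R m U g z → R m V (rs _ h g) (rs _ h z))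
    (htot : ∀ m U, IsAffineOpen U → ∀ g, ∃ z, R m U g z)
    (htr : ∀ m U g z, R (m + 1) U g z → R m U ((tr G m (m + 1) (Nat.le_succ m)).app U g) z)
    (hsep : ∀ U, IsAffineOpen U → ∀ n, ∃ m, n ≤ m ∧ ∀ z, R m U 0 z → (modPowπ I (n + 1) H).app U z = 0) :
    ∃ α : G ⟶ Formal.completion I H, ∀ U, IsAffineOpen U → ∀ n, ∃ m₀, n ≤ m₀ ∧ ∀ m (hm : n ≤ m), m₀ ≤ m →
      ∀ g z, R m U g z → (α.app (op n)).app U ((tr G n m hm).app U g) = (modPowπ I (n + 1) H).app U z := by
  classical
  choose m₀ hm₀ hsep using hsep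
  have hTR : ∀ U {n m : ℕ} (h : n ≤ m) g z, R m U g z → R n U ((tr G n m h).app U g) z := by
    intro U n m h
    induction m, h using Nat.le_induction with
    | base =>
      intro g z hz
      rwa [tr_app_self]
    | succ k hk ih =>
      intro g z hz
      rw [← tr_app_comp hk (Nat.le_succ k)]
      exact ih _ _ (htr k U g z hz)
  have hzero : ∀ m U, IsAffineOpen U → R m U 0 0 := fun m U hU => by
    obtain ⟨z, hz⟩ := htot m U hU 0
    have := hsmul m U 0 _ _ hz
    rwa [zero_smul, zero_smul] at this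
  have hsub : ∀ m U g g' z z', R m U g z → R m U g' z' → R m U (g - g') (z - z') := fun m U g g' z z' h h' => by
    have := hadd m U _ _ _ _ h (hsmul m U (-1) _ _ h')
    rwa [neg_one_smul, neg_one_smul, ← sub_eq_add_neg, ← sub_eq_add_neg] at this
  -- independence of choices
  have key : ∀ U (hU : IsAffineOpen U) (n m : ℕ) (hm : m₀ U hU n ≤ m) g g' z z', R m U g z → R m U g' z' →
      (tr G n m ((hm₀ U hU n).trans hm)).app U g = (tr G n m ((hm₀ U hU n).trans hm)).app U g' →
      (modPowπ I (n + 1) H).app U z = (modPowπ I (n + 1) H).app U z' := by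
    intro U hU n m hm g g' z z' hz hz' he
    have hd := mem_of_tr_eq_zero hG ((hm₀ U hU n).trans hm) hU (g - g') (by rw [map_sub, he, sub_self])
    have hw : ∃ w, w ∈ I.map (scal A X U) ^ (n + 1) • (⊤ : Submodule Γ(X, U) Γ(H, U)) ∧ R m U (g - g') w := by
      refine Submodule.smul_induction_on hd (fun a ha x _ => ?_) (fun a b ha hb => ?_)
      · obtain ⟨w, hw⟩ := htot m U hU x
        exact ⟨a • w, Submodule.smul_mem_smul ha trivial, hsmul m U a x w hw⟩
      · obtain ⟨w, hw, hw'⟩ := ha
        obtain ⟨v, hv, hv'⟩ := hb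
        exact ⟨w + v, add_mem hw hv, hadd m U _ _ _ _ hw' hv'⟩
    obtain ⟨w, hw, hw'⟩ := hw
    have h0 := hsub m U _ _ _ _ (hsub m U _ _ _ _ hz hz') hw'
    rw [sub_self] at h0
    have h1 := hTR U hm _ _ h0
    rw [map_zero] at h1
    have h2 := hsep U hU n _ h1
    rw [map_sub, map_sub, sub_eq_zero, (((modPow_spec I hH (n + 1)).2 U hU).2 w).2 hw, sub_eq_zero] at h2
    exact h2
  choose zt hzt using htot
  choose lift hlift using fun U (hU : IsAffineOpen U) (n m : ℕ) (h : n ≤ m) => tr_surjective hG h hU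
  let val : ∀ U (hU : IsAffineOpen U) (n : ℕ), Γ(G.obj (op n), U) → Γ(modPow I (n + 1) H, U) := fun U hU n x =>
    (modPowπ I (n + 1) H).app U (zt _ U hU (lift U hU n _ (hm₀ U hU n) x))
  have hval : ∀ U (hU : IsAffineOpen U) (n m : ℕ) (hm : m₀ U hU n ≤ m) g z, R m U g z →
      val U hU n ((tr G n m ((hm₀ U hU n).trans hm)).app U g) = (modPowπ I (n + 1) H).app U z := by
    intro U hU n m hm g z hz
    refine key U hU n _ le_rfl _ _ _ _ (hzt _ U hU _) (hTR U hm g z hz) ?_
    rw [hlift, tr_app_comp]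
  have hα : ∀ n, ∃ α : G.obj (op n) ⟶ modPow I (n + 1) H, ∀ U (hU : IsAffineOpen U) x, α.app U x = val U hU n x := by
    intro n
    obtain ⟨α, hα⟩ := AffineBC.exists_hom_affine (M := G.obj (op n)) (N := modPow I (n + 1) H)
      (fun U hU => AddMonoidHom.mk' (val U hU n) fun x y => by
        obtain ⟨gx, rfl⟩ := tr_surjective hG (hm₀ U hU n) hU x
        obtain ⟨gy, rfl⟩ := tr_surjective hG (hm₀ U hU n) hU y
        rw [← map_add, hval U hU n _ le_rfl _ _ (hadd _ _ _ _ _ _ (hzt _ U hU gx) (hzt _ U hU gy)),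
          hval U hU n _ le_rfl _ _ (hzt _ U hU gx), hval U hU n _ le_rfl _ _ (hzt _ U hU gy), map_add])
      (fun U V hU hV h x => by
        let m := max (m₀ U hU n) (m₀ V hV n)
        obtain ⟨g, rfl⟩ := tr_surjective hG ((hm₀ U hU n).trans (le_max_left _ (m₀ V hV n))) hU x
        have hz := hzt m U hU g
        show val V hV n (rs _ h ((tr G n m _).app U g)) = rs _ h (val U hU n ((tr G n m _).app U g))
        rw [hval U hU n m (le_max_left _ _) g _ hz, ← HomSh.app_rs, ← HomSh.app_rs]
        exact hval V hV n m (le_max_right _ _) _ _ (hres m U V h g _ hz))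
      (fun U hU r x => by
        obtain ⟨g, rfl⟩ := tr_surjective hG (hm₀ U hU n) hU x
        show val U hU n (r • _) = r • val U hU n _
        rw [← Scheme.Modules.Hom.app_smul, hval U hU n _ le_rfl _ _ (hsmul _ _ r _ _ (hzt _ U hU g)),
          hval U hU n _ le_rfl _ _ (hzt _ U hU g), Scheme.Modules.Hom.app_smul])
    exact ⟨α, hα⟩
  choose α hα using hα
  refine ⟨NatTrans.ofOpSequence (G := Formal.completion I H) (fun n => α n) fun n => ?_, fun U hU n =>
    ⟨m₀ U hU n, hm₀ U hU n, fun m hm hm' g z hz => (hα n U hU _).trans (hval U hU n m hm' g z hz)⟩⟩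
  rw [show (Formal.completion I H).map (homOfLE (Nat.le_succ n)).op = modPowTrans I (n + 1) H from
    Existence.completion_tr I H n]
  refine AffineBC.hom_ext_affine _ _ fun U hU x => ?_
  show (α n).app U ((tr G n (n + 1) (Nat.le_succ n)).app U x) =
    (modPowTrans I (n + 1) H).app U ((α (n + 1)).app U x)
  let m := max (m₀ U hU n) (m₀ U hU (n + 1))
  have hm : n + 1 ≤ m := (hm₀ U hU (n + 1)).trans (le_max_right _ _)
  obtain ⟨g, rfl⟩ := tr_surjective hG hm hU x
  have hz := hzt m U hU g
  rw [tr_app_comp, hα n U hU, hα (n + 1) U hU, hval U hU n m (le_max_left _ _) g _ hz, hval U hU (n + 1) m (le_max_right _ _) g _ hz,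
    ← modPowπ_trans I (n + 1) H]
  rfl

end Groth.L16.Exist
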