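import Groth.Agent.L16.Exist.Reduce

/-!
Completion is fully faithful on maps of coherent modules, one of which is annihilated by a power of the ideal.
-/

set_option autoImplicit false
set_option linter.style.haveILetI false
set_option backward.isDefEq.respectTransparency false
set_option backward.isDefEq.respectTransparency.types false

universe u

open CategoryTheory CategoryTheory.Limits AlgebraicGeometry TopologicalSpace Opposite

noncomputable section

namespace Groth.L16.Exist

open Groth.L18.Frame (rs ro rs_rs rs_smul rs_self)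
open Formal (smulMod smulFamily modPow modPowπ modPowTrans modPowπ_trans)
open AffineBC (scal)

section Algebra

variable {R N : Type u} [CommRing R] [IsNoetherianRing R] [AddCommGroup N] [Module R N] [Module.Finite R N]

/-- Elements killed by a power of an ideal which are close to zero vanish. -/
theorem exists_torsion_separated (J : Ideal R) (c : ℕ) :
    ∃ k : ℕ, ∀ t : N, (∀ r ∈ J ^ c, r • t = 0) → t ∈ J ^ k • (⊤ : Submodule R N) → t = 0 := by
  let T : Submodule R N :=
    { carrier := {t | ∀ r ∈ J ^ c, r • t = 0}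
      zero_mem' := fun r _ => smul_zero r
      add_mem' := fun {a b} ha hb r hr => by rw [smul_add, ha r hr, hb r hr, add_zero]
      smul_mem' := fun s a ha r hr => by rw [smul_comm, ha r hr, smul_zero] }
  obtain ⟨k, hk⟩ := Ideal.exists_pow_inf_eq_pow_smul J T
  refine ⟨k + c, fun t ht h => ?_⟩
  have h1 : t ∈ J ^ (k + c) • (⊤ : Submodule R N) ⊓ T := ⟨h, ht⟩
  rw [hk (k + c) (Nat.le_add_right _ _), Nat.add_sub_cancel_left] at h1
  have h2 : t ∈ J ^ c • T := Submodule.smul_mono le_rfl inf_le_right h1
  exact Submodule.smul_induction_on h2 (fun r hr y hy => hy r hr) fun a b ha hb => by rw [ha, hb, add_zero]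

/-- Compatible families killed by a power of an ideal come from killed elements. -/
theorem exists_torsion_limit (J : Ideal R) (c : ℕ) (x : ℕ → N)
    (hx : ∀ n, x (n + 1) - x n ∈ J ^ (n + 1) • (⊤ : Submodule R N))
    (hk : ∀ n, ∀ r ∈ J ^ c, r • x n ∈ J ^ (n + 1) • (⊤ : Submodule R N)) :
    ∃ t : N, (∀ r ∈ J ^ c, r • t = 0) ∧ ∀ n, x n - t ∈ J ^ (n + 1) • (⊤ : Submodule R N) := by
  classical
  obtain ⟨s, hs⟩ := (IsNoetherian.noetherian (J ^ c) : (J ^ c).FG)
  let σ : N →ₗ[R] (s → N) := LinearMap.pi fun r => (r : R) • LinearMap.id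
  obtain ⟨k, hk'⟩ := Ideal.exists_pow_inf_eq_pow_smul J (LinearMap.range σ)
  obtain ⟨k', hsep⟩ := exists_torsion_separated (N := N) J c
  have hker : ∀ t, σ t = 0 → ∀ r ∈ J ^ c, r • t = 0 := by
    intro t ht r hr
    rw [← hs] at hr
    induction hr using Submodule.span_induction with
    | mem b hb => exact congrFun ht ⟨b, hb⟩
    | zero => rw [zero_smul]
    | add a b _ _ h h' => rw [add_smul, h, h', add_zero]
    | smul a b _ h => rw [smul_eq_mul, mul_smul, h, smul_zero]
  have hdec : ∀ n, ∃ t, σ t = 0 ∧ x n - t ∈ J ^ (n + 1 - k) • (⊤ : Submodule R N) := by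
    intro n
    by_cases hn : k ≤ n + 1
    · have h1 : σ (x n) ∈ J ^ (n + 1) • (⊤ : Submodule R (s → N)) := by
        have e : σ (x n) = ∑ r : s, LinearMap.single R (fun _ => N) r ((r : R) • x n) := by
          funext r
          rw [Finset.sum_apply, Finset.sum_eq_single r]
          · rw [LinearMap.single_apply, Pi.single_eq_same]
            rfl
          · intro r' _ hne
            rw [LinearMap.single_apply, Pi.single_eq_of_ne hne.symm]
          · exact fun h => absurd (Finset.mem_univ r) h
        rw [e]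
        refine Submodule.sum_mem _ fun r _ => ?_
        have h2 := Submodule.mem_map_of_mem (f := LinearMap.single R (fun _ : s => N) r)
          (hk n r (hs ▸ Submodule.subset_span r.2))
        rw [Submodule.map_smul''] at h2
        exact Submodule.smul_mono le_rfl le_top h2
      have h3 : σ (x n) ∈ J ^ (n + 1) • (⊤ : Submodule R (s → N)) ⊓ LinearMap.range σ := ⟨h1, x n, rfl⟩
      rw [hk' (n + 1) hn] at h3
      have h4 : σ (x n) ∈ Submodule.map σ (J ^ (n + 1 - k) • ⊤) := by
        rw [Submodule.map_smul'', Submodule.map_top]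
        exact Submodule.smul_mono le_rfl inf_le_right h3
      obtain ⟨w, hw, hwx⟩ := h4
      exact ⟨x n - w, by rw [map_sub, hwx, sub_self], by rw [sub_sub_cancel]; exact hw⟩
    · refine ⟨0, map_zero σ, ?_⟩
      rw [Nat.sub_eq_zero_of_le (le_of_not_ge hn), pow_zero, Ideal.one_eq_top, Submodule.top_smul]
      trivial
  choose t ht₀ ht using hdec
  have hpow : ∀ {a b : ℕ}, a ≤ b → J ^ b • (⊤ : Submodule R N) ≤ J ^ a • ⊤ := fun h =>
    Submodule.smul_mono (Ideal.pow_le_pow_right h) le_rfl
  have hdiff : ∀ n m, n ≤ m → x m - x n ∈ J ^ (n + 1) • (⊤ : Submodule R N) := by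
    intro n m h
    induction m, h using Nat.le_induction with
    | base => rw [sub_self]; exact zero_mem _
    | succ l hl ih =>
      rw [← sub_add_sub_cancel (x (l + 1)) (x l) (x n)]
      exact add_mem (hpow (by omega) (hx l)) ih
  let n₀ := k + k'
  have hstab : ∀ m, n₀ ≤ m → t m = t n₀ := by
    intro m h
    refine sub_eq_zero.1 (hsep _ (hker _ (by rw [map_sub, ht₀, ht₀, sub_self])) ?_)
    rw [show t m - t n₀ = (x n₀ - t n₀) - (x m - t m) + (x m - x n₀) by abel]
    exact add_mem (sub_mem (hpow (by omega) (ht n₀)) (hpow (by omega) (ht m))) (hpow (by omega) (hdiff n₀ m h))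
  refine ⟨t n₀, hker _ (ht₀ _), fun n => ?_⟩
  let m := n₀ + n + k
  rw [← hstab m (by omega), show x n - t m = (x m - t m) - (x m - x n) by abel]
  exact sub_mem (hpow (by omega) (ht m)) (hdiff n m (by omega))

end Algebra

variable {A : Type u} [CommRing A] {X : Scheme.{u}} [X.Over (Spec (CommRingCat.of A))] (I : Ideal A)
  [AlgebraicGeometry.IsNoetherian X] {M N : X.Modules}

omit [AlgebraicGeometry.IsNoetherian X] in
theorem smul_eq_zero_of_smulMod {E : X.Modules} {U : X.Opens} {c : ℕ} (y : Γ(E, U))
    (h : ∀ a ∈ I ^ c, (smulMod A E a).app U y = 0) : ∀ r ∈ (I.map (scal A X U)) ^ c, r • y = 0 := by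
  intro r hr
  rw [← Ideal.map_pow] at hr
  induction hr using Submodule.span_induction with
  | mem b hb =>
    obtain ⟨a, ha, rfl⟩ := hb
    rw [← HomSh.smulMod_app]
    exact h a ha
  | zero => rw [zero_smul]
  | add a b _ _ h h' => rw [add_smul, h, h', add_zero]
  | smul a b _ h => rw [smul_eq_mul, mul_smul, h, smul_zero]

/-- Compatible maps into the reductions come from a unique map, if a power of the ideal kills one side. -/
theorem existsUnique_hom_torsion (hN : Coh.IsCoh N) {c : ℕ}
    (hc : Formal.KilledBy (I ^ c) M ∨ Formal.KilledBy (I ^ c) N)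
    (f : ∀ n : ℕ, M ⟶ modPow I (n + 1) N) (hf : ∀ n, f (n + 1) ≫ modPowTrans I (n + 1) N = f n) :
    ∃! φ : M ⟶ N, ∀ n, f n = φ ≫ modPowπ I (n + 1) N := by
  classical
  haveI : Coh.IsQCoh N := hN.1
  have hfk : ∀ n (U : X.Opens) (x : Γ(M, U)), ∀ a ∈ I ^ c, (smulMod A _ a).app U ((f n).app U x) = 0 := by
    intro n U x a ha
    have e : f n ≫ smulMod A (modPow I (n + 1) N) a = 0 := by
      rcases hc with h | h
      · rw [← Rees.smulMod_naturality, h a ha, zero_comp]
      · haveI := Existence.epi_modPowπ I (n + 1) N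
        have e0 : smulMod A (modPow I (n + 1) N) a = 0 := by
          rw [← cancel_epi (modPowπ I (n + 1) N), ← Rees.smulMod_naturality, h a ha, zero_comp, comp_zero]
        rw [e0, comp_zero]
    exact app_eq e x
  let Good : ∀ (U : X.Opens), Γ(M, U) → Γ(N, U) → Prop := fun U x t =>
    (∀ a ∈ I ^ c, (smulMod A N a).app U t = 0) ∧ ∀ n, (modPowπ I (n + 1) N).app U t = (f n).app U x
  have hex : ∀ U, IsAffineOpen U → ∀ x, ∃ t, Good U x t := by
    intro U hU x
    haveI : IsNoetherianRing Γ(X, U) := IsLocallyNoetherian.component_noetherian ⟨U, hU⟩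
    haveI := Groth.L20.ModStalk.finite_sections N hN hU
    choose y hy using fun n => ((modPow_spec I hN (n + 1)).2 U hU).1 ((f n).app U x)
    have hy₁ : ∀ n, y (n + 1) - y n ∈ I.map (scal A X U) ^ (n + 1) • (⊤ : Submodule Γ(X, U) Γ(N, U)) := fun n => by
      refine (((modPow_spec I hN (n + 1)).2 U hU).2 _).1 ?_
      rw [map_sub, hy n, sub_eq_zero, ← hf n]
      show _ = (modPowTrans I (n + 1) N).app U ((f (n + 1)).app U x)
      rw [← hy (n + 1)]
      exact (app_eq (modPowπ_trans I (n + 1) N) (y (n + 1))).symm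
    have hy₂ : ∀ n, ∀ r ∈ I.map (scal A X U) ^ c, r • y n ∈ I.map (scal A X U) ^ (n + 1) • (⊤ : Submodule Γ(X, U) Γ(N, U)) := fun n r hr => by
      refine (((modPow_spec I hN (n + 1)).2 U hU).2 _).1 ?_
      rw [Scheme.Modules.Hom.app_smul, hy n]
      exact smul_eq_zero_of_smulMod I _ (hfk n U x) r hr
    obtain ⟨t, ht, ht'⟩ := exists_torsion_limit (I.map (scal A X U)) c y hy₁ hy₂
    refine ⟨t, fun a ha => ?_, fun n => ?_⟩
    · rw [HomSh.smulMod_app]
      exact ht _ (by rw [← Ideal.map_pow]; exact Ideal.mem_map_of_mem _ ha)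
    · rw [← hy n]
      refine (sub_eq_zero.1 ?_).symm
      rw [← map_sub]
      exact (((modPow_spec I hN (n + 1)).2 U hU).2 _).2 (ht' n)
  have huniq : ∀ U, IsAffineOpen U → ∀ x t t', Good U x t → Good U x t' → t = t' := by
    intro U hU x t t' h h'
    haveI : IsNoetherianRing Γ(X, U) := IsLocallyNoetherian.component_noetherian ⟨U, hU⟩
    haveI := Groth.L20.ModStalk.finite_sections N hN hU
    obtain ⟨k, hk⟩ := exists_torsion_separated (N := Γ(N, U)) (I.map (scal A X U)) c
    refine sub_eq_zero.1 (hk _ (smul_eq_zero_of_smulMod I _ fun a ha => by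
      rw [map_sub, h.1 a ha, h'.1 a ha, sub_self]) ?_)
    refine Submodule.smul_mono (Ideal.pow_le_pow_right (Nat.le_succ k)) le_rfl ?_
    refine (((modPow_spec I hN (k + 1)).2 U hU).2 _).1 ?_
    rw [map_sub, h.2, h'.2, sub_self]
  choose val hval using hex
  obtain ⟨φ, hφ⟩ := AffineBC.exists_hom_affine (M := M) (N := N)
    (fun U hU => AddMonoidHom.mk' (val U hU) fun x y => by
      refine huniq U hU _ _ _ (hval U hU _) ⟨fun a ha => ?_, fun n => ?_⟩
      · rw [map_add, (hval U hU x).1 a ha, (hval U hU y).1 a ha, add_zero]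
      · rw [map_add, map_add, (hval U hU x).2, (hval U hU y).2])
    (fun U V hU hV h x => by
      refine huniq V hV _ _ _ (hval V hV _) ⟨fun a ha => ?_, fun n => ?_⟩
      · refine (HomSh.app_rs (smulMod A N a) h (val U hU x)).trans ?_
        rw [(hval U hU x).1 a ha]
        exact map_zero _
      · refine (HomSh.app_rs (modPowπ I (n + 1) N) h (val U hU x)).trans ?_
        rw [(hval U hU x).2]
        exact (HomSh.app_rs (f n) h x).symm)
    (fun U hU r x => by
      refine huniq U hU _ _ _ (hval U hU _) ⟨fun a ha => ?_, fun n => ?_⟩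
      · show (smulMod A N a).app U (r • val U hU x) = 0
        rw [Scheme.Modules.Hom.app_smul, (hval U hU x).1 a ha, smul_zero]
      · show (modPowπ I (n + 1) N).app U (r • val U hU x) = (f n).app U (r • x)
        rw [Scheme.Modules.Hom.app_smul, Scheme.Modules.Hom.app_smul, (hval U hU x).2])
  refine ⟨φ, fun n => ?_, fun φ' hφ' => ?_⟩
  · haveI : Coh.IsQCoh (modPow I (n + 1) N) := (modPow_spec I hN (n + 1)).1.1
    refine AffineBC.hom_ext_affine _ _ fun U hU x => ?_
    show _ = (modPowπ I (n + 1) N).app U (φ.app U x)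
    rw [hφ U hU x]
    exact ((hval U hU x).2 n).symm
  · refine AffineBC.hom_ext_affine _ _ fun U hU x => ?_
    rw [hφ U hU x]
    refine huniq U hU x _ _ ⟨fun a ha => ?_, fun n => (app_eq (hφ' n) x).symm⟩ (hval U hU x)
    have e : φ' ≫ smulMod A N a = 0 := by
      rcases hc with h | h
      · rw [← Rees.smulMod_naturality, h a ha, zero_comp]
      · rw [h a ha, comp_zero]
    exact app_eq e x

/-- Completion is fully faithful if a power of the ideal kills one side. -/
theorem existsUnique_of_completion_torsion (hN : Coh.IsCoh N) {c : ℕ}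
    (hc : Formal.KilledBy (I ^ c) M ∨ Formal.KilledBy (I ^ c) N)
    (ψ : Formal.completion I M ⟶ Formal.completion I N) :
    ∃! φ : M ⟶ N, ∀ n : ℕ, modPowπ I (n + 1) M ≫ ψ.app (op n) = φ ≫ modPowπ I (n + 1) N := by
  refine existsUnique_hom_torsion I hN hc (fun n => modPowπ I (n + 1) M ≫ ψ.app (op n)) fun n => ?_
  have hn := ψ.naturality (homOfLE (Nat.le_succ n)).op
  simp only [Formal.completion, Functor.ofOpSequence_map_homOfLE_succ] at hn
  show (modPowπ I (n + 1 + 1) M ≫ ψ.app (op (n + 1))) ≫ modPowTrans I (n + 1) N = _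
  rw [← modPowπ_trans I (n + 1) M, Category.assoc, Category.assoc]
  exact congrArg (fun t => modPowπ I (n + 1 + 1) M ≫ t) hn.symm

end Groth.L16.Exist
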