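import Groth.Agent.L16.Exist.TorsionLeft
import Mathlib.CategoryTheory.Abelian.FunctorCategory

/-!
Tools for algebraisation up to torsion: finitely many generators, torsion free quotients, separation of completions,
and partial inverses of maps of systems with torsion kernel and cokernel.
-/

set_option autoImplicit false
set_option linter.style.haveILetI false
set_option backward.isDefEq.respectTransparency false
set_option backward.isDefEq.respectTransparency.types false

universe u

open CategoryTheory CategoryTheory.Limits AlgebraicGeometry TopologicalSpace Opposite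

noncomputable section

namespace Groth.L16.Exist

open Groth.L18.Frame (rs ro rs_rs rs_smul rs_self)
open Formal (smulMod smulFamily modPow modPowπ modPowTrans modPowπ_trans)
open AffineBC (scal)
open Existence (tr)

variable {A : Type u} [CommRing A] {X : Scheme.{u}} [X.Over (Spec (CommRingCat.of A))] (I : Ideal A)

/-- Multiplication by a scalar on a system. -/
def smulSys (F : ℕᵒᵖ ⥤ X.Modules) (a : A) : F ⟶ F where
  app n := smulMod A (F.obj n) a
  naturality _ _ f := (Rees.smulMod_naturality A (F.map f) a).symm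

/-- A partial inverse of a map of systems whose kernel and cokernel are killed. -/
theorem exists_partial_inverse {G F : ℕᵒᵖ ⥤ X.Modules} (α : G ⟶ F) (a b : A)
    (hk : ∀ n, smulMod A (kernel (α.app (op n))) b = 0)
    (hc : ∀ n, smulMod A (cokernel (α.app (op n))) a = 0) :
    ∃ β : F ⟶ G, (∀ n, α.app (op n) ≫ β.app (op n) = smulMod A (G.obj (op n)) (a * b)) ∧
      ∀ n, β.app (op n) ≫ α.app (op n) = smulMod A (F.obj (op n)) (a * b) := by
  have h1 : smulSys F a ≫ cokernel.π α = 0 := by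
    refine NatTrans.ext (funext fun k => ?_)
    obtain ⟨n⟩ := k
    show smulMod A (F.obj (op n)) a ≫ (cokernel.π α).app (op n) = 0
    have h0 : α.app (op n) ≫ (cokernel.π α).app (op n) = 0 := by
      rw [← NatTrans.comp_app, cokernel.condition, zero_app]
    rw [← cokernel.π_desc (α.app (op n)) _ h0, ← Category.assoc, Rees.smulMod_naturality, hc n, comp_zero, zero_comp]
  have h2 : kernel.ι α ≫ smulSys G b = 0 := by
    refine NatTrans.ext (funext fun k => ?_)
    obtain ⟨n⟩ := k
    show (kernel.ι α).app (op n) ≫ smulMod A (G.obj (op n)) b = 0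
    have h0 : (kernel.ι α).app (op n) ≫ α.app (op n) = 0 := by
      rw [← NatTrans.comp_app, kernel.condition, zero_app]
    rw [← kernel.lift_ι (α.app (op n)) _ h0, Category.assoc, ← Rees.smulMod_naturality, hk n, zero_comp, comp_zero]
  let ι := Abelian.image.ι α
  let π := Abelian.factorThruImage α
  have hπι : π ≫ ι = α := Abelian.image.fac α
  let b₁ : F ⟶ Abelian.image α := kernel.lift _ (smulSys F a) h1
  have hb₁ : b₁ ≫ ι = smulSys F a := kernel.lift_ι _ _ _
  have h3 : kernel.ι π ≫ smulSys G b = 0 := by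
    have h0 : kernel.ι π ≫ α = 0 :=
      (congrArg (kernel.ι π ≫ ·) hπι.symm).trans (by rw [kernel.condition_assoc, zero_comp])
    rw [← kernel.lift_ι α _ h0, Category.assoc, h2, comp_zero]
  let b₂ : Abelian.image α ⟶ G := Abelian.epiDesc π (smulSys G b) h3
  have hb₂ : π ≫ b₂ = smulSys G b := Abelian.comp_epiDesc _ _ _
  have hnat : ∀ {P Q : ℕᵒᵖ ⥤ X.Modules} (φ : P ⟶ Q) (c : A), smulSys P c ≫ φ = φ ≫ smulSys Q c := fun φ c =>
    NatTrans.ext (funext fun k => Rees.smulMod_naturality A (φ.app k) c)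
  have hmul : ∀ (P : ℕᵒᵖ ⥤ X.Modules) (n : ℕ) (c d : A),
      (smulSys P c ≫ smulSys P d).app (op n) = smulMod A (P.obj (op n)) (d * c) := fun P n c d =>
    (Rees.smulMod_mul A (P.obj (op n)) d c).symm
  have e1 : α ≫ b₁ = smulSys G a ≫ π := by
    rw [← cancel_mono ι, Category.assoc, hb₁, Category.assoc, hπι, hnat]
  have e2 : b₂ ≫ α = smulSys _ b ≫ ι := by
    rw [← cancel_epi π, ← Category.assoc, hb₂, ← Category.assoc, ← hnat, Category.assoc, hπι]
  refine ⟨b₁ ≫ b₂, fun n => ?_, fun n => ?_⟩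
  · rw [← NatTrans.comp_app, ← Category.assoc, e1, Category.assoc, hb₂, hmul, mul_comm]
  · rw [← NatTrans.comp_app, Category.assoc, e2, ← Category.assoc, ← hnat b₁, Category.assoc, hb₁, hmul]

variable [AlgebraicGeometry.IsNoetherian X]

/-- Finitely many elements of a power of the ideal suffice to detect annihilation by it. -/
theorem exists_gens (e : ℕ) : ∃ S : Finset A, (S : Set A) ⊆ (I ^ e : Ideal A) ∧
    ∀ {M N : X.Modules} (f : M ⟶ N), (∀ s ∈ S, f ≫ smulMod A N s = 0) → ∀ a ∈ I ^ e, f ≫ smulMod A N a = 0 := by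
  classical
  obtain ⟨T, hT⟩ := HomSh.exists_finite_affine_cover X
  have hfin : ∀ U : X.affineOpens, ∃ S : Finset A, (S : Set A) ⊆ (I ^ e : Ideal A) ∧
      ∀ a ∈ I ^ e, scal A X U.1 a ∈ (Ideal.span (S : Set A)).map (scal A X U.1) := by
    intro U
    haveI : IsNoetherianRing Γ(X, U.1) := IsLocallyNoetherian.component_noetherian U
    obtain ⟨s, hs⟩ := IsNoetherian.noetherian ((I ^ e).map (scal A X U.1))
    have : ∀ r ∈ s, ∃ S : Finset A, (S : Set A) ⊆ (I ^ e : Ideal A) ∧
        r ∈ (Ideal.span (S : Set A)).map (scal A X U.1) := by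
      intro r hr
      have h1 : r ∈ (I ^ e).map (scal A X U.1) := hs ▸ Submodule.subset_span hr
      obtain ⟨T', hT', hr'⟩ := Submodule.mem_span_finite_of_mem_span h1
      choose g hg hge using fun x : T' => hT' x.2
      refine ⟨Finset.univ.image g, fun a ha => ?_, ?_⟩
      · obtain ⟨x, -, rfl⟩ := Finset.mem_image.1 (Finset.mem_coe.1 ha)
        exact hg x
      · refine Submodule.span_le.2 (fun x hx => ?_) hr'
        have e : scal A X U.1 (g ⟨x, hx⟩) = x := hge _
        exact e ▸ Ideal.mem_map_of_mem _ (Ideal.subset_span (by simp))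
    choose S hS hS' using this
    refine ⟨s.attach.biUnion fun r => S r.1 r.2, fun a ha => ?_, fun a ha => ?_⟩
    · obtain ⟨r, -, hr⟩ := Finset.mem_biUnion.1 (Finset.mem_coe.1 ha)
      exact hS r.1 r.2 hr
    · have h2 : scal A X U.1 a ∈ Ideal.span (s : Set _) := hs.ge (Ideal.mem_map_of_mem _ ha)
      refine Submodule.span_le.2 (fun r hr => ?_) h2
      refine Ideal.map_mono (Ideal.span_mono fun b hb => ?_) (hS' r hr)
      exact Finset.mem_biUnion.2 ⟨⟨r, hr⟩, Finset.mem_attach _ _, hb⟩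
  choose S hS hS' using hfin
  refine ⟨T.biUnion S, fun a ha => ?_, fun {M N} f hf a ha => ?_⟩
  · obtain ⟨U, -, hU⟩ := Finset.mem_biUnion.1 (Finset.mem_coe.1 ha)
    exact hS U hU
  refine hom_eq_zero_of_cover _ (fun U : T => U.1.1) (fun x => by
    obtain ⟨U, hU, hx⟩ := hT x; exact ⟨⟨U, hU⟩, hx⟩) fun U W _ hWU x => ?_
  show (smulMod A N a).app W (f.app W x) = 0
  rw [HomSh.smulMod_app]
  have h1 : scal A X W a ∈ (Ideal.span ((T.biUnion S : Finset A) : Set A)).map (scal A X W) := by
    have h2 := Ideal.mem_map_of_mem (X.presheaf.map (homOfLE hWU).op).hom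
      (Ideal.map_mono (Ideal.span_mono (Finset.coe_subset.2 (Finset.subset_biUnion_of_mem S U.2))) (hS' U.1 a ha))
    rw [Ideal.map_map] at h2
    rw [← scal_res a hWU, show scal A X W = (X.presheaf.map (homOfLE hWU).op).hom.comp (scal A X U.1.1) from
      RingHom.ext fun b => (scal_res b hWU).symm]
    exact h2
  generalize scal A X W a = b at h1 ⊢
  induction h1 using Submodule.span_induction with
  | mem b hb =>
    obtain ⟨c, hc, rfl⟩ := hb
    induction hc using Submodule.span_induction with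
    | mem c hc =>
      rw [← HomSh.smulMod_app]
      exact app_eq (hf c hc) x
    | zero => rw [map_zero, zero_smul]
    | add b c _ _ h h' => rw [map_add, add_smul, h, h', add_zero]
    | smul b c _ h => rw [smul_eq_mul, map_mul, mul_smul, h, smul_zero]
  | zero => rw [zero_smul]
  | add b c _ _ h h' => rw [add_smul, h, h', add_zero]
  | smul b c _ h => rw [smul_eq_mul, mul_smul, h, smul_zero]

omit [AlgebraicGeometry.IsNoetherian X] in
/-- A map from a quasi-coherent module which vanishes on an affine cover is zero. -/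
theorem hom_eq_zero_of_sections {M N : X.Modules} [Coh.IsQCoh M] (g : M ⟶ N) {ι : Type u}
    (U : ι → X.affineOpens) (hU : ∀ x, ∃ i, x ∈ (U i).1)
    (h : ∀ i (x : Γ(M, (U i).1)), g.app (U i).1 x = 0) : g = 0 := by
  refine hom_eq_zero_of_cover _ (fun i => (U i).1) hU fun i W _ hWU x => ?_
  let J := {a : Γ(X, (U i).1) // X.basicOpen a ≤ W}
  refine HomSh.ext_cover N (fun a : J => X.basicOpen a.1) (fun a => a.2) (fun y hy => ?_) fun a => ?_
  · obtain ⟨a, ha, hya⟩ := (U i).2.exists_basicOpen_le (⟨y, hy⟩ : W) (hWU hy)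
    exact Opens.mem_iSup.2 ⟨⟨a, ha⟩, hya⟩
  · obtain ⟨n, t, ht⟩ := QCohSect.exists_pow_smul_eq_res (U i).2 M a.1 (rs M a.2 x)
    have h1 := congrArg (g.app (X.basicOpen a.1)) ht
    rw [Scheme.Modules.Hom.app_smul, HomSh.app_rs, HomSh.app_rs, h i t,
      show rs N (X.basicOpen_le a.1) (0 : Γ(N, (U i).1)) = 0 from map_zero _] at h1
    rw [show rs N a.2 (0 : Γ(N, W)) = 0 from map_zero _]
    exact (HomSh.isUnit_ro_pow a.1 n).smul_eq_zero.1 h1.symm

omit [AlgebraicGeometry.IsNoetherian X] in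
theorem redMap_sum {ι : Type*} (s : Finset ι) {M N : X.Modules} (φ : ι → (M ⟶ N)) (m : ℕ) :
    redMap I m (∑ i ∈ s, φ i) = ∑ i ∈ s, redMap I m (φ i) := by
  haveI := Existence.epi_modPowπ I m M
  rw [← cancel_epi (modPowπ I m M), π_redMap, Preadditive.sum_comp, Preadditive.comp_sum]
  exact Finset.sum_congr rfl fun i _ => (π_redMap I m (φ i)).symm

/-- The torsion free quotient of a coherent module. -/
theorem exists_torsionFree_quot {Q : X.Modules} (hQ : Coh.IsCoh Q) :
    ∃ (e : ℕ) (Q' : X.Modules) (q : Q ⟶ Q'), Epi q ∧ Coh.IsCoh Q' ∧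
      (∀ {M : X.Modules} (f : M ⟶ Q), f ≫ q = 0 → ∀ a ∈ I ^ e, f ≫ smulMod A Q a = 0) ∧
      ∀ {G : ℕᵒᵖ ⥤ X.Modules}, Formal.IsCohFormal I G → ∀ (γ : G ⟶ Formal.completion I Q') (c : ℕ),
        (∀ a ∈ I ^ c, ∀ n, γ.app (op n) ≫ smulMod A (modPow I (n + 1) Q') a = 0) → ∀ n, γ.app (op n) = 0 := by
  classical
  obtain ⟨T, hT⟩ := HomSh.exists_finite_affine_cover X
  haveI : Coh.IsQCoh Q := hQ.1
  -- stabilisation of the torsion
  have hstab : ∀ U : X.affineOpens, ∃ e, ∀ k, ∀ x : Γ(Q, U.1),
      (∀ r ∈ I.map (scal A X U.1) ^ k, r • x = 0) → ∀ r ∈ I.map (scal A X U.1) ^ e, r • x = 0 := by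
    intro U
    haveI : IsNoetherianRing Γ(X, U.1) := IsLocallyNoetherian.component_noetherian U
    haveI := Groth.L20.ModStalk.finite_sections Q hQ U.2
    let J := I.map (scal A X U.1)
    let tor : ℕ →o Submodule Γ(X, U.1) Γ(Q, U.1) :=
      ⟨fun k => { carrier := {x | ∀ r ∈ J ^ k, r • x = 0}
                  zero_mem' := fun r _ => smul_zero r
                  add_mem' := fun {a b} ha hb r hr => by rw [smul_add, ha r hr, hb r hr, add_zero]
                  smul_mem' := fun s a ha r hr => by rw [smul_comm, ha r hr, smul_zero] },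
        fun k l h x hx r hr => hx r (Ideal.pow_le_pow_right h hr)⟩
    obtain ⟨e, he⟩ := monotone_stabilizes_iff_noetherian.2 (inferInstance : IsNoetherian Γ(X, U.1) Γ(Q, U.1)) tor
    refine ⟨e, fun k x hx => ?_⟩
    have h1 : x ∈ tor (max k e) := fun r hr => hx r (Ideal.pow_le_pow_right (le_max_left k e) hr)
    rw [← he (max k e) (le_max_right k e)] at h1
    exact h1
  choose eU heU using hstab
  let e := T.sup eU
  obtain ⟨S, hS, hSk⟩ := exists_gens (X := X) I e
  haveI : HasFiniteBiproducts X.Modules := Abelian.hasFiniteBiproducts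
  let σ : Fin S.card → A := fun i => (S.equivFin.symm i).1
  let B : X.Modules := ⨁ (fun _ : Fin S.card => Q)
  have hBc : Coh.IsCoh B := CohSupport.isCoh_of_iso (biproduct.isoCoproduct _).symm
    (Existence.isCoh_sigma (fun _ : Fin S.card => Q) fun _ => hQ)
  let μ : Q ⟶ B := biproduct.lift fun i => smulMod A Q (σ i)
  let q := cokernel.π (kernel.ι μ)
  haveI hqe : Epi q := coequalizer.π_epi
  have hμq : q ≫ cokernel.desc _ μ (kernel.condition μ) = μ := cokernel.π_desc _ _ _
  have hB : ∀ (M : X.Modules) (f : M ⟶ Q), f ≫ μ = 0 → ∀ a ∈ I ^ e, f ≫ smulMod A Q a = 0 := fun M f hf =>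
    hSk f fun s hs => by
      have := congrArg (· ≫ biproduct.π _ (S.equivFin ⟨s, hs⟩)) hf
      simp only [μ, B, σ, Category.assoc, biproduct.lift_π, zero_comp, Equiv.symm_apply_apply] at this
      exact this
  have hQ' : Coh.IsCoh (cokernel (kernel.ι μ)) :=
    (CohKernel.isCoh_kernel_cokernel ((CohKernel.isCoh_kernel_cokernel hQ hBc μ).1) hQ (kernel.ι μ)).2
  refine ⟨e, _, q, hqe, hQ', fun {M} f hf => hB M f ?_, fun {G} hG γ c hγ n => ?_⟩
  · rw [← hμq, reassoc_of% hf, zero_comp]
  haveI : ∀ m, Coh.IsQCoh (G.obj (op m)) := fun m => (hG.1 m).1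
  refine hom_eq_zero_of_sections _ (fun U : T => U.1) (fun x => by
    obtain ⟨U, hU, hx⟩ := hT x; exact ⟨⟨U, hU⟩, hx⟩) fun U x => ?_
  obtain ⟨U, hUT⟩ := U
  haveI : IsNoetherianRing Γ(X, U.1) := IsLocallyNoetherian.component_noetherian U
  haveI := Groth.L20.ModStalk.finite_sections (cokernel (kernel.ι μ)) hQ' U.2
  obtain ⟨hfin, hsurj, hkr⟩ := sect_spec hG U.1 U.2
  haveI := hfin
  obtain ⟨g, hg, rfl⟩ := exists_family (I.map (scal A X U.1)) (fun m => Γ(G.obj (op m), U.1)) (trL (G := G) U.1)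
    (fun m b hb x => sect_killed hG U.1 m b hb x) hsurj hkr n x
  choose y hy using fun m => ((modPow_spec I hQ' (m + 1)).2 U.1 U.2).1 ((γ.app (op m)).app U.1 (g m))
  obtain ⟨t, ht, ht'⟩ := exists_torsion_limit (I.map (scal A X U.1)) c y (fun m => by
      refine (((modPow_spec I hQ' (m + 1)).2 U.1 U.2).2 _).1 ?_
      rw [map_sub, hy m, sub_eq_zero, ← hg m]
      refine Eq.trans ?_ (app_eq (γ.naturality (homOfLE (Nat.le_succ m)).op) (g (m + 1))).symm
      show _ = (tr (Formal.completion I _) m (m + 1) (Nat.le_succ m)).app U.1 ((γ.app (op (m + 1))).app U.1 (g (m + 1)))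
      rw [← hy (m + 1)]
      exact (modPow_app_tr I _ (Nat.le_succ m) (y (m + 1))).symm)
    (fun m r hr => by
      refine (((modPow_spec I hQ' (m + 1)).2 U.1 U.2).2 _).1 ?_
      rw [Scheme.Modules.Hom.app_smul, hy m]
      exact smul_eq_zero_of_smulMod I _ (fun a ha => app_eq (hγ a ha m) (g m)) r hr)
  -- the torsion free quotient has no torsion
  haveI : Coh.IsQCoh (cokernel (kernel.ι μ)) := hQ'.1
  obtain ⟨t₀, ht₀⟩ := AffineBC.surjective_app_of_epi q U.2 t
  subst ht₀
  have hker : ∀ z, q.app U.1 z = 0 → ∀ r ∈ I.map (scal A X U.1) ^ e, r • z = 0 := fun z hz => by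
    obtain ⟨k, hk⟩ := HomSh.exists_kernel_lift q z hz
    refine smul_eq_zero_of_smulMod I _ fun a ha => ?_
    rw [← hk]
    refine app_eq (hB _ (kernel.ι q) ?_ a ha) k
    exact (congrArg (kernel.ι q ≫ ·) hμq.symm).trans (by rw [kernel.condition_assoc, zero_comp])
  have ht₁ : ∀ r ∈ I.map (scal A X U.1) ^ e, r • t₀ = 0 := by
    intro r hr
    refine heU U (c + e) t₀ (fun r' hr' => ?_) r (Ideal.pow_le_pow_right (Finset.le_sup hUT) ?_)
    · rw [pow_add] at hr'
      refine Submodule.mul_induction_on hr' (fun p hp s hs => ?_) fun a b ha hb => by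
        rw [add_smul, ha, hb, add_zero]
      rw [mul_comm, mul_smul]
      exact hker _ (by rw [Scheme.Modules.Hom.app_smul]; exact ht p hp) s hs
    · exact hr
  have ht₂ : q.app U.1 t₀ = 0 := by
    have hμ : μ.app U.1 t₀ = 0 := by
      have h2 : ∀ i, (biproduct.π (fun _ : Fin S.card => Q) i).app U.1 (μ.app U.1 t₀) = 0 := fun i => by
        refine (app_eq (biproduct.lift_π (fun i => smulMod A Q (σ i)) i) t₀).trans ?_
        rw [HomSh.smulMod_app]
        exact ht₁ _ (by rw [← Ideal.map_pow]; exact Ideal.mem_map_of_mem _ (hS (S.equivFin.symm i).2))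
      have e1 := app_eq (biproduct.total (f := fun _ : Fin S.card => Q)).symm (μ.app U.1 t₀)
      refine e1.trans ?_
      refine (map_sum (AddMonoidHom.mk' (fun φ : B ⟶ B => φ.app U.1 (μ.app U.1 t₀)) fun _ _ => rfl) _ _).trans ?_
      refine Finset.sum_eq_zero fun i _ => ?_
      show (biproduct.ι (fun _ : Fin S.card => Q) i).app U.1 _ = 0
      exact (congrArg _ (h2 i)).trans (map_zero _)
    obtain ⟨k, hk⟩ := HomSh.exists_kernel_lift μ t₀ hμ
    rw [← hk]
    exact app_eq (cokernel.condition (kernel.ι μ)) k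
  rw [ht₂] at ht'
  rw [← hy n]
  refine (((modPow_spec I hQ' (n + 1)).2 U.1 U.2).2 _).2 ?_
  have := ht' n
  rwa [sub_zero] at this

/-- Separation: maps of formal modules into completions are detected after a monomorphism. -/
theorem eq_zero_of_comp_mono {J H : X.Modules} (hJ : Coh.IsCoh J) (hH : Coh.IsCoh H) (j : J ⟶ H) [Mono j]
    {G : ℕᵒᵖ ⥤ X.Modules} (hG : Formal.IsCohFormal I G) (u : G ⟶ Formal.completion I J)
    (hu : ∀ n, u.app (op n) ≫ redMap I (n + 1) j = 0) : ∀ n, u.app (op n) = 0 := by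
  intro n
  haveI : ∀ m, Coh.IsQCoh (G.obj (op m)) := fun m => (hG.1 m).1
  haveI : Coh.IsQCoh J := hJ.1
  haveI : Coh.IsQCoh H := hH.1
  refine AffineBC.hom_ext_affine _ _ fun U hU x => ?_
  haveI : IsNoetherianRing Γ(X, U) := IsLocallyNoetherian.component_noetherian ⟨U, hU⟩
  haveI := Groth.L20.ModStalk.finite_sections H hH hU
  let jL : Γ(J, U) →ₗ[Γ(X, U)] Γ(H, U) :=
    { toFun := j.app U, map_add' := map_add _, map_smul' := fun r y => j.app_smul r y }
  have hinj : Function.Injective jL := Acc.app_injective j U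
  obtain ⟨k, hk⟩ := Ideal.exists_pow_inf_eq_pow_smul (I.map (scal A X U)) (LinearMap.range jL)
  obtain ⟨g, rfl⟩ := tr_surjective hG (Nat.le_add_right n k) hU x
  obtain ⟨y, hy⟩ := ((modPow_spec I hJ (n + k + 1)).2 U hU).1 ((u.app (op (n + k))).app U g)
  have h1 : jL y ∈ I.map (scal A X U) ^ (n + k + 1) • (⊤ : Submodule Γ(X, U) Γ(H, U)) ⊓ LinearMap.range jL := by
    refine ⟨(((modPow_spec I hH (n + k + 1)).2 U hU).2 _).1 ?_, y, rfl⟩
    refine (app_eq (π_redMap I (n + k + 1) j) y).symm.trans ?_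
    show (redMap I (n + k + 1) j).app U ((modPowπ I (n + k + 1) J).app U y) = 0
    rw [hy]
    exact app_eq (hu (n + k)) g
  rw [hk (n + k + 1) (by omega), show n + k + 1 - k = n + 1 by omega] at h1
  have h2 : jL y ∈ Submodule.map jL (I.map (scal A X U) ^ (n + 1) • ⊤) := by
    rw [Submodule.map_smul'', Submodule.map_top]
    exact Submodule.smul_mono le_rfl inf_le_right h1
  obtain ⟨w, hw, hwy⟩ := h2
  show (u.app (op n)).app U ((tr G n (n + k) (Nat.le_add_right n k)).app U g) = 0
  refine (app_eq (u.naturality (homOfLE (Nat.le_add_right n k)).op) g).trans ?_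
  show (tr (Formal.completion I J) n (n + k) (Nat.le_add_right n k)).app U ((u.app (op (n + k))).app U g) = 0
  rw [← hy, modPow_app_tr, ← hinj hwy]
  exact (((modPow_spec I hJ (n + 1)).2 U hU).2 w).2 hw

end Groth.L16.Exist
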